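import Cfsg.Agent.H294.ClRho
import Cfsg.Agent.H293.ExcOdd
import Cfsg.Agent.H293.StdOdd
/-!
# The classical groups of characteristic 3: a quasisimple `A` of order 25920 normal in the fixed subgroup of an
involutory automorphism, with cyclic Sylow 2-subgroups of the centralizer (helper294)
-/

set_option autoImplicit false
set_option linter.unusedSectionVars false

namespace Cfsg.Agent.H294.ClRow

open Subgroup Cfsg QuadraticMap Cfsg.Agent.H340 Cfsg.Agent.BpCl Cfsg.Agent.H293 Cfsg.Agent.FixBN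
  Cfsg.Agent.H294.ClGeo Cfsg.Agent.H294.ClOrth
open Cfsg.Agent.LieClassical.OrthCore Cfsg.Agent.LieClassical.OrthTrans Cfsg.Agent.LieClassical.OrthFinite
open Cfsg.Agent.LieClassical.OrthForms Cfsg.Agent.ClassicalGeometry.OrthSemi Cfsg.Agent.ClassicalGeometry.OrthSemiForms

universe u v

section Map

variable {X : Type u} {Y : Type v} [Group X] [Group Y] (e : X ≃* Y) {α : MulAut X} {A : Subgroup X}

theorem mem_fix {x : X} : e x ∈ fixedSubgroup (MulAut.congr e α) ↔ x ∈ fixedSubgroup α := by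
  show e (α (e.symm (e x))) = e x ↔ α x = x
  rw [e.symm_apply_apply, e.injective.eq_iff]

theorem mem_cent {x : X} : e x ∈ centralizer ((A.map e.toMonoidHom : Subgroup Y) : Set Y) ↔
    x ∈ centralizer (A : Set X) := by
  rw [mem_centralizer_iff, mem_centralizer_iff]
  constructor
  · intro h a ha
    have := h (e a) ⟨a, ha, rfl⟩
    exact e.injective (by rw [map_mul, map_mul]; exact this)
  · rintro h _ ⟨a, ha, rfl⟩
    show e a * e x = e x * e a
    rw [← map_mul, h a ha, map_mul]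

theorem cfg_map [Finite X] [Finite Y] (h : Cfg α A) : Cfg (MulAut.congr e α) (A.map e.toMonoidHom) where
  sq := h.congr_sq e
  ne := by
    intro h1
    apply h.ne
    exact (MulAut.congr e).injective (h1.trans (map_one _).symm)
  le := by
    rintro _ ⟨a, ha, rfl⟩
    exact (mem_fix e).2 (h.le ha)
  nrm := by
    rintro g hg _ ⟨a, ha, rfl⟩
    obtain ⟨x, rfl⟩ := e.surjective g
    refine ⟨x * a * x⁻¹, h.nrm x ((mem_fix e).1 hg) a ha, ?_⟩
    show e (x * a * x⁻¹) = e x * e a * (e x)⁻¹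
    rw [map_mul, map_mul, map_inv]
  qs := Cfsg.Agent.SignalizersComponents.LayerBasic.quasisimple_congr (A.equivMapOfInjective e.toMonoidHom e.injective) h.qs
  cyc := by
    obtain ⟨R⟩ : Nonempty (Sylow 2 ↥(centralizer (A : Set X) ⊓ fixedSubgroup α)) := inferInstance
    intro R'
    let f : ↥(centralizer (A : Set X) ⊓ fixedSubgroup α) →*
        ↥(centralizer ((A.map e.toMonoidHom : Subgroup Y) : Set Y) ⊓ fixedSubgroup (MulAut.congr e α)) :=
      (e.toMonoidHom.comp (Subgroup.subtype _)).codRestrict _ fun x =>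
        mem_inf.2 ⟨(mem_cent e).2 (mem_inf.1 x.2).1, (mem_fix e).2 (mem_inf.1 x.2).2⟩
    have hf : Function.Surjective f := by
      rintro ⟨y, hy⟩
      obtain ⟨x, rfl⟩ := e.surjective y
      exact ⟨⟨x, mem_inf.2 ⟨(mem_cent e).1 (mem_inf.1 hy).1, (mem_fix e).1 (mem_inf.1 hy).2⟩⟩, rfl⟩
    exact StdOdd.Hyp.cyc_of_surj hf R (h.cyc R) R'

/-- a second involution centralizing `A` -/
def Rho (α : MulAut X) (A : Subgroup X) : Prop :=
  ∃ ρ ∈ centralizer (A : Set X), ρ ∈ fixedSubgroup α ∧ ρ * ρ = 1 ∧ ρ ≠ 1 ∧ MulAut.conj ρ ≠ α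

theorem Rho.of_map (h : Rho (MulAut.congr e α) (A.map e.toMonoidHom)) : Rho α A := by
  obtain ⟨ρ, h1, h2, h3, h4, h5⟩ := h
  obtain ⟨ρ, rfl⟩ := e.surjective ρ
  refine ⟨ρ, (mem_cent e).1 h1, (mem_fix e).1 h2, e.injective (by rw [map_mul, h3, map_one]), ?_, ?_⟩
  · rintro rfl
    exact h4 (map_one e)
  · rintro rfl
    apply h5
    ext y
    obtain ⟨y, rfl⟩ := e.surjective y
    rw [MulAut.conj_apply]
    show e ρ * e y * (e ρ)⁻¹ = e (ρ * e.symm (e y) * ρ⁻¹)
    rw [e.symm_apply_apply, map_mul, map_mul, map_inv]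

theorem center_map (hZ : center ↥A = ⊥) : center ↥(A.map e.toMonoidHom) = ⊥ := by
  rw [← Subgroup.card_eq_one] at hZ ⊢
  rw [← hZ]
  exact (Nat.card_congr (Subgroup.centerCongr (A.equivMapOfInjective e.toMonoidHom e.injective)).toEquiv).symm

theorem card_map (A : Subgroup X) : Nat.card ↥(A.map e.toMonoidHom) = Nat.card ↥A :=
  Subgroup.card_map_of_injective e.injective

end Map

/-- the conclusion -/
def Concl {X : Type u} [Group X] (α : MulAut X) (A : Subgroup X) : Prop :=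
  (∃ (F : Type) (_ : Field F) (_ : Fintype F), CharP F 3 ∧ Nonempty (X ≃* PSp 2 F)) ∨
  (∃ (F : Type) (_ : Field F) (_ : Fintype F) (n : ℕ), Fintype.card F = 3 ∧ (n = 4 ∨ n = 5) ∧
    Nonempty (X ≃* Matrix.ProjectiveSpecialLinearGroup (Fin n) F)) ∨
  (∃ (F : Type) (_ : Field F) (_ : Fintype F) (n : ℕ), Fintype.card F = 9 ∧ (n = 4 ∨ n = 5) ∧
    Nonempty (X ≃* PSU n F 3)) ∨ Rho α A

theorem quot_card {X : Type u} [Group X] [Finite X] {A : Subgroup X} (hZ : center ↥A = ⊥) (hA : Nat.card ↥A = 25920) :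
    Nat.card (↥A ⧸ center ↥A) = 25920 := by
  rw [← hA, card_eq_card_quotient_mul_card_subgroup (center ↥A), hZ, card_bot, mul_one]

section Orth

variable {ι : Type} [Fintype ι] [DecidableEq ι] {F : Type} [Field F] [Finite F] [CharP F 3]
  {Q : QuadraticForm F (ι → F)}

/-- orthogonal groups, automorphisms conjugate to elements of the image of `Psi` -/
theorem orth_rho (hG : Good Q) (h7 : 7 ≤ Fintype.card ι) [Finite (↥(E Q) ⧸ center ↥(E Q))]
    (h0 : Odd (Psi Q).range.index) {α : MulAut (↥(E Q) ⧸ center ↥(E Q))} {A : Subgroup (↥(E Q) ⧸ center ↥(E Q))}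
    (h : Cfg α A) (hZ : center ↥A = ⊥) (hA : Nat.card ↥A = 25920) (hs3 : HasSplit 3 (↥(E Q) ⧸ center ↥(E Q))) :
    Rho α A := by
  obtain ⟨y, hy⟩ := exists_conj_mem_of_index_odd h0 h.sq
  obtain ⟨g, hg⟩ := hy
  refine Rho.of_map (y⁻¹ : MulAut _) ?_
  have e1 : MulAut.congr (y⁻¹ : MulAut _) α = y⁻¹ * α * y := rfl
  have h' := cfg_map (y⁻¹ : MulAut _) h
  rw [e1] at h' ⊢
  obtain ⟨hF3, hd, L, e, hL1, hL2, hL3, he, h5, hle⟩ := orth_row hG (by rwa [Module.finrank_fintype_fun_eq_card]) h'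
    (center_map _ hZ) ((card_map _ A).trans hA) g hg hs3
  rw [Module.finrank_fintype_fun_eq_card] at hd
  rw [← hg]
  exact exists_rho hG hd hF3 hL1 hL2 hL3 he h5 hle

/-- `POmega` -/
theorem pomega_rho (hG : Good Q) (h7 : 7 ≤ Fintype.card ι) (h0 : Odd (Psi Q).range.index) {X : Type u} [Group X]
    [Finite X] [IsSimpleGroup X] (hX : IsLieTypeChar 3 X) (e : X ≃* Cfsg.POmega F ⇑Q)
    {α : MulAut X} {A : Subgroup X} (h : Cfg α A) (hZ : center ↥A = ⊥) (hA : Nat.card ↥A = 25920) : Rho α A := by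
  let e' : X ≃* ↥(E Q) ⧸ center ↥(E Q) := e.trans (pomegaEquiv hG)
  have : Finite (↥(E Q) ⧸ center ↥(E Q)) := Finite.of_equiv X e'.toEquiv
  have : IsSimpleGroup (↥(E Q) ⧸ center ↥(E Q)) := e'.symm.isSimpleGroup
  refine Rho.of_map e' (orth_rho hG h7 h0 (cfg_map e' h) (center_map e' hZ) ((card_map e' A).trans hA) ?_)
  exact Cfg.hasSplit_of_lie Nat.prime_three (by norm_num) (L := ↥(E Q) ⧸ center ↥(E Q)) (isLieTypeChar_congr e'.symm hX)

/-- equal forms -/
def castEquiv {q q' : (ι → F) → F} (h : q = q') : Cfsg.POmega F q ≃* Cfsg.POmega F q' := by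
  subst h
  exact MulEquiv.refl _

end Orth

/-- **The classical groups of characteristic 3.** -/
theorem cl_row {X : Type u} [Group X] [Finite X] [IsSimpleGroup X] (hX : IsClassicalChar 3 X) {α : MulAut X}
    {A : Subgroup X} (h : Cfg α A) (hZ : center ↥A = ⊥) (hA : Nat.card ↥A = 25920) : Concl α A := by
  have hr := Nat.prime_three
  have hr2 : (3 : ℕ) ≠ 2 := by norm_num
  have key : ∀ {Y : Type} [Group Y] (e : X ≃* Y), (∀ β : MulAut Y, β * β = 1 →
      CF.{0} (fun S _ => CFR.NotB S) ↥(fixedSubgroup β)) → False := by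
    intro Y _ e hcf
    have : Finite Y := Finite.of_equiv X e.toEquiv
    have h' := cfg_map e h
    exact ClSymp.not_cf h' (quot_card (center_map e hZ) ((card_map e A).trans hA)) (hcf _ h'.sq)
  have hL : IsLieTypeChar 3 X := by
    rcases hX with h | h | h | h | h | h
    · exact Or.inl h
    · exact Or.inr (Or.inl h)
    · exact Or.inr (Or.inr (Or.inl h))
    · exact Or.inr (Or.inr (Or.inr (Or.inl h)))
    · exact Or.inr (Or.inr (Or.inr (Or.inr (Or.inl h))))
    · exact Or.inr (Or.inr (Or.inr (Or.inr (Or.inr (Or.inl h)))))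
  rcases hX with hX | hX | hX | hX | hX | hX
  · obtain ⟨F, i1, i2, i3, n, h1, h2, ⟨e⟩⟩ := hX
    by_cases hc : Fintype.card F = 3 ∧ (n = 4 ∨ n = 5)
    · exact Or.inr (Or.inl ⟨F, i1, i2, n, hc.1, hc.2, ⟨e⟩⟩)
    · exact (key e fun β hβ => CFR.cf_psl hr hr2 CFR.base_B h1
        (fun _ => by rw [Nat.card_eq_fintype_card]; exact hc) β hβ).elim
  · obtain ⟨F, i1, i2, i3, m, h1, h2, ⟨e⟩⟩ := hX
    by_cases hm : m = 2
    · subst hm
      exact Or.inl ⟨F, i1, i2, i3, ⟨e⟩⟩
    · have : Finite (PSp m F) := Finite.of_equiv X e.toEquiv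
      exact (ClSymp.psp_row (by omega) (cfg_map e h) (center_map e hZ) ((card_map e A).trans hA)).elim
  · obtain ⟨F, i1, i2, i3, n, q, h1, h2, h3, ⟨e⟩⟩ := hX
    by_cases hc : q = 3 ∧ (n = 4 ∨ n = 5)
    · obtain ⟨rfl, hc⟩ := hc
      exact Or.inr (Or.inr (Or.inl ⟨F, i1, i2, n, h1, hc, ⟨e⟩⟩))
    · refine (key e fun β hβ => CFR.cf_psu hr hr2 CFR.base_B h1 h2 h3 (fun _ _ _ => trivial) ?_ trivial hc β hβ).elim
      rintro a d ha ⟨h4, -⟩
      have h5 : 4 ≤ q ^ 2 := by
        have h6 : 2 ≤ q := by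
          by_contra h7
          have h8 : 1 < Fintype.card F := Fintype.one_lt_card
          have h9 : q = 0 ∨ q = 1 := by omega
          rcases h9 with rfl | rfl <;> simp at h1 <;> omega
        nlinarith
      omega
  · obtain ⟨F, i1, i2, i3, m, h1, h2, ⟨e⟩⟩ := hX
    have h2 : (2 : F) ≠ 0 := two_ne_zero_of_charP hr hr2
    have hG := good_odd (F := F) (m := m) (by omega) h2
    have htop := MonoidHom.range_eq_top.2 (Cfsg.Agent.AutOrth.Final.surjective_odd h1 h2)
    replace e := e.trans (castEquiv (coe_oddForm (F := F) (m := m)).symm)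
    refine Or.inr (Or.inr (Or.inr (pomega_rho hG ?_ ?_ hL e h hZ hA)))
    · simp only [Fintype.card_sum, Fintype.card_fin, Fintype.card_unit]; omega
    · rw [htop, Subgroup.index_top]
      exact odd_one
  · obtain ⟨F, i1, i2, i3, m, h1, ⟨e⟩⟩ := hX
    have hG := good_plus (F := F) (m := m) (by omega)
    replace e := e.trans (castEquiv (coe_plusForm (F := F) (m := m)).symm)
    refine Or.inr (Or.inr (Or.inr (pomega_rho hG ?_ ?_ hL e h hZ hA)))
    · simp only [Fintype.card_sum, Fintype.card_fin, Fintype.card_unit]; omega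
    · by_cases h4 : m = 4
      · subst h4
        rw [Cfsg.Agent.AutOrth.Final.index_plus_four]
        decide
      · have htop := MonoidHom.range_eq_top.2 (Cfsg.Agent.AutOrth.Final.surjective_plus (F := F) (m := m) (by omega))
        rw [htop, Subgroup.index_top]
        exact odd_one
  · obtain ⟨F, i1, i2, i3, m, a, b, h1, hab, ⟨e⟩⟩ := hX
    have hG := good_minus (F := F) (m := m - 1) (by omega) a b hab
    have htop := MonoidHom.range_eq_top.2 (Cfsg.Agent.AutOrth.Final.surjective_minus (F := F) (m := m - 1) (by omega) hab)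
    replace e := e.trans (castEquiv (coe_minusForm (F := F) (m := m - 1) a b).symm)
    refine Or.inr (Or.inr (Or.inr (pomega_rho hG ?_ ?_ hL e h hZ hA)))
    · simp only [Fintype.card_sum, Fintype.card_fin, Fintype.card_unit]; omega
    · rw [htop, Subgroup.index_top]
      exact odd_one

end Cfsg.Agent.H294.ClRow
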