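import Cfsg.Agent.CpAutU.Fixed
import Cfsg.Agent.ClassicalGeometry.PSUAutMain
import Cfsg.Agent.ClassicalGeometry.GUBasic
/-!
# An automorphism of `U₄(2)` fixing a Sylow 2-subgroup pointwise is inner (helper294)
-/

set_option autoImplicit false
set_option linter.unusedSectionVars false

namespace Cfsg.Agent.H294.UFix

open Matrix Cfsg
open Cfsg.Agent.LieClassical.HermBasic Cfsg.Agent.LieClassical.HermSiegel
open Cfsg.Agent.ClassicalGeometry.PSUAutCount (gm semiConj toAut gm_mul gm_one gm_mul_inv gm_inv_mul eq_of_toAut_eq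
  sc gm_sc_mul toAut_sc_mul herm_gm gm_inj)
open Cfsg.Agent.ClassicalGeometry.UnitAutBasic (pr pr_surjective exists_scalar_of_mem_center)

universe u v

section Lin

variable {F : Type v} [Field F] [Fintype F] {q n : ℕ}

/-- linear automorphisms are inner if `n = q + 2` -/
theorem inner_of (hF : Fintype.card F = q ^ 2) (hn : n = q + 2) (A : GU n F q) :
    ∃ x : PSU n F q, toAut A 1 = MulAut.conj x := by
  obtain ⟨δ, hδe⟩ : ∃ δ, δ = (gm A).det := ⟨_, rfl⟩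
  have hδ : δ ^ (q + 1) = 1 := by
    rw [hδe]
    exact Cfsg.Agent.ClassicalGeometry.GUBasic.det_pow hF (herm_gm A)
  have hδ0 : δ ≠ 0 := by
    rintro rfl
    rw [zero_pow (Nat.succ_ne_zero q)] at hδ
    exact zero_ne_one hδ
  have hci : δ⁻¹ * δ⁻¹ ^ q = 1 := by rw [← pow_succ', inv_pow, hδ, inv_one]
  obtain ⟨B, hB⟩ : ∃ B : GU n F q, B = sc n ⟨δ⁻¹, hci⟩ * A := ⟨_, rfl⟩
  have hgB : gm B = δ⁻¹ • gm A := by rw [hB, gm_sc_mul]
  have hdet : (gm B).det = 1 := by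
    rw [hgB, det_smul, Fintype.card_fin, ← hδe, hn, inv_pow, pow_succ δ (q + 1), hδ, one_mul, inv_mul_cancel₀ hδ0]
  let g : SU n F q := mkSU (gm B) hdet (fun u v => herm_gm _ u v)
  refine ⟨pr n F q g, ?_⟩
  have h1 : toAut A 1 = toAut B 1 := by rw [hB, toAut_sc_mul]
  rw [h1]
  exact Cfsg.Agent.Schreier.PSU.f₁_eq_conj B g rfl

theorem center_eq_bot (hF : Fintype.card F = q ^ 2) (hn : n = q + 2) (hq : 1 ≤ q) : Subgroup.center (SU n F q) = ⊥ := by
  rw [eq_bot_iff]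
  intro z hz
  obtain ⟨c, hcn, hcq, rfl⟩ := (Cfsg.Agent.LieClassical.SUBasic.mem_center_SU_iff hF (by omega) z).1 hz
  have hc : c = 1 := by
    have h1 : c ^ n = c ^ (q + 1) * c := by rw [hn]; exact pow_succ c (q + 1)
    rw [hcn, hcq, one_mul] at h1
    exact h1.symm
  subst hc
  rw [Subgroup.mem_bot]
  apply Subtype.ext
  apply Subtype.ext
  change Matrix.diagonal (fun _ => (1 : F)) = 1
  exact Matrix.diagonal_one

theorem pr_injective (hF : Fintype.card F = q ^ 2) (hn : n = q + 2) (hq : 1 ≤ q) :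
    Function.Injective (pr n F q) := by
  rw [injective_iff_map_eq_one]
  intro x hx
  have h1 : x ∈ Subgroup.center (SU n F q) := (QuotientGroup.eq_one_iff x).1 hx
  rw [center_eq_bot hF hn hq] at h1
  exact h1

end Lin

section Four

variable {F : Type v} [Field F] [Fintype F]

/-- `1 + H ⊗ J` -/
def gM (a b : F) : Matrix (Fin 4) (Fin 4) F :=
  !![1 + a, a, b, b; a, 1 + a, b, b; b ^ 2, b ^ 2, 1, 0; b ^ 2, b ^ 2, 0, 1]

theorem pow_four (hF : Fintype.card F = 2 ^ 2) (b : F) : b ^ 4 = b := by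
  have := FiniteField.pow_card b
  rwa [hF] at this

theorem gM_mul [CharP F 2] (a b a' b' : F) : gM a b * gM a' b' = gM (a + a') (b + b') := by
  have h2 : (2 : F) = 0 := CharTwo.two_eq_zero
  ext i j
  fin_cases i <;> fin_cases j <;>
    simp [gM, Matrix.mul_apply, Fin.sum_univ_four] <;> ring_nf <;> simp [h2] <;> ring_nf

theorem gM_zero : gM (0 : F) 0 = 1 := by
  ext i j
  fin_cases i <;> fin_cases j <;> simp [gM]

theorem gM_sq [CharP F 2] (a b : F) : gM a b * gM a b = 1 := by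
  rw [gM_mul, CharTwo.add_self_eq_zero, CharTwo.add_self_eq_zero, gM_zero]

theorem gM_det [CharP F 2] (a b : F) : (gM a b).det = 1 := by
  have h1 : (gM a b).det * (gM a b).det = 1 := by rw [← det_mul, gM_sq, det_one]
  have h2 : ((gM a b).det - 1) * ((gM a b).det - 1) = 0 := by
    have h3 : (2 : F) = 0 := CharTwo.two_eq_zero
    linear_combination h1 + (1 - (gM a b).det) * h3
  exact sub_eq_zero.1 (mul_self_eq_zero.1 h2)

theorem gM_herm [CharP F 2] (hF : Fintype.card F = 2 ^ 2) {a : F} (ha : a ^ 2 = a) (b : F) (u v : Fin 4 → F) :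
    hermForm 4 F 2 (gM a b *ᵥ u) (gM a b *ᵥ v) = hermForm 4 F 2 u v := by
  have h2 : (2 : F) = 0 := CharTwo.two_eq_zero
  have hb := pow_four hF b
  simp only [hermForm, gM, Matrix.mulVec, dotProduct, Fin.sum_univ_four]
  simp
  have key : ∀ s t s' t' m k m' k' : F, s = u 0 + u 1 → t = u 2 + u 3 → s' = v 0 + v 1 → t' = v 2 + v 3 →
      m = a * s + b * t → k = b ^ 2 * s → m' = a * s' + b * t' → k' = b ^ 2 * s' →
      (u 0 + m) * (v 0 + m') ^ 2 + (u 1 + m) * (v 1 + m') ^ 2 + (u 2 + k) * (v 2 + k') ^ 2 +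
        (u 3 + k) * (v 3 + k') ^ 2 = u 0 * v 0 ^ 2 + u 1 * v 1 ^ 2 + u 2 * v 2 ^ 2 + u 3 * v 3 ^ 2 := by
    intro s t s' t' m k m' k' hs ht hs' ht' hm hk hm' hk'
    subst hs ht hs' ht' hm hk hm' hk'
    linear_combination (u 0 + u 1) * (v 0 + v 1) ^ 2 * ha + (u 2 + u 3) * (v 0 + v 1) ^ 2 * hb +
      ((a * (v 0 + v 1) + b * (v 2 + v 3)) * (u 0 * v 0 + u 1 * v 1) +
        (a * (u 0 + u 1) + b * (u 2 + u 3)) * (a * (v 0 + v 1) + b * (v 2 + v 3)) * (v 0 + v 1) +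
        (a * (u 0 + u 1) + b * (u 2 + u 3)) * (a * (v 0 + v 1) + b * (v 2 + v 3)) ^ 2 -
        (a * (u 0 + u 1) + b * (u 2 + u 3)) * (v 0 * v 1) +
        (b ^ 2 * (v 0 + v 1)) * (u 2 * v 2 + u 3 * v 3) +
        (b ^ 2 * (u 0 + u 1)) * (b ^ 2 * (v 0 + v 1)) * (v 2 + v 3) +
        (b ^ 2 * (u 0 + u 1)) * (b ^ 2 * (v 0 + v 1)) ^ 2 - (b ^ 2 * (u 0 + u 1)) * (v 2 * v 3) +
        a * (u 0 + u 1) * (v 0 + v 1) ^ 2 + b * (u 2 + u 3) * (v 0 + v 1) ^ 2 +
        a * b * (u 0 + u 1) * (v 0 + v 1) * (v 2 + v 3) + (u 0 + u 1) * b ^ 2 * (v 2 + v 3) ^ 2) * h2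
  have h3 := key _ _ _ _ _ _ _ _ rfl rfl rfl rfl rfl rfl rfl rfl
  refine Eq.trans ?_ h3
  ring

/-- the elements of `SU₄(2)` -/
def gS [CharP F 2] (hF : Fintype.card F = 2 ^ 2) (a : {a : F // a ^ 2 = a}) (b : F) : SU 4 F 2 :=
  mkSU (gM a.1 b) (gM_det _ _) (gM_herm hF a.2 b)

theorem mat_gS [CharP F 2] (hF : Fintype.card F = 2 ^ 2) (a : {a : F // a ^ 2 = a}) (b : F) :
    mat (gS hF a b) = gM a.1 b := rfl

theorem no_field [CharP F 2] (hF : Fintype.card F = 2 ^ 2) {B B' : Matrix (Fin 4) (Fin 4) F} (hB : B' * B = 1)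
    {ρ : F ≃+* F} (h : ∀ a b : F, a ^ 2 = a → B * (gM a b).map ρ = gM a b * B) : ρ = 1 := by
  by_contra hρ
  obtain ⟨w, hw⟩ : ∃ w, ρ w ≠ w := by
    by_contra hcon
    push Not at hcon
    exact hρ (RingEquiv.ext hcon)
  have e (a b : F) (ha : a ^ 2 = a) (i j : Fin 4) : (B * (gM a b).map ρ) i j = (gM a b * B) i j := by rw [h a b ha]
  have e1 (i j : Fin 4) := e 1 0 (by norm_num) i j
  have e2 (i j : Fin 4) := e 0 1 (by norm_num) i j
  have e3 (i j : Fin 4) := e 0 w (by norm_num) i j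
  simp only [Matrix.mul_apply, Fin.sum_univ_four, Matrix.map_apply] at e1 e2 e3
  have a1 := e1 2 0
  have a2 := e1 3 0
  have a3 := e1 0 0
  have a4 := e1 1 0
  have b1 := e2 0 2
  have b2 := e3 0 2
  simp [gM] at a1 a2 a3 a4 b1 b2
  have h2 : (2 : F) = 0 := CharTwo.two_eq_zero
  have c0 : B 0 0 + B 0 1 = 0 := by
    have h3 : (ρ w - w) * (B 0 0 + B 0 1) = 0 := by linear_combination b2 - w * b1
    exact (mul_eq_zero.1 h3).resolve_left (sub_ne_zero.2 hw)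
  have c1 : B 1 0 + B 1 1 = 0 := by linear_combination a4 - a3 + c0
  have c2 : B 2 0 + B 2 1 = 0 := by linear_combination a1
  have c3 : B 3 0 + B 3 1 = 0 := by linear_combination a2
  have h4 : B *ᵥ ![1, 1, 0, 0] = 0 := by
    ext i
    fin_cases i <;> simp [Matrix.mulVec, dotProduct, Fin.sum_univ_four, c0, c1, c2, c3]
  have h5 : B' *ᵥ (B *ᵥ ![1, 1, 0, 0]) = ![1, 1, 0, 0] := by rw [mulVec_mulVec, hB, one_mulVec]
  rw [h4, mulVec_zero] at h5
  have h6 := congrFun h5 0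
  simp at h6

/-- The subgroup `Q`. -/
def QQ [CharP F 2] (hF : Fintype.card F = 2 ^ 2) : Subgroup (SU 4 F 2) where
  carrier := {x | ∃ (a : {a : F // a ^ 2 = a}) (b : F), x = gS hF a b}
  one_mem' := ⟨⟨0, by norm_num⟩, 0, mat_injective gM_zero.symm⟩
  mul_mem' := by
    rintro _ _ ⟨⟨a, ha⟩, b, rfl⟩ ⟨⟨a', ha'⟩, b', rfl⟩
    refine ⟨⟨a + a', ?_⟩, b + b', mat_injective (gM_mul a b a' b')⟩
    rw [add_sq, ha, ha', (CharTwo.two_eq_zero : (2 : F) = 0)]
    ring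
  inv_mem' := by
    rintro _ ⟨a, b, rfl⟩
    refine ⟨a, b, ?_⟩
    exact inv_eq_of_mul_eq_one_right (mat_injective (gM_sq a.1 b))

theorem QQ_sq [CharP F 2] (hF : Fintype.card F = 2 ^ 2) {x : SU 4 F 2} (hx : x ∈ QQ hF) : x * x = 1 := by
  obtain ⟨a, b, rfl⟩ := hx
  exact mat_injective (gM_sq a.1 b)

theorem isPGroup_QQ [CharP F 2] (hF : Fintype.card F = 2 ^ 2) : IsPGroup 2 ↥(QQ hF) := by
  intro x
  refine ⟨1, ?_⟩
  rw [pow_one, pow_two]
  exact Subtype.ext (QQ_sq hF x.2)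

/-- an automorphism fixing `Q` pointwise is inner -/
theorem inner_of_fix [CharP F 2] (hF : Fintype.card F = 2 ^ 2) (φ : MulAut (PSU 4 F 2))
    (h : ∀ x ∈ QQ hF, φ (pr 4 F 2 x) = pr 4 F 2 x) : ∃ x : PSU 4 F 2, φ = MulAut.conj x := by
  obtain ⟨A, ρ, rfl⟩ := ClassicalGeometry.PSUAutMain.exists_toAut (n := 4) (q := 2) hF (by norm_num) (by norm_num) φ
  have hρ : ρ = 1 := by
    refine no_field hF (B := gm A) (B' := gm A⁻¹) (gm_inv_mul A) fun a b ha => ?_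
    have h1 := h (gS hF ⟨a, ha⟩ b) ⟨⟨a, ha⟩, b, rfl⟩
    have h2 : semiConj A ρ (gS hF ⟨a, ha⟩ b) = gS hF ⟨a, ha⟩ b := pr_injective hF rfl (by norm_num) h1
    have h3 : gm A * (gM a b).map ρ * gm A⁻¹ = gM a b := congrArg mat h2
    calc gm A * (gM a b).map ρ = gm A * (gM a b).map ρ * (gm A⁻¹ * gm A) := by rw [gm_inv_mul, Matrix.mul_one]
      _ = (gm A * (gM a b).map ρ * gm A⁻¹) * gm A := by rw [Matrix.mul_assoc, Matrix.mul_assoc, Matrix.mul_assoc]
      _ = _ := by rw [h3]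
  subst hρ
  exact inner_of hF rfl A

end Four

/-- **An automorphism of `U₄(2)` fixing a Sylow 2-subgroup pointwise is inner.** -/
theorem fix_sylow {A : Type u} [Group A] [Finite A] {F : Type v} [Field F] [Fintype F] (hF : Fintype.card F = 4)
    (e : A ≃* PSU 4 F 2) (φ : MulAut A) (T : Sylow 2 A) (h : ∀ x ∈ T, φ x = x) : ∃ a : A, φ = MulAut.conj a := by
  have hF' : Fintype.card F = 2 ^ 2 := by rw [hF]; norm_num
  have hch : CharP F 2 := by
    obtain ⟨p, hp⟩ := CharP.exists F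
    have hpp : Fact p.Prime := ⟨CharP.char_is_prime F p⟩
    obtain ⟨n, hp', hn⟩ := FiniteField.card F p
    have h1 : p ∣ 2 ^ 2 := by
      rw [← hF', hn]
      exact dvd_pow_self p n.ne_zero
    have h2 : p = 2 := (Nat.prime_dvd_prime_iff_eq hpp.out Nat.prime_two).1 (hpp.out.dvd_of_dvd_pow h1)
    rw [← h2]
    exact hp
  have : Fact (Nat.Prime 2) := ⟨Nat.prime_two⟩
  set Q' : Subgroup A := ((QQ hF').map (pr 4 F 2)).map e.symm.toMonoidHom with hQ'
  have hQp : IsPGroup 2 ↥Q' := ((isPGroup_QQ hF').map _).map _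
  obtain ⟨T', hT'⟩ := hQp.exists_le_sylow
  obtain ⟨y, hy⟩ := MulAction.exists_smul_eq A T T'
  -- the conjugate automorphism fixes `Q'`
  have hfix : ∀ x ∈ Q', φ (y⁻¹ * x * y) = y⁻¹ * x * y := by
    intro x hx
    apply h
    have h1 : x ∈ (T' : Subgroup A) := hT' hx
    rw [← hy, Sylow.coe_subgroup_smul] at h1
    obtain ⟨t, ht, rfl⟩ := h1
    change y⁻¹ * (y * t * y⁻¹) * y ∈ T
    have h2 : y⁻¹ * (y * t * y⁻¹) * y = t := by group
    rw [h2]
    exact ht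
  obtain ⟨x, hx⟩ := inner_of_fix hF' (MulAut.congr e (MulAut.conj y * φ * (MulAut.conj y)⁻¹)) (by
    intro g hg
    have h1 : e.symm (pr 4 F 2 g) ∈ Q' := ⟨_, ⟨g, hg, rfl⟩, rfl⟩
    change e (y * φ (y⁻¹ * e.symm (pr 4 F 2 g) * y) * y⁻¹) = _
    rw [hfix _ h1]
    have h2 : y * (y⁻¹ * e.symm (pr 4 F 2 g) * y) * y⁻¹ = e.symm (pr 4 F 2 g) := by group
    rw [h2, e.apply_symm_apply])
  have h3 : MulAut.conj y * φ * (MulAut.conj y)⁻¹ = MulAut.conj (e.symm x) := by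
    apply (MulAut.congr e).injective
    rw [hx]
    ext z
    change x * z * x⁻¹ = e (e.symm x * e.symm z * (e.symm x)⁻¹)
    rw [map_mul, map_mul, map_inv, e.apply_symm_apply, e.apply_symm_apply]
  refine ⟨y⁻¹ * e.symm x * y, ?_⟩
  rw [map_mul, map_mul, map_inv, ← h3]
  group

end Cfsg.Agent.H294.UFix
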