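import Cfsg.Agent.H294.CFOk
import Cfsg.Agent.H250.EqD.DdN
import Cfsg.Agent.H284.SepOrd
import Cfsg.Agent.H340.OddLie
/-!
# The restricted base for `|S| ≠ 25920` in characteristic 3 (helper294)
-/

set_option autoImplicit false
set_option linter.unusedSectionVars false

namespace Cfsg.Agent.H294.CFR

open Subgroup Cfsg Cfsg.Agent.BpLin Cfsg.Agent.H340 Cfsg.Agent.H902 Cfsg.Agent.H902.Names
open Cfsg.Agent.LieClassical.OrthCore Cfsg.Agent.LieClassical.OrthTrans

universe u

/-- `25920` is not the order of `S` -/
def NotB (S : Type u) [Group S] : Prop := Nat.card S ≠ 25920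

/-- allowed matrix pieces -/
def okB (q d : ℕ) : Prop := ¬ (q = 3 ∧ (d = 4 ∨ d = 5))

theorem real_25920 : Art.Real (.C 2) 3 1 25920 := by
  refine ⟨Nat.prime_three, le_rfl, ⟨le_rfl, fun _ => by norm_num⟩, ?_⟩
  norm_num [Art.dd, Art.NN, Art.num, Finset.prod_range_succ]

/-- the shape of a group of order 25920 in characteristic 3 -/
theorem shape_of {X : Art.Sh} {f N : ℕ} (h : Art.Real X 3 f N) (hN : N = 25920) : X = .C 2 ∧ f = 1 := by
  subst hN
  rcases Art.same_char h real_25920 with ⟨h1, h2⟩ | h1
  · exact ⟨h1, h2⟩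
  · exact absurd h1 (by norm_num)

theorem fcard {F : Type} [Field F] [Fintype F] [CharP F 3] : ∃ f : ℕ, 1 ≤ f ∧ Fintype.card F = 3 ^ f :=
  H284.SepOrd.field_pow Nat.prime_three

theorem base_B : BaseR.{u} 3 (fun _ _ => True) okB (fun S _ => NotB S) where
  two F _ _ _ hs S _ := by
    rintro ⟨e⟩ hc
    have := Fintype.ofFinite F
    obtain ⟨f, hf, hF⟩ := fcard (F := F)
    have h4 : 4 ≤ Fintype.card F := by
      by_contra h4
      exact not_simple_sl_two_three (F := F) (by rwa [Nat.card_eq_fintype_card]) hs
    have h := psl_real (n := 2) Nat.prime_three hf hF le_rfl (fun _ => by rw [← hF]; exact h4)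
    rw [← Nat.card_congr e.toEquiv] at h
    exact absurd (shape_of h hc).1 (by simp)
  psl F _ _ _ n hn _ hs S _ := by
    rintro ⟨e⟩ hc
    have := Fintype.ofFinite F
    obtain ⟨f, hf, hF⟩ := fcard (F := F)
    have h := psl_real (n := n) Nat.prime_three hf hF (by omega) (fun h => by omega)
    rw [← Nat.card_congr e.toEquiv] at h
    exact absurd (shape_of h hc).1 (by simp)
  psu F _ _ _ n q hF hn _ hs S _ := by
    rintro ⟨e⟩ hc
    obtain ⟨f, hf, rfl⟩ := H284.SepOrd.root_pow Nat.prime_three (by norm_num) (fcard (F := F)) hF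
    have h := psu_real (n := n) Nat.prime_three hf hF hn (fun h => by
      have h3 : 3 ^ 1 ≤ 3 ^ f := Nat.pow_le_pow_right (by norm_num) hf
      omega)
    rw [← Nat.card_congr e.toEquiv] at h
    exact absurd (shape_of h hc).1 (by simp)
  psp F _ _ _ m hm hok hs S _ := by
    rintro ⟨e⟩ hc
    have := Fintype.ofFinite F
    obtain ⟨f, hf, hF⟩ := fcard (F := F)
    have h := psp_real (m := m) Nat.prime_three hf hF hm (fun h => Nat.le_self_pow (by omega) 3)
    rw [← Nat.card_congr e.toEquiv] at h
    obtain ⟨h1, h2⟩ := shape_of h hc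
    have h3 : m = 2 := by simpa using h1
    apply hok
    rw [Nat.card_eq_fintype_card, hF, h2, h3]
    exact ⟨by norm_num, Or.inl rfl⟩
  orth F V _ _ _ _ _ _ Q hQ hd hok hs S _ := by
    rintro ⟨e⟩ hc
    have := Fintype.ofFinite F
    have h1 := card_ge_of_odd (F := F) (r := 3) Nat.prime_three (by norm_num)
    have hG := LieClassical.OrthFinite.good_of_finite hQ hd
    obtain ⟨f, hf, hF⟩ := fcard (F := F)
    rcases GenOrth.normal_form (Module.finrank F V) hQ rfl with ⟨k, hk, hS⟩ | ⟨k, hk, hS⟩ | ⟨k, hk, a, b, hab, hS⟩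
    · obtain ⟨g⟩ := nonempty_E_equiv hG hS
      rcases Nat.lt_or_ge k 3 with h | h
      · obtain rfl : k = 2 := by omega
        obtain ⟨g'⟩ := S0301.result (F := F) h1.1
        have h := psp_real (m := 2) Nat.prime_three hf hF le_rfl (fun h => Nat.le_self_pow (by omega) 3)
        rw [← Nat.card_congr ((e.trans g).trans g').toEquiv] at h
        obtain ⟨-, h2⟩ := shape_of h hc
        apply hok
        rw [Nat.card_eq_fintype_card, hF, h2]
        exact ⟨by norm_num, Or.inr (by omega)⟩
      · have h := oodd_real (m := k) Nat.prime_three hf hF h (by rw [← hF]; exact h1.1)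
        rw [← Nat.card_congr (e.trans g).toEquiv] at h
        have h3 : k = 2 := by simpa using (shape_of h hc).1
        omega
    · obtain ⟨g⟩ := nonempty_E_equiv hG hS
      rcases Nat.lt_or_ge k 4 with h | h
      · obtain rfl : k = 3 := by omega
        obtain ⟨g'⟩ := S0302.result (F := F)
        have h := psl_real (n := 4) Nat.prime_three hf hF (by omega) (fun h => by omega)
        rw [← Nat.card_congr ((e.trans g).trans g').toEquiv] at h
        exact absurd (shape_of h hc).1 (by simp)
      · have h := oplus_real (m := k) Nat.prime_three hf hF h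
        rw [← Nat.card_congr (e.trans g).toEquiv] at h
        exact absurd (shape_of h hc).1 (by simp)
    · obtain ⟨g⟩ := nonempty_E_equiv hG hS
      rcases Nat.lt_or_ge k 3 with h | h
      · obtain rfl : k = 2 := by omega
        have : Fact (Nat.Prime 3) := ⟨Nat.prime_three⟩
        have hfin : Finite (GaloisField 3 (2 * f)) := inferInstance
        have hft : Fintype (GaloisField 3 (2 * f)) := Fintype.ofFinite _
        have hK : Fintype.card (GaloisField 3 (2 * f)) = (Fintype.card F) ^ 2 := by
          rw [← Nat.card_eq_fintype_card, GaloisField.card 3 (2 * f) (by omega), hF, ← pow_mul, mul_comm]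
        obtain ⟨g'⟩ := S0303.result (F := F) (K := GaloisField 3 (2 * f)) rfl hK a b hab
        rw [hF] at hK g'
        have h := psu_real (n := 4) (F := GaloisField 3 (2 * f)) Nat.prime_three hf hK (by omega) (fun h => by omega)
        rw [← Nat.card_congr ((e.trans g).trans g').toEquiv] at h
        exact absurd (shape_of h hc).1 (by simp)
      · have h := ominus_real (m := k + 1) (a := a) (b := b) Nat.prime_three hf hF (by omega) hab
        rw [Nat.add_sub_cancel] at h
        rw [← Nat.card_congr (e.trans g).toEquiv] at h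
        exact absurd (shape_of h hc).1 (by simp)

end Cfsg.Agent.H294.CFR
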