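import Cfsg.Agent.H294.ClGeo
import Cfsg.Agent.S0270
/-!
# `PSp_2m(F)`, characteristic 3, `m ≥ 3`: no quasisimple `A` of order 25920 (helper294)
-/

set_option autoImplicit false
set_option linter.unusedSectionVars false

namespace Cfsg.Agent.H294.ClSymp

open Subgroup Cfsg Cfsg.Agent.H293 Cfsg.Agent.FixBN Cfsg.Agent.H340 Cfsg.Agent.BpCl Cfsg.Agent.H294.ClGeo
open Cfsg.Agent.ClassicalGeometry.SympBasic Cfsg.Agent.ClassicalGeometry.SympAutSemi
  Cfsg.Agent.ClassicalGeometry.SympGamma Cfsg.Agent.ClassicalGeometry.SympAutExists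
  Cfsg.Agent.ClassicalGeometry.SympSiegel

/-- The composition factors of the fixed subgroup contradict a quasisimple `A` with `|A/Z(A)| = 25920`. -/
theorem not_cf {X : Type} [Group X] [Finite X] {α : MulAut X} {A : Subgroup X} (h : Cfg α A)
    (hA : Nat.card (↥A ⧸ center ↥A) = 25920) : ¬ CF.{0} (fun S _ => CFR.NotB S) ↥(fixedSubgroup α) := by
  intro hcf
  have hn : (A.subgroupOf (fixedSubgroup α)).Normal := by
    refine ⟨fun x hx g => ?_⟩
    rw [mem_subgroupOf] at hx ⊢
    exact h.nrm g g.2 _ hx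
  let e : ↥(A.subgroupOf (fixedSubgroup α)) ≃* ↥A := subgroupOfEquivOfLe h.le
  have h1 : CF.{0} (fun S _ => CFR.NotB S) ↥A := (hcf.normal _).congr e
  have hs : IsSimpleGroup (↥A ⧸ center ↥A) := h.qs.2
  have hc : commutator ↥A = ⊤ := h.qs.1.commutator_eq_top
  have h2 : CF.{0} (fun S _ => CFR.NotB S) (↥A ⧸ center ↥A) := h1.quotient _
  have h3 := h2 ⊤ (Subgroup.Normal.isSubnormal inferInstance) (↥A ⧸ center ↥A)
  refine h3 ?_ (Subgroup.topEquiv (G := ↥A ⧸ center ↥A)).toMonoidHom
    (Subgroup.topEquiv (G := ↥A ⧸ center ↥A)).surjective hA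
  by_contra hno
  push Not at hno
  have h4 : commutator (↥A ⧸ center ↥A) = ⊥ := by
    rw [_root_.commutator_def, Subgroup.commutator_eq_bot_iff_le_centralizer]
    intro a _ b _
    exact hno b a
  have h5 : commutator (↥A ⧸ center ↥A) = ⊤ := by
    have h3 := congrArg (Subgroup.map (QuotientGroup.mk' (center ↥A))) hc
    rw [_root_.commutator_def, Subgroup.map_commutator, Subgroup.map_top_of_surjective _ (QuotientGroup.mk'_surjective _)] at h3
    exact h3
  rw [h4] at h5
  obtain ⟨x, hx⟩ := exists_ne (1 : ↥A ⧸ center ↥A)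
  exact hx (by rw [← Subgroup.mem_bot, h5]; exact Subgroup.mem_top _)

variable {F : Type} [Field F] [Finite F] [CharP F 3] {m : ℕ}

theorem cf_psp_of_key (hm : 1 ≤ m) {g : semiSim m F}
    (key : CF.{0} (fun S _ => CFR.NotB S) ↥(Iso (fun u v => sympBilin m F u v) ⊓ CL F g.1)) :
    CF.{0} (fun S _ => CFR.NotB S) ↥(fixedSubgroup (Psi m F g)) := by
  rw [← map_fixed] at key
  have h2 : CF.{0} (fun S _ => CFR.NotB S) ↥(fixedSubgroup (conjHom m F g)) :=
    key.congr ((fixedSubgroup (conjHom m F g)).equivMapOfInjective _ spLin_injective).symm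
  exact CF.fixed_of_lift (QuotientGroup.mk' _) (QuotientGroup.mk'_surjective _)
    (fun y hy => (QuotientGroup.eq_one_iff y).1 hy) (conjHom m F g) _ (fun A => (Psi_mk g A).symm) h2

/-- **The symplectic row.** -/
theorem psp_row (hm : 3 ≤ m) {α : MulAut (PSp m F)} {A : Subgroup (PSp m F)} (h : Cfg α A) (hZ : center ↥A = ⊥)
    (hA : Nat.card ↥A = 25920) : False := by
  classical
  have := Fintype.ofFinite F
  have hr := Nat.prime_three
  have hr2 : (3 : ℕ) ≠ 2 := by norm_num
  have : Fact (Nat.Prime 3) := ⟨hr⟩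
  have h2F : (2 : F) ≠ 0 := two_ne_zero_of_charP hr hr2
  have hAq : Nat.card (↥A ⧸ center ↥A) = 25920 := by
    rw [← hA, card_eq_card_quotient_mul_card_subgroup (center ↥A), hZ, card_bot, mul_one]
  obtain ⟨g, rfl⟩ := Cfsg.Agent.ClassicalGeometry.SympAutExists.exists_semi (by omega : 2 ≤ m) α
    (Cfsg.Agent.ClassicalGeometry.SympAutOddA.recog (by omega) (Or.inr h2F) α)
  have hx : Psi m F g * Psi m F g = 1 := h.sq
  obtain ⟨φ, l, hl, hg⟩ := g.2
  have h1 : Psi m F (g ^ 2) = 1 := by rw [map_pow, pow_two, hx]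
  obtain ⟨a, ha⟩ := exists_scal_of_Psi_eq_one (by omega) (g ^ 2) h1
  have hga : ∀ v, g.1 (g.1 v) = (a : F) • v := by
    intro v
    have h2 : (g ^ 2).1 v = g.1 (g.1 v) := by rw [pow_two]; rfl
    rw [← h2, ha, scal_apply]
  have hs : SemiIso (fun u v => sympBilin m F u v) φ l g.1 :=
    { add := hg.1, smul := hg.2.1, form := hg.2.2 }
  have hfr : Module.finrank F (Fin m ⊕ Fin m → F) = m + m := by simp
  have hno : ¬ CF.{0} (fun S _ => CFR.NotB S) ↥(Iso (fun u v => sympBilin m F u v) ⊓ CL F g.1) :=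
    fun key => not_cf h hAq (cf_psp_of_key (by omega) key)
  obtain ⟨hF3, rfl, ha1, rfl⟩ := CFR.cf_iso_main (ε := -1) (by rw [hfr]; omega)
    (fun u hu => eq_zero_of_forall_sympForm_right hu) (by ring)
      (fun u v => by
        have h3 : (sympBilin m F).IsAlt := fun v => sympForm_self v
        have h4 := h3.neg u v
        linear_combination -h4) hs a.ne_zero hga hno
  have hgg : ∀ v, g.1 (g.1 v) = v := by
    intro v; rw [hga, ha1, one_smul]
  have hgf : ∀ u v, sympForm m F (g.1 u) (g.1 v) = sympForm m F u v := by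
    intro u v
    have := hg.2.2 u v
    rw [this, one_mul]; rfl
  have hgadd : ∀ u v, g.1 (u + v) = g.1 u + g.1 v := hg.1
  have hgsm : ∀ (c : F) v, g.1 (c • v) = c • g.1 v := fun c v => hg.2.1 c v
  have hgneg : ∀ v, g.1 (-v) = -g.1 v := fun v => by
    rw [← neg_one_smul F v, hgsm, neg_one_smul]
  -- the families of transvections
  have hsplit : HasSplit 3 (PSp m F) := by
    have hsim : IsSimpleGroup (PSp m F) := S0270.result m (by omega) (by omega)
    refine Cfg.hasSplit_of_lie hr hr2 (Or.inr (Or.inl ⟨F, inferInstance, inferInstance, inferInstance, m, by omega,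
      fun h => by omega, ⟨MulEquiv.refl _⟩⟩))
  have hfix : ∀ A : Matrix.symplecticGroup (Fin m) F, conjHom m F g A = A → ∀ v, rho m F A (g.1 v) = g.1 (rho m F A v) := by
    intro A hA v
    have h3 := DFunLike.congr_fun (rho_conjHom g A) (g.1 v)
    rw [hA] at h3
    rw [h3, Equiv.Perm.mul_apply, Equiv.Perm.mul_apply, perm_inv_apply_self]
  have hneg : ∀ (v : Fin m ⊕ Fin m → F) (c : F), transv (-v) c = transv v c := by
    intro v c
    apply rho_injective
    ext1 x
    rw [rho_transv, rho_transv]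
    have h3 : sympForm m F x (-v) = -sympForm m F x v := by
      have := sympForm_smul_right (m := m) (F := F) (-1) x v
      rw [neg_one_smul] at this
      rw [this]; ring
    rw [h3]
    simp
  have htr : ∀ v c, conjHom m F g (transv v c) = transv (g.1 v) c := by
    intro v c
    rw [conjHom_transv g one_ne_zero hg, inv_one, mul_one]
    rfl
  have hex : ∀ e : F, (e = 1 ∨ e = -1) → ∃ v : Fin m ⊕ Fin m → F, v ≠ 0 ∧ g.1 v = e • v := by
    intro e he
    by_contra hcon
    push Not at hcon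
    have hee : e * e = 1 := by rcases he with rfl | rfl <;> ring
    have h3 : ∀ v, g.1 v = -(e • v) := by
      intro v
      by_contra h4
      have h5 : v + e • g.1 v ≠ 0 := by
        intro h5
        apply h4
        have h6 : e • (v + e • g.1 v) = 0 := by rw [h5, smul_zero]
        rw [smul_add, smul_smul, hee, one_smul] at h6
        exact eq_neg_of_add_eq_zero_right h6
      apply hcon _ h5
      rw [hgadd, hgsm, hgg, smul_add, smul_smul, hee, one_smul, add_comm]
    apply h.ne
    apply MulEquiv.ext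
    intro x
    obtain ⟨y, rfl⟩ := QuotientGroup.mk_surjective x
    rw [Psi_mk]
    congr 1
    apply rho_injective
    rw [rho_conjHom]
    ext1 v
    rw [Equiv.Perm.mul_apply, Equiv.Perm.mul_apply]
    have h5 : g.1⁻¹ v = -(e • v) := by
      apply g.1.injective
      rw [perm_apply_inv_self, hgneg, hgsm, h3, smul_neg, neg_neg, smul_smul, hee, one_smul]
    rw [h5, h3]
    have h6 := (isSemi_rho y).2.1 (-e) v
    rw [neg_smul] at h6
    rw [h6]
    change -(e • (-e) • (rho m F y) v) = _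
    rw [neg_smul, smul_neg, neg_neg, smul_smul, hee, one_smul]
  refine two_sets h hZ hr2 hsplit (QuotientGroup.mk' (center _)) (QuotientGroup.mk'_surjective _)
    (fun y hy => (QuotientGroup.eq_one_iff y).1 hy) (conjHom m F g) (fun A => (Psi_mk g A).symm)
    (T₁ := {t | ∃ v, g.1 v = v ∧ t = transv v 1}) (T₂ := {t | ∃ v, g.1 v = -v ∧ t = transv v 1})
    ?_ ?_ ?_ ?_ ?_ ?_ ?_ ?_ ?_
  · rintro _ ⟨v, -, rfl⟩
    exact transv_pow_char 3 v 1
  · rintro _ ⟨v, -, rfl⟩
    exact transv_pow_char 3 v 1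
  · rintro _ ⟨v, hv, rfl⟩
    rw [htr, hv]
  · rintro _ ⟨v, hv, rfl⟩
    rw [htr, hv, hneg]
  · rintro y hy _ ⟨v, hv, rfl⟩
    refine ⟨y • v, ?_, conj_transv y v 1⟩
    have := hfix y hy v
    rw [hv] at this
    exact this.symm
  · rintro y hy _ ⟨v, hv, rfl⟩
    refine ⟨y • v, ?_, conj_transv y v 1⟩
    have := hfix y hy v
    rw [hv] at this
    have h6 := (isSemi_rho y).2.1 (-1) v
    rw [neg_one_smul] at h6
    rw [h6] at this
    change g.1 (rho m F y v) = -(rho m F y v)
    rw [← this]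
    exact neg_one_smul F _
  · rintro _ ⟨v, hv, rfl⟩ _ ⟨w, hw, rfl⟩
    refine (Cfsg.Agent.ClassicalGeometry.SympAutOddA.transv_commute ?_ 1 1).eq
    have h3 := hgf v w
    rw [hv, hw] at h3
    have h4 : sympForm m F v (-w) = -sympForm m F v w := by
      have := sympForm_smul_right (m := m) (F := F) (-1) v w
      rw [neg_one_smul] at this
      rw [this]; ring
    rw [h4] at h3
    have h5 : 2 * sympForm m F v w = 0 := by linear_combination -h3
    exact (mul_eq_zero.1 h5).resolve_left h2F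
  · obtain ⟨v, hv, hv'⟩ := hex 1 (Or.inl rfl)
    exact ⟨_, ⟨v, by rw [hv', one_smul], rfl⟩, pr_transv_ne_one 3 (by omega) hv one_ne_zero⟩
  · obtain ⟨v, hv, hv'⟩ := hex (-1) (Or.inr rfl)
    exact ⟨_, ⟨v, by rw [hv', neg_one_smul], rfl⟩, pr_transv_ne_one 3 (by omega) hv one_ne_zero⟩

end Cfsg.Agent.H294.ClSymp
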