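import Cfsg.Agent.H748.SU43
import Cfsg.Agent.H270.U53.Cent
import Cfsg.Agent.H528.U42Extra
import Cfsg.Agent.H293.StdOddC
import Cfsg.Agent.SignalizersComponents.LocalNormalize
/-!
# The subgroup `K` of `C_G(z)`, `z` a 2-central involution of the standard subgroup `U₄(2)`, when `⟨L^G⟩` is a central
extension of `U₅(3)` (helper294)
-/

set_option autoImplicit false
set_option linter.unusedSectionVars false

namespace Cfsg.Agent.H294.AltFour

open Cfsg Subgroup Cfsg.Agent.H293.StdOdd Cfsg.Agent.SignalizersComponents Cfsg.Agent.SignalizersComponents.Components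

open scoped commutatorElement

universe u v

/-- the structure of `K` -/
structure KS (K : Type u) [Group K] : Prop where
  qs : IsQuasisimple K
  cyc : IsCyclic ↥(pCore 2 K)
  four : Nat.card ↥(pCore 2 K) = 4
  iso : ∃ (E : Type) (_ : Field E) (_ : Fintype E), Fintype.card E = 9 ∧ Nonempty ((K ⧸ oddCore K) ≃* ↥(SU 4 E 3))

theorem KS.congr {K K' : Type u} [Group K] [Group K'] [Finite K] [Finite K'] (e : K ≃* K') (h : KS K) : KS K' := by
  have e1 : ↥(pCore 2 K) ≃* ↥(pCore 2 K') := by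
    have e2 := (pCore 2 K).equivMapOfInjective e.toMonoidHom e.injective
    rw [Cfsg.Agent.Lib.Cores.map_equiv_pCore e 2] at e2
    exact e2
  have hodd : (oddCore K).map e.toMonoidHom = oddCore K' := Cfsg.Agent.Lib.Cores.map_equiv_pPrimeCore e 2
  obtain ⟨E, i1, i2, hE, ⟨k⟩⟩ := h.iso
  have := h.cyc
  exact ⟨LayerBasic.quasisimple_congr e h.qs, isCyclic_of_surjective e1 e1.surjective,
    (Nat.card_congr e1.toEquiv).symm.trans h.four,
    ⟨E, i1, i2, hE, ⟨(QuotientGroup.congr (oddCore K) (oddCore K') e hodd).symm.trans k⟩⟩⟩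

/-- odd powers -/
theorem mem_of_odd {G : Type u} [Group G] {K : Subgroup G} {z k c : G} (hz : z * z = 1) (hk : k ∈ K) (hzc : z = k * c)
    (hkc : k * c = c * k) {m : ℕ} (hm : Odd m) (hc : c ^ m = 1) : z ∈ K := by
  have h1 : z ^ m = z := by
    obtain ⟨j, rfl⟩ := hm
    rw [pow_succ, pow_mul, pow_two, hz, one_pow, one_mul]
  have h2 : z ^ m = k ^ m := by
    rw [hzc, (show Commute k c from hkc).mul_pow, hc, mul_one]
  rw [← h1, h2]
  exact pow_mem hk m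

variable {G : Type u} [Group G] [Finite G]

/-- **The subgroup `K`.** -/
theorem exists_K {X : Subgroup G} (hX : X.Normal) (hXO : X ≤ centralizer (oddCore G : Set G))
    {Y : Subgroup (G ⧸ oddCore G)} (hY : Y.Normal) (hmap : X.map (QuotientGroup.mk' (oddCore G)) = Y)
    {E : Type} [Field E] [Fintype E] (hE : Fintype.card E = 9) (k : ↥Y ≃* PSU 5 E 3) {z : G} (hzX : z ∈ X)
    (hz : z * z = 1) (hz1 : z ≠ 1)
    (hx : ∃ x₁ ∈ X, ∃ y₁ ∈ X, ∃ x₂ ∈ X, ∃ y₂ ∈ X, x₁ * y₁ = z * (y₁ * x₁) ∧ x₂ * y₂ = z * (y₂ * x₂) ∧ Commute x₁ z ∧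
      Commute y₁ z ∧ Commute x₂ z ∧ Commute y₂ z ∧ Commute x₁ x₂ ∧ Commute x₁ y₂ ∧ Commute y₁ x₂ ∧ Commute y₁ y₂) :
    ∃ K : Subgroup G, K ≤ centralizer ({z} : Set G) ∧ z ∈ K ∧ KS ↥K ∧ ⁅K, centralizerPPrimeCore 2 z⁆ = ⊥ := by
  have : Fact (Nat.Prime 2) := ⟨Nat.prime_two⟩
  have hodd := odd_oddCore G
  obtain ⟨π, hπ⟩ : ∃ π : G →* G ⧸ oddCore G, π = QuotientGroup.mk' (oddCore G) := ⟨_, rfl⟩
  have hker : π.ker = oddCore G := by rw [hπ]; exact QuotientGroup.ker_mk' _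
  have hkm : ∀ x, x ∈ oddCore G ↔ π x = 1 := fun x => by rw [← MonoidHom.mem_ker, hker]
  rw [← hπ] at hmap
  have hπX : ∀ x ∈ X, π x ∈ Y := fun x hx => by rw [← hmap]; exact ⟨x, hx, rfl⟩
  -- the involution of `Y`
  let zb : ↥Y := ⟨π z, hπX z hzX⟩
  have hzb2 : zb * zb = 1 := Subtype.ext (by change π z * π z = 1; rw [← map_mul, hz, map_one])
  have hzb1 : zb ≠ 1 := by
    intro h1
    have h2 : π z = 1 := congrArg Subtype.val h1
    rw [← MonoidHom.mem_ker, hker] at h2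
    have h3 : orderOf z ∣ Nat.card (oddCore G) := by
      have := orderOf_dvd_natCard (⟨z, h2⟩ : oddCore G)
      rwa [orderOf_mk] at this
    rw [orderOf_eq_prime (by rw [pow_two]; exact hz) hz1] at h3
    exact (Nat.not_even_iff_odd.2 hodd) (even_iff_two_dvd.2 h3)
  obtain ⟨x₁, hx₁, y₁, hy₁, x₂, hx₂, y₂, hy₂, r1, r2, c1, c2, c3, c4, c5, c6, c7, c8⟩ := hx
  have hcom : ∀ {a b : G} (ha : a ∈ X) (hb : b ∈ X), Commute a b →
      Commute (⟨π a, hπX a ha⟩ : ↥Y) ⟨π b, hπX b hb⟩ := by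
    intro a b ha hb h
    apply Subtype.ext
    change π a * π b = π b * π a
    rw [← map_mul, h.eq, map_mul]
  obtain ⟨K0, hzK0, hK0, ⟨k0⟩⟩ := Cfsg.Agent.H270.U53.cent_u5 hE k zb hzb2 hzb1
    ⟨⟨π x₁, hπX _ hx₁⟩, ⟨π y₁, hπX _ hy₁⟩, ⟨π x₂, hπX _ hx₂⟩, ⟨π y₂, hπX _ hy₂⟩,
      Subtype.ext (by change π x₁ * π y₁ = π z * (π y₁ * π x₁); rw [← map_mul, r1, map_mul, map_mul]),
      Subtype.ext (by change π x₂ * π y₂ = π z * (π y₂ * π x₂); rw [← map_mul, r2, map_mul, map_mul]),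
      hcom hx₁ hzX c1, hcom hy₁ hzX c2, hcom hx₂ hzX c3, hcom hy₂ hzX c4, hcom hx₁ hx₂ c5, hcom hx₁ hy₂ c6,
      hcom hy₁ hx₂ c7, hcom hy₁ hy₂ c8⟩
  -- in the quotient
  obtain ⟨C, hC⟩ : ∃ C : Subgroup (G ⧸ oddCore G), C = Y ⊓ centralizer ({π z} : Set (G ⧸ oddCore G)) := ⟨_, rfl⟩
  have hCm : (centralizer ({zb} : Set ↥Y)).map Y.subtype = C := by
    rw [hC]
    ext y
    constructor
    · rintro ⟨y, hy, rfl⟩
      refine mem_inf.2 ⟨y.2, mem_centralizer_singleton_iff.2 ?_⟩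
      exact congrArg Subtype.val (mem_centralizer_singleton_iff.1 hy)
    · intro hy
      obtain ⟨h1, h2⟩ := mem_inf.1 hy
      exact ⟨⟨y, h1⟩, mem_centralizer_singleton_iff.2 (Subtype.ext (mem_centralizer_singleton_iff.1 h2)), rfl⟩
  obtain ⟨K1, hK1⟩ : ∃ K1 : Subgroup (G ⧸ oddCore G), K1 = K0.map Y.subtype := ⟨_, rfl⟩
  have hK1C : K1 = ⁅C, C⁆ := by
    rw [hK1, hK0, map_commutator, hCm]
  have hK1Y : K1 ≤ Y := by rw [hK1]; exact map_subtype_le _
  have hK1c : ∀ x ∈ K1, x * π z = π z * x := by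
    intro x hx
    have h1 : K1 ≤ C := by rw [hK1C]; exact commutator_le_self _
    have h2 := h1 hx
    rw [hC] at h2
    exact mem_centralizer_singleton_iff.1 (mem_inf.1 h2).2
  have k1 : ↥K1 ≃* ↥(SU 4 E 3) := by
    rw [hK1]
    exact (K0.equivMapOfInjective Y.subtype Y.subtype_injective).symm.trans k0
  have hCconj : ∀ g : G, g * z = z * g → ∀ x ∈ C, π g * x * (π g)⁻¹ ∈ C := by
    intro g hg x hx
    rw [hC] at hx ⊢
    obtain ⟨h1, h2⟩ := mem_inf.1 hx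
    refine mem_inf.2 ⟨hY.conj_mem x h1 _, mem_centralizer_singleton_iff.2 ?_⟩
    have h3 := mem_centralizer_singleton_iff.1 h2
    have h4 : π g * π z = π z * π g := by rw [← map_mul, hg, map_mul]
    have h5 : (π g)⁻¹ * π z = π z * (π g)⁻¹ := (show Commute (π g) (π z) from h4).inv_left
    calc π g * x * (π g)⁻¹ * π z = π g * x * ((π g)⁻¹ * π z) := by group
      _ = π g * (x * π z) * (π g)⁻¹ := by rw [h5]; group
      _ = (π g * π z) * x * (π g)⁻¹ := by rw [h3]; group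
      _ = π z * (π g * x * (π g)⁻¹) := by rw [h4]; group
  have hK1conj : ∀ g : G, g * z = z * g → ∀ x ∈ K1, π g * x * (π g)⁻¹ ∈ K1 := by
    intro g hg x hx
    have h1 : C.map (MulAut.conj (π g)).toMonoidHom ≤ C := by
      rintro _ ⟨y, hy, rfl⟩
      exact hCconj g hg y hy
    have h2 : K1.map (MulAut.conj (π g)).toMonoidHom ≤ K1 := by
      rw [hK1C, map_commutator]
      exact commutator_mono h1 h1
    exact h2 ⟨x, hx, rfl⟩
  -- the preimage
  obtain ⟨M0, hM0⟩ : ∃ M0 : Subgroup G, M0 = X ⊓ K1.comap π := ⟨_, rfl⟩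
  have hM0m : ∀ x ∈ M0, x ∈ X ∧ π x ∈ K1 := fun x hx => by
    rw [hM0] at hx
    exact ⟨(mem_inf.1 hx).1, mem_comap.1 (mem_inf.1 hx).2⟩
  let f : ↥M0 →* ↥K1 := (π.comp M0.subtype).codRestrict _ fun x => (hM0m x x.2).2
  have hf : Function.Surjective f := by
    rintro ⟨y, hy⟩
    have h1 := hK1Y hy
    rw [← hmap] at h1
    obtain ⟨x, hx, rfl⟩ := h1
    exact ⟨⟨x, by rw [hM0]; exact mem_inf.2 ⟨hx, mem_comap.2 hy⟩⟩, rfl⟩
  have hfk : f.ker = (oddCore G).subgroupOf M0 := by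
    ext x
    rw [MonoidHom.mem_ker, mem_subgroupOf, hkm]
    exact ⟨fun h => congrArg Subtype.val h, fun h => Subtype.ext h⟩
  obtain ⟨Z, hZ⟩ : ∃ Z : Subgroup ↥M0, Z = (oddCore G).subgroupOf M0 := ⟨_, rfl⟩
  have hZc : Z ≤ center ↥M0 := by
    intro x hx
    rw [hZ, mem_subgroupOf] at hx
    rw [mem_center_iff]
    intro y
    exact Subtype.ext (mem_centralizer_iff.1 (hXO (hM0m y y.2).1) _ hx).symm
  have hZodd : Odd (Nat.card Z) := by
    have h1 : Nat.card Z ∣ Nat.card (oddCore G) := by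
      rw [hZ]
      exact Subgroup.card_dvd_of_injective
        ((M0.subtype.comp (Subgroup.subtype _)).codRestrict (oddCore G) fun y => mem_subgroupOf.1 y.2)
        (fun a b hab => Subtype.ext (Subtype.ext (congrArg (fun z : oddCore G => (z : G)) hab)))
    obtain ⟨j, hj⟩ := h1
    rw [hj] at hodd
    exact (Nat.odd_mul.1 hodd).1
  have hZn : Z.Normal := by rw [hZ]; infer_instance
  have eZ : (↥M0 ⧸ Z) ≃* ↥(SU 4 E 3) :=
    ((QuotientGroup.quotientMulEquivOfEq (hZ.trans hfk.symm)).trans (QuotientGroup.quotientKerEquivOfSurjective f hf)).trans k1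
  obtain ⟨q1, q2, q3, q4, q5⟩ := Cfsg.Agent.H748.SU43.lift hE Z hZc hZodd eZ
  obtain ⟨K, hK⟩ : ∃ K : Subgroup G, K = (commutator ↥M0).map M0.subtype := ⟨_, rfl⟩
  have eK : ↥(commutator ↥M0) ≃* ↥K := by
    rw [hK]
    exact (commutator ↥M0).equivMapOfInjective M0.subtype M0.subtype_injective
  have hKS : KS ↥K := KS.congr eK ⟨q1, q4, q5, ⟨E, _, _, hE, q3⟩⟩
  have hKM : K = ⁅M0, M0⁆ := by
    rw [hK, _root_.commutator_def, map_commutator, ← MonoidHom.range_eq_map, range_subtype]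
  have hM0conj : ∀ g : G, g * z = z * g → ∀ x ∈ M0, g * x * g⁻¹ ∈ M0 := by
    intro g hg x hx
    obtain ⟨h1, h2⟩ := hM0m x hx
    rw [hM0]
    refine mem_inf.2 ⟨hX.conj_mem x h1 g, mem_comap.2 ?_⟩
    rw [map_mul, map_mul, map_inv]
    exact hK1conj g hg _ h2
  have hKconj : ∀ g : G, g * z = z * g → ∀ x ∈ K, g * x * g⁻¹ ∈ K := by
    intro g hg x hx
    have h1 : M0.map (MulAut.conj g).toMonoidHom ≤ M0 := by
      rintro _ ⟨y, hy, rfl⟩
      exact hM0conj g hg y hy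
    have h2 : K.map (MulAut.conj g).toMonoidHom ≤ K := by
      rw [hKM, map_commutator]
      exact commutator_mono h1 h1
    exact h2 ⟨x, hx, rfl⟩
  -- `K` centralizes `z`
  have hKz : K ≤ centralizer ({z} : Set G) := by
    have hc : ∀ m : ↥M0, (m : G) * z * (m : G)⁻¹ * z⁻¹ ∈ oddCore G := by
      intro m
      rw [hkm, map_mul, map_mul, map_mul, map_inv, map_inv, hK1c _ (hM0m m m.2).2]
      group
    have hcX : ∀ m : ↥M0, (m : G) * z * (m : G)⁻¹ * z⁻¹ ∈ X := fun m =>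
      mul_mem (hX.conj_mem z hzX m) (inv_mem hzX)
    have hcz : ∀ c ∈ oddCore G, ∀ x ∈ X, x * c = c * x := fun c hc x hx => (mem_centralizer_iff.1 (hXO hx) c hc).symm
    have key : ∀ a ∈ M0, ∀ b ∈ M0, ⁅a, b⁆ * z = z * ⁅a, b⁆ := by
      intro a ha b hb
      obtain ⟨s, hs⟩ : ∃ s, s = a * z * a⁻¹ * z⁻¹ := ⟨_, rfl⟩
      obtain ⟨r, hr⟩ : ∃ r, r = b * z * b⁻¹ * z⁻¹ := ⟨_, rfl⟩
      have hsO : s ∈ oddCore G := hs ▸ hc ⟨a, ha⟩
      have hrO : r ∈ oddCore G := hr ▸ hc ⟨b, hb⟩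
      have hsX : s ∈ X := hs ▸ hcX ⟨a, ha⟩
      have hrX : r ∈ X := hr ▸ hcX ⟨b, hb⟩
      have haX := (hM0m a ha).1
      have hbX := (hM0m b hb).1
      have e1 : a * z = s * z * a := by rw [hs]; group
      have e2 : b * z = r * z * b := by rw [hr]; group
      have e3 : a⁻¹ * z = s⁻¹ * z * a⁻¹ := by
        have h1 : z * a⁻¹ = s * a⁻¹ * z := by
          have h2 : s * a⁻¹ = a⁻¹ * s := (hcz s hsO a⁻¹ (inv_mem haX)).symm
          rw [h2]
          calc z * a⁻¹ = a⁻¹ * (a * z) * a⁻¹ := by group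
            _ = a⁻¹ * s * z := by rw [e1]; group
        rw [mul_assoc, h1]; group
      have e4 : b⁻¹ * z = r⁻¹ * z * b⁻¹ := by
        have h1 : z * b⁻¹ = r * b⁻¹ * z := by
          have h2 : r * b⁻¹ = b⁻¹ * r := (hcz r hrO b⁻¹ (inv_mem hbX)).symm
          rw [h2]
          calc z * b⁻¹ = b⁻¹ * (b * z) * b⁻¹ := by group
            _ = b⁻¹ * r * z := by rw [e2]; group
        rw [mul_assoc, h1]; group
      have m1 := hcz r hrO a haX
      have m2 := hcz s⁻¹ (inv_mem hsO) b hbX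
      have m3 := hcz r⁻¹ (inv_mem hrO) a⁻¹ (inv_mem haX)
      have m4 := hcz s⁻¹ (inv_mem hsO) a haX
      have m5 := hcz r⁻¹ (inv_mem hrO) b hbX
      have m6 := hcz r⁻¹ (inv_mem hrO) a haX
      have m7 := hcz s⁻¹ (inv_mem hsO) r hrX
      have m8 := hcz r⁻¹ (inv_mem hrO) s⁻¹ (inv_mem hsX)
      rw [commutatorElement_def]
      calc a * b * a⁻¹ * b⁻¹ * z = a * b * a⁻¹ * (b⁻¹ * z) := by group
        _ = a * b * (a⁻¹ * r⁻¹) * z * b⁻¹ := by rw [e4]; group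
        _ = a * (b * r⁻¹) * (a⁻¹ * z) * b⁻¹ := by rw [m3]; group
        _ = (a * r⁻¹) * b * (a⁻¹ * z) * b⁻¹ := by rw [m5]; group
        _ = r⁻¹ * a * (b * s⁻¹) * z * a⁻¹ * b⁻¹ := by rw [m6, e3]; group
        _ = r⁻¹ * (a * s⁻¹) * (b * z) * a⁻¹ * b⁻¹ := by rw [m2]; group
        _ = r⁻¹ * s⁻¹ * (a * r) * z * b * a⁻¹ * b⁻¹ := by rw [m4, e2]; group
        _ = r⁻¹ * (s⁻¹ * r) * (a * z) * b * a⁻¹ * b⁻¹ := by rw [m1]; group
        _ = r⁻¹ * (r * s⁻¹) * (s * z * a) * b * a⁻¹ * b⁻¹ := by rw [← m7, e1]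
        _ = z * (a * b * a⁻¹ * b⁻¹) := by group
    rw [hKM, commutator_le]
    intro a ha b hb
    exact mem_centralizer_singleton_iff.2 (key a ha b hb)
  refine ⟨K, hKz, ?_, hKS, ?_⟩
  · -- `z ∈ K`
    have hzM : z ∈ M0 := by
      rw [hM0]
      refine mem_inf.2 ⟨hzX, mem_comap.2 ?_⟩
      rw [hK1]
      exact ⟨zb, hzK0, rfl⟩
    have h1 : (⟨z, hzM⟩ : ↥M0) ∈ commutator ↥M0 ⊔ Z := by rw [q2]; exact mem_top _
    obtain ⟨a, ha, c, hc, hac⟩ := mem_sup_of_normal_right.1 h1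
    refine mem_of_odd (K := K) (k := (a : G)) (c := (c : G)) hz ?_ ?_ ?_ hZodd ?_
    · rw [hK]; exact ⟨a, ha, rfl⟩
    · exact (congrArg Subtype.val hac).symm
    · exact congrArg Subtype.val (mem_center_iff.1 (hZc hc) a)
    · have h2 : (⟨c, hc⟩ : Z) ^ Nat.card Z = 1 := pow_card_eq_one'
      exact congrArg (fun w : Z => ((w : ↥M0) : G)) h2
  · -- `K` centralizes the core
    obtain ⟨W, hW⟩ : ∃ W : Subgroup G, W = centralizerPPrimeCore 2 z := ⟨_, rfl⟩
    rw [← hW]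
    have hWc : W ≤ centralizer ({z} : Set G) := by rw [hW]; exact map_subtype_le _
    have hWodd : Odd (Nat.card W) := by
      rw [hW]
      exact Nat.coprime_two_right.1 (LocalNormalize.map_pPrimeCore_coprime 2 _)
    have hWconj : ∀ g : G, g * z = z * g → ∀ w ∈ W, g * w * g⁻¹ ∈ W := by
      intro g hg w hw
      rw [hW] at hw ⊢
      obtain ⟨w, hw, rfl⟩ := hw
      have hn : (pPrimeCore 2 ↥(centralizer ({z} : Set G))).Normal := Cfsg.Agent.Lib.Cores.pPrimeCore_normal 2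
      exact ⟨_, hn.conj_mem w hw ⟨g, mem_centralizer_singleton_iff.2 hg⟩, rfl⟩
    rw [commutator_comm]
    have hp : Group.IsPerfect ↥K := hKS.qs.1
    refine commutator_eq_bot_of_commutator_commutator_eq_bot hp ?_
    -- `[W, K] ≤ K ∩ W`
    have h1 : ⁅W, K⁆ ≤ K ⊓ W := by
      rw [commutator_le]
      intro w hw x hx
      have hwz := mem_centralizer_singleton_iff.1 (hWc hw)
      have hxz := mem_centralizer_singleton_iff.1 (hKz hx)
      rw [commutatorElement_def]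
      refine mem_inf.2 ⟨?_, ?_⟩
      · exact mul_mem (hKconj w hwz x hx) (inv_mem hx)
      · have e1 : w * x * w⁻¹ * x⁻¹ = w * (x * w⁻¹ * x⁻¹) := by group
        rw [e1]
        exact mul_mem hw (hWconj x hxz _ (inv_mem hw))
    -- `K ∩ W` is central in `K`
    have h2 : K ⊓ W ≤ centralizer (K : Set G) := by
      have h3 : (W.subgroupOf K).Normal := by
        refine ⟨fun x hx g => ?_⟩
        rw [mem_subgroupOf] at hx ⊢
        exact hWconj g (mem_centralizer_singleton_iff.1 (hKz g.2)) _ hx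
      rcases quasisimple_normal hKS.qs _ h3 with h4 | h4
      · exfalso
        rw [subgroupOf_eq_top] at h4
        have h5 : Odd (Nat.card K) := by
          obtain ⟨j, hj⟩ := card_dvd_of_le h4
          rw [hj] at hWodd
          exact (Nat.odd_mul.1 hWodd).1
        exact quasisimple_not_isSolvable hKS.qs (solvable_of_odd h5)
      · intro x hx
        rw [mem_centralizer_iff]
        intro y hy
        have h5 : (⟨x, (mem_inf.1 hx).1⟩ : ↥K) ∈ center ↥K := h4 (mem_subgroupOf.2 (mem_inf.1 hx).2)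
        exact congrArg Subtype.val (mem_center_iff.1 h5 ⟨y, hy⟩)
    rw [commutator_eq_bot_iff_le_centralizer]
    exact h1.trans h2

end Cfsg.Agent.H294.AltFour
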