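import Cfsg.Agent.H293.Bridge
import Cfsg.Agent.H293.StdOddC
/-!
# `|N_G(L) : L C_G(L)| = 2` for a simple subgroup `L` with `|Aut L| = 2 |L|` on which an outer automorphism is induced
(helper294)
-/

set_option autoImplicit false
set_option linter.unusedSectionVars false

namespace Cfsg.Agent.H294.AltIdx

open Cfsg Subgroup Cfsg.Agent.H293 Cfsg.Agent.H293.StdOdd Cfsg.Agent.StdL2.Setup Cfsg.Agent.H293.Bridge

universe u v

theorem relIndex_two {G : Type u} [Group G] [Finite G] {L : Subgroup G} (hZ : center ↥L = ⊥)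
    (ha : Nat.card (MulAut ↥L) = 2 * Nat.card ↥L) {x : G} (hx : x ∈ normalizer (L : Set G))
    (hx' : x ∉ L ⊔ centralizer (L : Set G)) :
    (L ⊔ centralizer (L : Set G)).relIndex (normalizer (L : Set G)) = 2 := by
  obtain ⟨I, hI⟩ : ∃ I : Subgroup (MulAut ↥L), I = (MulAut.conj : ↥L →* MulAut ↥L).range := ⟨_, rfl⟩
  have hIn : I.Normal := by
    rw [hI]
    refine ⟨?_⟩
    rintro _ ⟨l, rfl⟩ φ
    refine ⟨φ l, ?_⟩
    ext y
    change ((φ l * y * (φ l)⁻¹ : ↥L) : G) = ((φ (l * φ.symm y * l⁻¹) : ↥L) : G)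
    rw [map_mul, map_mul, map_inv, φ.apply_symm_apply]
  have hcard : Nat.card I = Nat.card ↥L := by
    rw [hI]
    refine (Nat.card_congr (MonoidHom.ofInjective (f := (MulAut.conj : ↥L →* MulAut ↥L)) ?_).toEquiv).symm
    rw [injective_iff_map_eq_one]
    intro l hl
    have h1 : l ∈ center ↥L := by
      rw [mem_center_iff]
      intro y
      have h2 := DFunLike.congr_fun hl y
      change l * y * l⁻¹ = y at h2
      rw [mul_inv_eq_iff_eq_mul] at h2
      exact h2.symm
    rwa [hZ, mem_bot] at h1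
  have hidx : I.index = 2 := by
    have h1 := I.card_mul_index
    rw [hcard, ha, mul_comm 2] at h1
    exact Nat.eq_of_mul_eq_mul_left Nat.card_pos h1
  have h1 : (I.comap L.normalizerMonoidHom).index ∣ 2 := by
    rw [index_comap, ← hidx]
    exact relIndex_dvd_index_of_normal I _
  have h2 : I.comap L.normalizerMonoidHom ≤ (L ⊔ centralizer (L : Set G)).subgroupOf (normalizer (L : Set G)) := by
    intro y hy
    rw [mem_comap, hI] at hy
    obtain ⟨l, hl⟩ := hy
    rw [mem_subgroupOf]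
    have h3 : (l : G)⁻¹ * y ∈ centralizer (L : Set G) := by
      rw [mem_centralizer_iff]
      intro a ha
      have h4 := congrArg Subtype.val (DFunLike.congr_fun hl ⟨a, ha⟩)
      change (l : G) * a * (l : G)⁻¹ = (y : G) * a * (y : G)⁻¹ at h4
      have h5 : (y : G) * a = (l : G) * a * (l : G)⁻¹ * y := by rw [h4]; group
      calc a * ((l : G)⁻¹ * y) = (l : G)⁻¹ * ((l : G) * a * (l : G)⁻¹ * y) := by group
        _ = (l : G)⁻¹ * y * a := by rw [← h5]; group
    have h4 : (y : G) = l * ((l : G)⁻¹ * y) := by group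
    rw [h4]
    exact mul_mem ((le_sup_left : L ≤ _) l.2) ((le_sup_right : centralizer (L : Set G) ≤ _) h3)
  have h3 : (L ⊔ centralizer (L : Set G)).relIndex (normalizer (L : Set G)) ∣ 2 :=
    (index_dvd_of_le h2).trans h1
  rcases (Nat.dvd_prime Nat.prime_two).1 h3 with h4 | h4
  · exfalso
    rw [relIndex_eq_one] at h4
    exact hx' (h4 hx)
  · exact h4

/-- **the outer element** -/
theorem exists_outer {H : Type u} [Group H] [Finite H] {N A : Subgroup H} {t : H} (C : Conf N A t)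
    (hout : ¬ ∃ y, al C = MulAut.conj y) (hA : Nat.card ↥A = 25920) (h128 : 128 ∣ Nat.card ↥(fixedSubgroup (al C))) :
    ∃ y ∈ N, y * t = t * y ∧ ¬ ∃ a ∈ A, ∃ c ∈ centralizer (A : Set H), y = a * c := by
  by_contra hcon
  push Not at hcon
  obtain ⟨F, hF⟩ : ∃ F : Subgroup ↥N, F = fixedSubgroup (al C) := ⟨_, rfl⟩
  rw [← hF] at h128
  obtain ⟨A', hA'⟩ : ∃ A' : Subgroup ↥N, A' = A.subgroupOf N := ⟨_, rfl⟩
  obtain ⟨Z, hZ⟩ : ∃ Z : Subgroup ↥N, Z = centralizer (A' : Set ↥N) := ⟨_, rfl⟩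
  have hodd : Odd (Nat.card Z) := by rw [hZ, hA']; exact odd_cent C hout
  have hcom : ∀ (a : ↥A') (b : ↥Z), Commute (A'.subtype a) (Z.subtype b) := by
    intro a b
    have h1 : (b : ↥N) ∈ centralizer (A' : Set ↥N) := by rw [← hZ]; exact b.2
    exact mem_centralizer_iff.1 h1 a a.2
  have hle : F ≤ (MonoidHom.noncommCoprod A'.subtype Z.subtype hcom).range := by
    intro y hy
    rw [hF, mem_fix] at hy
    obtain ⟨a, ha, c, hc, hyc⟩ := hcon y y.2 hy
    have haN : a ∈ N := C.le ha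
    have hcN : c ∈ N := by
      have h1 : c = a⁻¹ * y := by rw [hyc]; group
      rw [h1]
      exact mul_mem (inv_mem haN) y.2
    refine ⟨(⟨⟨a, haN⟩, by rw [hA', mem_subgroupOf]; exact ha⟩, ⟨⟨c, hcN⟩, ?_⟩), Subtype.ext hyc.symm⟩
    rw [hZ, hA', mem_cent_sub C]
    exact hc
  have h1 := ((h128.trans (card_dvd_of_le hle)).trans (Subgroup.card_range_dvd _))
  rw [Nat.card_prod] at h1
  have h2 : Nat.card ↥A' = 25920 := by
    rw [hA', ← hA]
    exact Nat.card_congr (subgroupOfEquivOfLe C.le).toEquiv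
  rw [h2] at h1
  have h3 : Nat.Coprime 128 (Nat.card Z) := by
    have : (128 : ℕ) = 2 ^ 7 := by norm_num
    rw [this]
    exact Nat.Coprime.pow_left 7 ((Nat.coprime_two_left).2 hodd)
  have h4 := h3.dvd_of_dvd_mul_right h1
  norm_num at h4

/-- back to `G` -/
theorem exists_lift_outer {G : Type u} [Group G] [Finite G] {L : Subgroup G} (h : Hyp L) {t : G} (ht : orderOf t = 2)
    (htL : t ∈ centralizer (L : Set G)) {y : G ⧸ oddCore G}
    (hy : y * QuotientGroup.mk' (oddCore G) t = QuotientGroup.mk' (oddCore G) t * y)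
    (hno : ¬ ∃ a ∈ L.map (QuotientGroup.mk' (oddCore G)),
      ∃ c ∈ centralizer ((L.map (QuotientGroup.mk' (oddCore G)) : Subgroup _) : Set (G ⧸ oddCore G)), y = a * c) :
    ∃ x ∈ normalizer (L : Set G), x ∉ L ⊔ centralizer (L : Set G) := by
  obtain ⟨x, rfl, hx⟩ := Hyp.exists_lift ht (odd_oddCore G) hy
  refine ⟨x, h.cent_le ht htL (mem_centralizer_singleton_iff.2 hx), fun hmem => ?_⟩
  apply hno
  have hn : L ≤ normalizer (centralizer (L : Set G) : Set G) := by
    intro l hl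
    refine mem_normalizer_fintype fun c hc => ?_
    have h1 : l * c * l⁻¹ = c := by
      rw [mem_centralizer_iff.1 hc l hl, mul_inv_cancel_right]
    change l * c * l⁻¹ ∈ centralizer (L : Set G)
    rw [h1]
    exact hc
  obtain ⟨l, hl, c, hc, rfl⟩ : ∃ l ∈ L, ∃ c ∈ centralizer (L : Set G), l * c = x := by
    have h1 : x ∈ ((L ⊔ centralizer (L : Set G) : Subgroup G) : Set G) := hmem
    rw [coe_mul_of_left_le_normalizer_right _ _ hn] at h1
    obtain ⟨l, hl, c, hc, hlc⟩ := h1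
    exact ⟨l, hl, c, hc, hlc⟩
  exact ⟨_, ⟨l, hl, rfl⟩, _, Hyp.map_mem hc, map_mul _ _ _⟩

end Cfsg.Agent.H294.AltIdx
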