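import Cfsg.Agent.H294.CFRows
import Cfsg.Agent.H294.CFBase
/-!
# Isometries commuting with a semisimilitude of scalar square, restricted base (helper294)
-/

set_option autoImplicit false
set_option linter.unusedSectionVars false

namespace Cfsg.Agent.H294.CFR

open Subgroup Cfsg Cfsg.Agent.BpLin Cfsg.Agent.BpCl Cfsg.Agent.H340
open Cfsg.Agent.ClassicalGeometry.SympAutSemi (perm_apply_inv_self perm_inv_apply_self)

universe u

section Semi

variable {R : ∀ (S : Type u) [Group S], Prop} {r : ℕ} {okL ok : ℕ → ℕ → Prop}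

/-- All matrix pieces of the ring `E` invariant under `s` are allowed. -/
def OkRingS (ok : ℕ → ℕ → Prop) {E : Type} [Ring E] (s : RInv E) : Prop :=
  ∀ (n : ℕ) (D : Fin n → Type) (d : Fin n → ℕ) (_ : ∀ i, DivisionRing (D i)) (_ : ∀ i, NeZero (d i))
    (e : E ≃+* ∀ i, Matrix (Fin (d i)) (Fin (d i)) (D i)) (i : Fin n),
    (s.congr e) (Pi.single i 1) = Pi.single i 1 → ok (Nat.card (D i)) (d i)

theorem OkRing.toS {E : Type} [Ring E] (h : OkRing ok E) (s : RInv E) : OkRingS ok s :=
  fun n D d hD hd e i _ => h n D d hD hd e i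

theorem cf_unitary_S (hr : r.Prime) (hr2 : r ≠ 2) (hB : BaseR r okL ok R) {E : Type} [Ring E] [Finite E]
    [IsSemisimpleRing E] [CharP E r] (hokL : OkRing okL E) (s : RInv E) (hok : OkRingS ok s) : CF R ↥s.U := by
  classical
  obtain ⟨n, D, d, hD, hd, ⟨e⟩⟩ := IsSemisimpleRing.exists_ringEquiv_pi_matrix_divisionRing E
  have hfin : Finite (∀ i, Matrix (Fin (d i)) (Fin (d i)) (D i)) := Finite.of_equiv E e.toEquiv
  have hfin2 : ∀ i, Finite (Matrix (Fin (d i)) (Fin (d i)) (D i)) := fun i =>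
    Finite.of_surjective (fun x : ∀ i, Matrix (Fin (d i)) (Fin (d i)) (D i) => x i)
      (fun a => ⟨Pi.single i a, by simp⟩)
  have hne : ∀ i, Nonempty (Fin (d i)) := fun i => ⟨0⟩
  have hfin3 : ∀ i, Finite (D i) := fun i =>
    Finite.of_injective (fun c : D i => Matrix.scalar (Fin (d i)) c) (fun a b h => Matrix.scalar_inj.mp h)
  have key : CF R ↥(s.congr e).U := by
    refine cf_unitary_pi (s.congr e) (fun i => ?_) fun i hi => ?_
    · have := charP_factor hr e i
      exact cf_units_matrix hB (d i) (hokL n D d hD hd e i)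
    · have := charP_factor hr e i
      refine cf_unitary_matrix' hr2 hB (hok n D d hD hd e i ?_) _
      convert hi
  exact key.congr (s.congrU e).symm

variable {A : Type} [Ring A]

theorem cf_fixUnitary_S (hr : r.Prime) (hr2 : r ≠ 2) (hB : BaseR r okL ok R) [Finite A] [IsSemisimpleRing A]
    [CharP A r] (τ : A ≃+* A) (hτ : ∀ a, τ (τ a) = a) (hokL : OkRing okL ↥(fixRing τ))
    (s : RInv A) (hs : ∀ a, τ (s a) = s (τ a)) (hok : OkRingS ok (fixInv τ s hs)) :
    CF R ↥(s.U ⊓ fixU τ) := by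
  have h1 : IsSemisimpleRing ↥(fixRing τ) := isSemisimpleRing_fixed τ hτ (isUnit_two hr hr2)
  have h2 : CharP ↥(fixRing τ) r := charP_subring _
  have h3 := cf_unitary_S hr hr2 hB hokL (fixInv τ s hs) hok
  have h4 : ((fixInv τ s hs).U.map ((fixU τ).subtype.comp (fixUEquiv τ).toMonoidHom)) = s.U ⊓ fixU τ := by
    ext u
    constructor
    · rintro ⟨v, hv, rfl⟩
      have h5 : (v : ↥(fixRing τ)) * (fixInv τ s hs) v = 1 := hv
      exact ⟨congrArg Subtype.val h5, (fixUEquiv τ v).2⟩
    · rintro ⟨hu, hu'⟩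
      refine ⟨(fixUEquiv τ).symm ⟨u, hu'⟩, ?_, ?_⟩
      · exact Subtype.ext hu
      · change ((fixUEquiv τ ((fixUEquiv τ).symm ⟨u, hu'⟩) : ↥(fixU τ)) : Aˣ) = u
        rw [MulEquiv.apply_symm_apply]
  have hinj : Function.Injective ((fixU τ).subtype.comp (fixUEquiv τ).toMonoidHom) :=
    (fixU τ).subtype_injective.comp (fixUEquiv τ).injective
  exact h3.congr (((fixInv τ s hs).U.equivMapOfInjective _ hinj).trans (MulEquiv.subgroupCongr h4))

end Semi

section Main

variable {P : ∀ (S : Type u) [Group S], Prop} {r : ℕ} {okL ok : ℕ → ℕ → Prop} {F V : Type} [Field F] [Finite F]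
  [CharP F r] [AddCommGroup V] [Module F V] [Module.Finite F V] {B : LinearMap.BilinForm F V} {ε : F}

/-- **Isometries commuting with a semisimilitude of scalar square.** -/
theorem cf_iso_CL (hr : r.Prime) (hr2 : r ≠ 2) (hP : BaseR r okL ok P) [Nontrivial V]
    (hnd : ∀ u, (∀ v, B u v = 0) → u = 0) (hε : ε * ε = 1)
    (hB : ∀ u v, B u v = ε * B v u) {φ : F ≃+* F} {g : Equiv.Perm V} {l : F}
    (hg : SemiIso (fun u v => B u v) φ l g) {a : F} (ha : a ≠ 0) (hga : ∀ v, g (g v) = a • v)
    (hokL : OkRing okL ↥(fixRing (semiEnd hg.toSemi)))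
    (hok : OkRingS ok (fixInv (semiEnd hg.toSemi) (adjI hnd hε hB) (semiEnd_adjI hnd hε hB hg))) :
    CF P ↥(Iso (fun u v => B u v) ⊓ CL F g) := by
  have hV : Finite V := Module.finite_of_finite F
  have hE : Finite (Module.End F V) := Finite.of_injective (fun T : Module.End F V => (T : V → V)) DFunLike.coe_injective
  have hss : IsSemisimpleRing (Module.End F V) := IsSemisimpleRing.moduleEnd F V
  have hch : CharP (Module.End F V) r :=
    charP_of_injective_algebraMap (algebraMap F (Module.End F V)).injective r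
  let s := adjI hnd hε hB
  let τ := semiEnd hg.toSemi
  have h1 : CF P ↥(s.U ⊓ fixU τ) := cf_fixUnitary_S hr hr2 hP τ (semiEnd_semiEnd hg.toSemi ha hga) hokL s
    (semiEnd_adjI hnd hε hB hg) hok
  let e : LinearMap.GeneralLinearGroup F V ≃* (V ≃ₗ[F] V) := LinearMap.GeneralLinearGroup.generalLinearEquiv F V
  have h2 : (s.U ⊓ fixU τ).map e.toMonoidHom = Iso (fun u v => B u v) ⊓ CL F g := by
    ext h
    rw [Subgroup.mem_map_equiv]
    have he : ∀ v, ((e.symm h : LinearMap.GeneralLinearGroup F V) : Module.End F V) v = h v := fun _ => rfl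
    constructor
    · rintro ⟨h3, h4⟩
      refine ⟨fun u v => ?_, fun v => ?_⟩
      · have h5 := (mem_adjU hnd hε hB _).1 h3 u v
        exact h5
      · have h5 := LinearMap.congr_fun (mem_fixU.1 h4) (g v)
        rw [semiEnd_apply, he, he, perm_inv_apply_self] at h5
        exact h5.symm
    · rintro ⟨h3, h4⟩
      refine ⟨(mem_adjU hnd hε hB _).2 h3, mem_fixU.2 ?_⟩
      apply LinearMap.ext
      intro v
      rw [semiEnd_apply, he, he, ← mem_CL.1 h4, perm_apply_inv_self]
  rw [← h2]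
  exact h1.congr ((s.U ⊓ fixU τ).equivMapOfInjective e.toMonoidHom e.injective)

end Main

end Cfsg.Agent.H294.CFR
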