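import Cfsg.Agent.H294.CFForm
/-!
# Isometries commuting with a semisimilitude of scalar square: the case `|S| = 25920` in characteristic 3 (helper294)
-/

set_option autoImplicit false
set_option linter.unusedSectionVars false

namespace Cfsg.Agent.H294.CFR

open Subgroup Cfsg Cfsg.Agent.BpLin Cfsg.Agent.BpCl Cfsg.Agent.H340
open Cfsg.Agent.ClassicalGeometry.SympAutSemi (perm_apply_inv_self perm_inv_apply_self)

universe u

section Piece

variable {E : Type} [Ring E] [Finite E] [CharP E 3] {n : ℕ} {D : Fin n → Type} {d : Fin n → ℕ}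
  [∀ i, DivisionRing (D i)] [∀ i, NeZero (d i)]

/-- A central element is a scalar in each factor. -/
theorem exists_comp {G : E} (hG : ∀ x, x * G = G * x) (e : E ≃+* ∀ i, Matrix (Fin (d i)) (Fin (d i)) (D i))
    (i : Fin n) : ∃ x, Matrix.scalar (Fin (d i)) x = e G i := by
  classical
  apply exists_scalar_div
  intro N
  have h1 := congrArg e (hG (e.symm (Pi.single i N)))
  rw [map_mul, map_mul, e.apply_symm_apply] at h1
  have h2 := congrFun h1 i
  rw [Pi.mul_apply, Pi.mul_apply, Pi.single_eq_same] at h2
  exact h2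

/-- no square root of `-1` in a field with three elements -/
theorem card_ne_three {G : E} (hG : ∀ x, x * G = G * x) (hGG : G * G = -1)
    (e : E ≃+* ∀ i, Matrix (Fin (d i)) (Fin (d i)) (D i)) (i : Fin n) : Nat.card (D i) ≠ 3 := by
  intro h3
  have hne : Nonempty (Fin (d i)) := ⟨0⟩
  obtain ⟨x, hx⟩ := exists_comp hG e i
  have hfin := finite_factor e i
  have hch : CharP (D i) 3 := charP_factor Nat.prime_three e i
  have hxx : x * x = -1 := by
    apply Matrix.scalar_inj (n := Fin (d i)).mp
    rw [map_mul, hx, ← Pi.mul_apply, ← map_mul, hGG, map_neg, map_one, Pi.neg_apply, Pi.one_apply, map_neg, map_one]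
  let _ : Field (D i) := littleWedderburn (D i)
  have := Fintype.ofFinite (D i)
  have hx0 : x ≠ 0 := by
    rintro rfl
    rw [mul_zero] at hxx
    exact one_ne_zero (neg_eq_zero.1 hxx.symm)
  have h4 := FiniteField.pow_card_sub_one_eq_one x hx0
  rw [← Nat.card_eq_fintype_card, h3] at h4
  have h5 : x * x = 1 := by rw [← h4]; ring
  rw [hxx] at h5
  have h6 : (2 : D i) = 0 := by linear_combination -h5
  have h7 : (3 : ℕ) ∣ 2 := (CharP.cast_eq_zero_iff (D i) 3 2).1 (by exact_mod_cast h6)
  exact absurd h7 (by norm_num)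

/-- an involution which inverts the sign of a central square root of one moves all factors -/
theorem not_fixed (s : RInv E) {G : E} (hG : ∀ x, x * G = G * x) (hGG : G * G = 1) (hs : s G = -G)
    (e : E ≃+* ∀ i, Matrix (Fin (d i)) (Fin (d i)) (D i)) (i : Fin n)
    (hi : (s.congr e) (Pi.single i 1) = Pi.single i 1) : False := by
  classical
  have hne : Nonempty (Fin (d i)) := ⟨0⟩
  obtain ⟨x, hx⟩ := exists_comp hG e i
  have hch : CharP (D i) 3 := charP_factor Nat.prime_three e i
  have hxx : x * x = 1 := by
    apply Matrix.scalar_inj (n := Fin (d i)).mp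
    rw [map_mul, hx, ← Pi.mul_apply, ← map_mul, hGG, map_one, Pi.one_apply, map_one]
  have hp : (Pi.single i 1 : ∀ i, Matrix (Fin (d i)) (Fin (d i)) (D i)) * e G = Pi.single i (e G i) := by
    funext l
    rw [Pi.mul_apply]
    by_cases hl : l = i
    · subst hl
      rw [Pi.single_eq_same, Pi.single_eq_same, one_mul]
    · rw [Pi.single_eq_of_ne hl, Pi.single_eq_of_ne hl, zero_mul]
  have hpc : (-(e G)) * (Pi.single i 1 : ∀ i, Matrix (Fin (d i)) (Fin (d i)) (D i)) = -Pi.single i (e G i) := by
    funext l
    rw [Pi.mul_apply]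
    by_cases hl : l = i
    · subst hl
      rw [Pi.single_eq_same, mul_one, Pi.neg_apply, Pi.neg_apply, Pi.single_eq_same]
    · rw [Pi.single_eq_of_ne hl, mul_zero, Pi.neg_apply, Pi.single_eq_of_ne hl, neg_zero]
  have h1 : (s.congr e) (Pi.single i (e G i)) = -Pi.single i (e G i) := by
    rw [← hp, (s.congr e).mul, hi, hp, ← hpc]
    congr 1
    change e (s (e.symm (e G))) = _
    rw [e.symm_apply_apply, hs, map_neg]
  have hneg : ∀ y, (s.congr e) (-y) = -((s.congr e) y) := by
    intro y
    have h2 := (s.congr e).add (-y) y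
    rw [neg_add_cancel, (s.congr e).zero] at h2
    exact eq_neg_of_add_eq_zero_left h2.symm
  have key : (Pi.single i 1 : ∀ i, Matrix (Fin (d i)) (Fin (d i)) (D i)) = -Pi.single i 1 := by
    have hx' : (x = 1 ∨ x = -1) := by
      have h2 : (x - 1) * (x + 1) = 0 := by
        rw [sub_mul, mul_add, mul_add, hxx, mul_one, one_mul, one_mul]; abel
      rcases mul_eq_zero.1 h2 with h3 | h3
      · exact Or.inl (sub_eq_zero.1 h3)
      · exact Or.inr (eq_neg_of_add_eq_zero_left h3)
    rcases hx' with rfl | rfl
    · rw [← hx, map_one, hi] at h1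
      exact h1
    · rw [← hx, map_neg, map_one, Pi.single_neg, hneg, hi, neg_neg] at h1
      exact h1.symm
  have h3 := congrFun (congrFun (congrFun key i) 0) 0
  rw [Pi.neg_apply, Pi.single_eq_same, Matrix.neg_apply, Matrix.one_apply_eq] at h3
  have h6 : (2 : D i) = 0 := by
    rw [← one_add_one_eq_two]
    nth_rewrite 1 [h3]
    exact neg_add_cancel 1
  have h7 : (3 : ℕ) ∣ 2 := (CharP.cast_eq_zero_iff (D i) 3 2).1 (by exact_mod_cast h6)
  exact absurd h7 (by norm_num)

end Piece

section Main

variable {F V : Type} [Field F] [Finite F] [CharP F 3] [AddCommGroup V] [Module F V] [Module.Finite F V]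
  {B : LinearMap.BilinForm F V} {ε : F}

theorem cf_iso_main (h6 : 6 ≤ Module.finrank F V) (hnd : ∀ u, (∀ v, B u v = 0) → u = 0) (hε : ε * ε = 1)
    (hB : ∀ u v, B u v = ε * B v u) {φ : F ≃+* F} {g : Equiv.Perm V} {l : F}
    (hg : SemiIso (fun u v => B u v) φ l g) {a : F} (ha : a ≠ 0) (hga : ∀ v, g (g v) = a • v)
    (hno : ¬ CF.{u} (fun S _ => NotB S) ↥(Iso (fun u v => B u v) ⊓ CL F g)) :
    Nat.card F = 3 ∧ φ = 1 ∧ a = 1 ∧ l = 1 := by
  classical
  have hV : Nontrivial V := Module.nontrivial_of_finrank_pos (R := F) (by omega)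
  have hVf : Finite V := Module.finite_of_finite F
  have hE : Finite (Module.End F V) := Finite.of_injective (fun T : Module.End F V => (T : V → V)) DFunLike.coe_injective
  have hch : CharP (Module.End F V) 3 :=
    charP_of_injective_algebraMap (algebraMap F (Module.End F V)).injective 3
  have hr := Nat.prime_three
  have hr2 : (3 : ℕ) ≠ 2 := by norm_num
  set τ := semiEnd hg.toSemi with hτdef
  have hτ : ∀ T, τ (τ T) = T := semiEnd_semiEnd hg.toSemi ha hga
  have hτF : ∀ c : F, τ (algebraMap F (Module.End F V) c) = algebraMap F (Module.End F V) (φ c) := by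
    intro c
    apply LinearMap.ext
    intro v
    rw [hτdef, semiEnd_apply, Module.algebraMap_end_apply, hg.smul, perm_apply_inv_self,
      Module.algebraMap_end_apply]
  have main : OkRingS okB (fixInv τ (adjI hnd hε hB) (semiEnd_adjI hnd hε hB hg)) → False := fun hok =>
    hno (cf_iso_CL hr hr2 base_B hnd hε hB hg ha hga (fun _ _ _ _ _ _ _ => trivial) hok)
  obtain ⟨v0, hv0⟩ := exists_ne (0 : V)
  -- `φ = 1`
  have hφ : φ = 1 := by
    by_contra hφ
    apply main
    refine OkRing.toS (okRing_semi (F := F) hτ (isUnit_two hr hr2) hφ ?_ hτF end_cen end_card fun q hq => ?_) _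
    · intro c
      have h1 : g (g (c • v0)) = φ (φ c) • g (g v0) := by rw [hg.smul, hg.smul]
      rw [hga, hga, smul_smul, smul_smul] at h1
      have h3 : (a * c - φ (φ c) * a) • v0 = 0 := by rw [sub_smul, h1, sub_self]
      rcases smul_eq_zero.1 h3 with h4 | h4
      · have h5 : a * (φ (φ c)) = a * c := by linear_combination -h4
        exact mul_left_cancel₀ ha h5
      · exact absurd h4 hv0
    · rintro ⟨-, h | h⟩ <;> omega
  subst hφ
  have hτF' : ∀ c : F, τ (algebraMap F (Module.End F V) c) = algebraMap F (Module.End F V) c := fun c => hτF c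
  -- `|F| = 3`
  have hF3 : Nat.card F = 3 := by
    by_contra h3
    apply main
    refine OkRing.toS (okRing_linear (F := F) hτF' fun q d hq => ?_) _
    rintro ⟨hq3, -⟩
    have := Fintype.ofFinite F
    have h4 := (card_ge_of_odd (F := F) hr hr2).2
    rw [← Nat.card_eq_fintype_card] at h4
    omega
  have := Fintype.ofFinite F
  have hsq : ∀ c : F, c ≠ 0 → c * c = 1 := by
    intro c hc
    have h4 := FiniteField.pow_card_sub_one_eq_one c hc
    rw [← Nat.card_eq_fintype_card, hF3] at h4
    rw [← h4]; ring
  have h2F : (2 : F) ≠ 0 := two_ne_zero_of_charP hr hr2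
  -- the linear map `g`
  let G : Module.End F V :=
    { toFun := g
      map_add' := hg.add
      map_smul' := fun c v => by rw [hg.smul]; rfl }
  have hG : ∀ v, G v = g v := fun _ => rfl
  have hGτ : τ G = G := by
    apply LinearMap.ext
    intro v
    rw [hτdef, semiEnd_apply, hG, perm_apply_inv_self, hG]
  let G' : ↥(fixRing τ) := ⟨G, hGτ⟩
  have hG'c : ∀ x, x * G' = G' * x := by
    intro x
    apply Subtype.ext
    change (x : Module.End F V) * G = G * (x : Module.End F V)
    have h1 : τ (x : Module.End F V) = x := x.2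
    apply LinearMap.ext
    intro v
    have h3 : semiEnd hg.toSemi (x : Module.End F V) (g v) = (x : Module.End F V) (g v) :=
      LinearMap.congr_fun h1 (g v)
    rw [semiEnd_apply, perm_inv_apply_self] at h3
    exact h3.symm
  have hGG : G * G = algebraMap F (Module.End F V) a := by
    apply LinearMap.ext
    intro v
    rw [Module.algebraMap_end_apply]
    exact hga v
  have ha1 : a = 1 := by
    by_contra ha1
    have ha2 : a = -1 := by
      have h1 : (a - 1) * (a + 1) = 0 := by linear_combination hsq a ha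
      rcases mul_eq_zero.1 h1 with h3 | h3
      · exact absurd (sub_eq_zero.1 h3) ha1
      · exact eq_neg_of_add_eq_zero_left h3
    apply main
    refine OkRing.toS ?_ _
    intro n D d hD hd e i
    have hch' : CharP ↥(fixRing τ) 3 := charP_subring _
    have h1 := card_ne_three (G := G') hG'c (by
      apply Subtype.ext
      change G * G = -1
      rw [hGG, ha2, map_neg, map_one]) e i
    exact fun h => h1 h.1
  refine ⟨hF3, rfl, ha1, ?_⟩
  subst ha1
  by_contra hl1
  have hgb : ∀ u v, B (g u) (g v) = l * B u v := hg.form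
  have hl0 : l ≠ 0 := by
    rintro rfl
    apply hv0
    apply hnd
    intro v
    have h1 := hgb (g⁻¹ v0) (g⁻¹ v)
    rwa [perm_apply_inv_self, perm_apply_inv_self, zero_mul] at h1
  have hl2 : l = -1 := by
    have h1 : (l - 1) * (l + 1) = 0 := by linear_combination hsq l hl0
    rcases mul_eq_zero.1 h1 with h3 | h3
    · exact absurd (sub_eq_zero.1 h3) hl1
    · exact eq_neg_of_add_eq_zero_left h3
  subst hl2
  have hsG : adjI hnd hε hB G = -G := by
    refine Free.adj_unique hnd fun u v => ?_
    have h1 := hgb u (g v)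
    rw [hga, one_smul] at h1
    rw [LinearMap.neg_apply, map_neg, LinearMap.neg_apply, hG, hG, h1]
    ring
  apply main
  intro n D d hD hd e i hi
  exfalso
  have hch' : CharP ↥(fixRing τ) 3 := charP_subring _
  refine not_fixed (fixInv τ (adjI hnd hε hB) (semiEnd_adjI hnd hε hB hg)) (G := G') hG'c ?_ ?_ e i ?_
  · apply Subtype.ext
    change G * G = 1
    rw [hGG, map_one]
  · apply Subtype.ext
    exact hsG
  · convert hi

end Main

end Cfsg.Agent.H294.CFR
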