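import Cfsg.Agent.H294.CFSemi
/-!
# The matrix pieces of the fixed ring of an involutory automorphism of a matrix ring (helper294)
-/

set_option autoImplicit false
set_option linter.unusedSectionVars false

namespace Cfsg.Agent.H294.CFR

open Subgroup Cfsg Cfsg.Agent.BpLin Cfsg.Agent.H340

section Central

variable {E : Type} [Ring E] {n : ℕ} {D : Fin n → Type} {d : Fin n → ℕ} [∀ i, DivisionRing (D i)]
  [∀ i, NeZero (d i)]

/-- A matrix commuting with everything is scalar. -/
theorem exists_scalar_div {D : Type} [DivisionRing D] {d : ℕ} {M : Matrix (Fin d) (Fin d) D}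
    (hM : ∀ N, N * M = M * N) : ∃ c, Matrix.scalar (Fin d) c = M := by
  have h := Matrix.mem_range_scalar_of_commute_single (M := M) (fun i j _ => hM _)
  exact h

theorem card_le_of_central {K : Type} [Field K] (f : K →+* E) (hf : ∀ c x, f c * x = x * f c)
    (e : E ≃+* ∀ i, Matrix (Fin (d i)) (Fin (d i)) (D i)) (i : Fin n) [Finite (D i)] :
    Nat.card K ≤ Nat.card (D i) := by
  classical
  have hne : Nonempty (Fin (d i)) := ⟨0⟩
  let g : K →+* Matrix (Fin (d i)) (Fin (d i)) (D i) :=
    (Pi.evalRingHom (fun i => Matrix (Fin (d i)) (Fin (d i)) (D i)) i).comp (e.toRingHom.comp f)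
  have hg : ∀ c N, N * g c = g c * N := by
    intro c N
    have h1 := congrArg e (hf c (e.symm (Pi.single i N)))
    rw [map_mul, map_mul, e.apply_symm_apply] at h1
    have h2 := congrFun h1 i
    rw [Pi.mul_apply, Pi.mul_apply, Pi.single_eq_same] at h2
    exact h2.symm
  have hs : ∀ c, ∃ x, Matrix.scalar (Fin (d i)) x = g c := fun c => exists_scalar_div (hg c)
  choose h hh using hs
  have hinj : Function.Injective h := by
    intro a b hab
    have h1 : g a = g b := by rw [← hh a, ← hh b, hab]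
    exact g.injective h1
  exact Nat.card_le_card_of_injective h hinj

end Central

section Semi

variable {F A : Type} [Field F] [Finite F] [Ring A] [Algebra F A] [Finite A]

theorem exists_omega {φ : F ≃+* F} (hφ : φ ≠ 1) (hφ2 : ∀ c, φ (φ c) = c) : ∃ w : F, w ≠ 0 ∧ φ w = -w := by
  obtain ⟨c, hc⟩ : ∃ c, φ c ≠ c := by
    by_contra h
    push Not at h
    exact hφ (RingEquiv.ext h)
  refine ⟨c - φ c, fun h => hc (sub_eq_zero.1 h).symm, ?_⟩
  rw [map_sub, hφ2, neg_sub]

/-- the decomposition `A = E + ω E` -/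
theorem exists_decomp {τ : A ≃+* A} (hτ : ∀ a, τ (τ a) = a) (h2 : IsUnit (2 : F)) {φ : F ≃+* F}
    (hτφ : ∀ c : F, τ (algebraMap F A c) = algebraMap F A (φ c)) {w : F} (hw : w ≠ 0) (hw' : φ w = -w) (a : A) :
    ∃ x y : ↥(fixRing τ), a = x + algebraMap F A w * y := by
  obtain ⟨u, hu⟩ := h2
  have hu' : u.val * (u⁻¹ : Fˣ).val = 1 := u.mul_inv
  have hφ2 : φ (2 : F) = 2 := map_ofNat φ 2
  have hφu : φ ((u⁻¹ : Fˣ) : F) = ((u⁻¹ : Fˣ) : F) := by
    have h1 : φ u.val * φ ((u⁻¹ : Fˣ) : F) = 1 := by rw [← map_mul, hu', map_one]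
    rw [hu, hφ2, ← hu] at h1
    calc φ ((u⁻¹ : Fˣ) : F) = ((u⁻¹ : Fˣ) : F) * (u.val * φ ((u⁻¹ : Fˣ) : F)) := by
          rw [← mul_assoc, Units.inv_mul, one_mul]
      _ = _ := by rw [h1, mul_one]
  have hw2 : φ w⁻¹ = -w⁻¹ := by rw [map_inv₀, hw', inv_neg]
  refine ⟨⟨algebraMap F A ((u⁻¹ : Fˣ) : F) * (a + τ a), ?_⟩,
    ⟨algebraMap F A (((u⁻¹ : Fˣ) : F) * w⁻¹) * (a - τ a), ?_⟩, ?_⟩
  · change τ _ = _
    rw [map_mul, hτφ, hφu, map_add, hτ, add_comm]
  · change τ _ = _
    rw [map_mul, hτφ, map_mul, hφu, hw2, map_sub, hτ, mul_neg, map_neg, neg_mul, ← mul_neg, neg_sub]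
  · change a = algebraMap F A ((u⁻¹ : Fˣ) : F) * (a + τ a) +
      algebraMap F A w * (algebraMap F A (((u⁻¹ : Fˣ) : F) * w⁻¹) * (a - τ a))
    have h1 : w * (((u⁻¹ : Fˣ) : F) * w⁻¹) = ((u⁻¹ : Fˣ) : F) := by
      field_simp
    rw [← mul_assoc, ← map_mul, h1, ← mul_add]
    have h3 : a + τ a + (a - τ a) = algebraMap F A 2 * a := by
      rw [map_ofNat, two_mul]; abel
    rw [h3, ← mul_assoc, ← map_mul, ← hu, Units.inv_mul, map_one, one_mul]

theorem eq_zero_of_decomp {τ : A ≃+* A} (h2 : IsUnit (2 : F)) {φ : F ≃+* F}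
    (hτφ : ∀ c : F, τ (algebraMap F A c) = algebraMap F A (φ c)) {w : F} (hw : w ≠ 0) (hw' : φ w = -w)
    {x y : ↥(fixRing τ)} (h : (x : A) + algebraMap F A w * y = 0) : x = 0 ∧ y = 0 := by
  have h1 := congrArg τ h
  rw [map_add, map_mul, hτφ, hw', show τ (x : A) = x from x.2, show τ (y : A) = y from y.2, map_zero, map_neg,
    neg_mul] at h1
  obtain ⟨u, hu⟩ := h2
  have h3 : algebraMap F A 2 * (x : A) = 0 := by
    rw [map_ofNat, two_mul]
    calc (x : A) + x = (x + algebraMap F A w * y) + (x + -(algebraMap F A w * y)) := by abel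
      _ = 0 := by rw [h, h1, add_zero]
  have hx : (x : A) = 0 := by
    calc (x : A) = algebraMap F A ((u⁻¹ : Fˣ) : F) * (algebraMap F A 2 * (x : A)) := by
          rw [← mul_assoc, ← map_mul, ← hu, Units.inv_mul, map_one, one_mul]
      _ = 0 := by rw [h3, mul_zero]
  have hy : (y : A) = 0 := by
    rw [hx, zero_add] at h
    calc (y : A) = algebraMap F A w⁻¹ * (algebraMap F A w * (y : A)) := by
          rw [← mul_assoc, ← map_mul, inv_mul_cancel₀ hw, map_one, one_mul]
      _ = 0 := by rw [h, mul_zero]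
  exact ⟨Subtype.ext hx, Subtype.ext hy⟩

theorem card_fix_sq {τ : A ≃+* A} (hτ : ∀ a, τ (τ a) = a) (h2 : IsUnit (2 : F)) {φ : F ≃+* F} (hφ : φ ≠ 1)
    (hφ2 : ∀ c, φ (φ c) = c) (hτφ : ∀ c : F, τ (algebraMap F A c) = algebraMap F A (φ c)) :
    Nat.card ↥(fixRing τ) ^ 2 = Nat.card A := by
  obtain ⟨w, hw, hw'⟩ := exists_omega hφ hφ2
  rw [pow_two, ← Nat.card_prod]
  refine Nat.card_congr (Equiv.ofBijective (fun z : ↥(fixRing τ) × ↥(fixRing τ) =>
    (z.1 : A) + algebraMap F A w * (z.2 : A)) ⟨?_, ?_⟩)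
  · rintro ⟨x, y⟩ ⟨x', y'⟩ h
    have h' : (x : A) + algebraMap F A w * (y : A) = (x' : A) + algebraMap F A w * (y' : A) := h
    have h1 : ((x - x' : ↥(fixRing τ)) : A) + algebraMap F A w * ((y - y' : ↥(fixRing τ)) : A) = 0 := by
      change ((x : A) - x') + algebraMap F A w * ((y : A) - y') = 0
      rw [mul_sub]
      calc (x : A) - x' + (algebraMap F A w * y - algebraMap F A w * y')
          = ((x : A) + algebraMap F A w * y) - (x' + algebraMap F A w * y') := by abel
        _ = 0 := by rw [h', sub_self]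
    obtain ⟨h3, h4⟩ := eq_zero_of_decomp h2 hτφ hw hw' h1
    exact Prod.ext (sub_eq_zero.1 h3) (sub_eq_zero.1 h4)
  · intro a
    obtain ⟨x, y, h⟩ := exists_decomp hτ h2 hτφ hw hw' a
    exact ⟨(x, y), h.symm⟩

/-- The centre of the fixed ring. -/
theorem center_fix {τ : A ≃+* A} (hτ : ∀ a, τ (τ a) = a) (h2 : IsUnit (2 : F)) {φ : F ≃+* F} (hφ : φ ≠ 1)
    (hφ2 : ∀ c, φ (φ c) = c) (hτφ : ∀ c : F, τ (algebraMap F A c) = algebraMap F A (φ c))
    (hcen : ∀ z : A, (∀ a, a * z = z * a) → ∃ c : F, algebraMap F A c = z)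
    (z : ↥(fixRing τ)) (hz : ∀ x, x * z = z * x) : ∃ c : F, algebraMap F A c = z := by
  obtain ⟨w, hw, hw'⟩ := exists_omega hφ hφ2
  apply hcen
  intro a
  obtain ⟨x, y, rfl⟩ := exists_decomp hτ h2 hτφ hw hw' a
  have hx : (x : A) * z = z * x := congrArg Subtype.val (hz x)
  have hy : (y : A) * z = z * y := congrArg Subtype.val (hz y)
  rw [add_mul, mul_add, hx, mul_assoc, hy, ← mul_assoc, Algebra.commutes w (z : A), mul_assoc]

end Semi

section Pieces

variable {F A : Type} [Field F] [Finite F] [Ring A] [Nontrivial A] [Algebra F A] [Finite A]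
  {k : ℕ} {D : Fin k → Type} {d : Fin k → ℕ} [∀ i, DivisionRing (D i)] [∀ i, NeZero (d i)]

theorem finite_factor {E : Type} [Ring E] [Finite E] (e : E ≃+* ∀ i, Matrix (Fin (d i)) (Fin (d i)) (D i))
    (i : Fin k) : Finite (D i) := by
  have hfin : Finite (∀ i, Matrix (Fin (d i)) (Fin (d i)) (D i)) := Finite.of_equiv E e.toEquiv
  have hfin2 : Finite (Matrix (Fin (d i)) (Fin (d i)) (D i)) :=
    Finite.of_surjective (fun x : ∀ i, Matrix (Fin (d i)) (Fin (d i)) (D i) => x i)
      (fun a => ⟨Pi.single i a, by simp⟩)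
  exact Finite.of_injective (fun c : D i => Matrix.scalar (Fin (d i)) c) (fun a b h => by
      have : Nonempty (Fin (d i)) := ⟨0⟩
      exact Matrix.scalar_inj.mp h)

theorem pieces_semi {τ : A ≃+* A} (hτ : ∀ a, τ (τ a) = a) (h2 : IsUnit (2 : F)) {φ : F ≃+* F} (hφ : φ ≠ 1)
    (hφ2 : ∀ c, φ (φ c) = c) (hτφ : ∀ c : F, τ (algebraMap F A c) = algebraMap F A (φ c))
    (hcen : ∀ z : A, (∀ a, a * z = z * a) → ∃ c : F, algebraMap F A c = z) {n : ℕ}
    (hcard : Nat.card A = Nat.card F ^ (n * n))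
    (e : ↥(fixRing τ) ≃+* ∀ i, Matrix (Fin (d i)) (Fin (d i)) (D i)) (i : Fin k) :
    Nat.card (D i) ^ 2 = Nat.card F ∧ d i = n := by
  classical
  have hD : ∀ i, Finite (D i) := finite_factor e
  have hne : ∀ i, Nonempty (Fin (d i)) := fun i => ⟨0⟩
  have hnt : ∀ i, Nontrivial (Matrix (Fin (d i)) (Fin (d i)) (D i)) := fun i => inferInstance
  have hinjF : Function.Injective (algebraMap F A) := (algebraMap F A).injective
  -- one factor
  have hone : ∀ i j : Fin k, i = j := by
    intro i j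
    by_contra hij
    set p : ∀ i, Matrix (Fin (d i)) (Fin (d i)) (D i) := Pi.single i 1 with hp
    have hpc : ∀ x, x * p = p * x := by
      intro x
      funext l
      rw [Pi.mul_apply, Pi.mul_apply, hp]
      by_cases hl : l = i
      · subst hl
        rw [Pi.single_eq_same, mul_one, one_mul]
      · rw [Pi.single_eq_of_ne hl, mul_zero, zero_mul]
    have hpp : p * p = p := by rw [hp, ← Pi.single_mul, one_mul]
    obtain ⟨c, hc⟩ := center_fix hτ h2 hφ hφ2 hτφ hcen (e.symm p) (fun x => by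
      apply e.injective
      rw [map_mul, map_mul, e.apply_symm_apply, hpc])
    have hcc : c * c = c := by
      apply hinjF
      rw [map_mul, hc, ← Subring.coe_mul, ← map_mul, hpp]
    rcases eq_or_ne c 0 with h0 | h0
    · have h1 : e.symm p = 0 := by
        apply Subtype.ext
        rw [← hc, h0, map_zero]; rfl
      have h3 : p = 0 := by rw [← e.apply_symm_apply p, h1, map_zero]
      have h4 := congrFun h3 i
      rw [hp, Pi.single_eq_same] at h4
      exact one_ne_zero h4
    · have h1 : c = 1 := mul_left_cancel₀ h0 (by rw [hcc, mul_one])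
      have h3 : e.symm p = 1 := by
        apply Subtype.ext
        rw [← hc, h1, map_one]; rfl
      have h4 : p = 1 := by rw [← e.apply_symm_apply p, h3, map_one]
      have h5 := congrFun h4 j
      rw [hp, Pi.single_eq_of_ne (Ne.symm hij)] at h5
      exact one_ne_zero h5.symm
  have hsub : Subsingleton (Fin k) := ⟨hone⟩
  -- the fixed field
  have hF0 : Nat.card ↥(fixRing φ) ^ 2 = Nat.card F := card_fix_sq (A := F) hφ2 h2 hφ hφ2 (fun c => rfl)
  have hle1 : Nat.card ↥(fixRing φ) ≤ Nat.card (D i) := by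
    have hs : ∀ c : ↥(fixRing φ), ∃ x, Matrix.scalar (Fin (d i)) x =
        e ⟨algebraMap F A c, by change τ _ = _; rw [hτφ, show φ (c : F) = c from c.2]⟩ i := by
      intro c
      apply exists_scalar_div
      intro N
      have h1 : e.symm (Pi.single i N) * ⟨algebraMap F A c, by change τ _ = _; rw [hτφ, show φ (c : F) = c from c.2]⟩ =
          ⟨algebraMap F A c, by change τ _ = _; rw [hτφ, show φ (c : F) = c from c.2]⟩ * e.symm (Pi.single i N) := by
        apply Subtype.ext
        exact (Algebra.commutes (c : F) _).symm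
      have h3 := congrArg e h1
      rw [map_mul, map_mul, e.apply_symm_apply] at h3
      have h4 := congrFun h3 i
      rw [Pi.mul_apply, Pi.mul_apply, Pi.single_eq_same] at h4
      exact h4
    choose h hh using hs
    refine Nat.card_le_card_of_injective h ?_
    intro a b hab
    have h1 := hh a
    rw [hab, hh b] at h1
    have h3 : e ⟨algebraMap F A a, by change τ _ = _; rw [hτφ, show φ (a : F) = a from a.2]⟩ =
        e ⟨algebraMap F A b, by change τ _ = _; rw [hτφ, show φ (b : F) = b from b.2]⟩ := by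
      funext j
      obtain rfl := hone i j
      exact h1.symm
    have h4 := congrArg Subtype.val (e.injective h3)
    exact Subtype.ext (hinjF h4)
  have hle2 : Nat.card (D i) ≤ Nat.card ↥(fixRing φ) := by
    let _ : Field (D i) := littleWedderburn (D i)
    have hs : ∀ x : D i, ∃ c : F, algebraMap F A c = e.symm (Pi.single i (Matrix.scalar (Fin (d i)) x)) := by
      intro x
      apply center_fix hτ h2 hφ hφ2 hτφ hcen
      intro y
      apply e.injective
      rw [map_mul, map_mul, e.apply_symm_apply]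
      funext l
      obtain rfl := hone i l
      rw [Pi.mul_apply, Pi.mul_apply, Pi.single_eq_same]
      exact ((Matrix.scalar_commute (n := Fin (d i)) x (fun y => mul_comm x y) (e y i)).eq).symm
    choose h hh using hs
    refine Nat.card_le_card_of_injective (fun x => (⟨h x, ?_⟩ : ↥(fixRing φ))) ?_
    · change φ (h x) = h x
      apply hinjF
      rw [← hτφ, hh]
      exact (e.symm (Pi.single i (Matrix.scalar (Fin (d i)) x))).2
    · intro a b hab
      have h1 : h a = h b := congrArg Subtype.val hab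
      have h3 : e.symm (Pi.single i (Matrix.scalar (Fin (d i)) a)) =
          e.symm (Pi.single i (Matrix.scalar (Fin (d i)) b)) := by
        apply Subtype.ext
        rw [← hh, ← hh, h1]
      have h4 := congrFun (e.symm.injective h3) i
      rw [Pi.single_eq_same, Pi.single_eq_same] at h4
      exact Matrix.scalar_inj.mp h4
  have hcD : Nat.card (D i) = Nat.card ↥(fixRing φ) := le_antisymm hle2 hle1
  refine ⟨by rw [hcD, hF0], ?_⟩
  have hE : Nat.card ↥(fixRing τ) = Nat.card (D i) ^ (d i * d i) := by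
    rw [Nat.card_congr e.toEquiv, Nat.card_pi, Fintype.prod_subsingleton _ i]
    change Nat.card (Fin (d i) → Fin (d i) → D i) = _
    rw [Nat.card_fun, Nat.card_fun, Nat.card_fin, ← pow_mul]
  have hA := card_fix_sq hτ h2 hφ hφ2 hτφ
  rw [hE, hcard, ← hF0, hcD, ← pow_mul, ← pow_mul] at hA
  have hq : 1 < Nat.card ↥(fixRing φ) := by
    have h3 : 1 < Nat.card F := Finite.one_lt_card
    by_contra hlt
    have h4 : Nat.card ↥(fixRing φ) = 0 ∨ Nat.card ↥(fixRing φ) = 1 := by omega
    rcases h4 with h4 | h4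
    · rw [h4] at hF0; simp at hF0; omega
    · rw [h4] at hF0; simp at hF0; omega
  have h5 := Nat.pow_right_injective hq hA
  have h6 : d i * d i = n * n := by omega
  exact Nat.mul_self_inj.1 h6

end Pieces

end Cfsg.Agent.H294.CFR
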