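import Cfsg.Agent.H340.OddRows
/-!
# Composition factors of unitary groups of finite semisimple rings with involution, restricted base (helper294,
after helper340)

`BaseR r okL ok P` : the classical simple groups in characteristic `r` whose matrix ring `M_d(F)` satisfies `ok #F d`
satisfy `P`.
-/

set_option autoImplicit false
set_option linter.unusedSectionVars false

namespace Cfsg.Agent.H294.CFR

open Subgroup Cfsg Cfsg.Agent.BpLin QuadraticMap Cfsg.Agent.H340
open Cfsg.Agent.LieClassical.OrthCore Cfsg.Agent.LieClassical.OrthTrans Cfsg.Agent.LieClassical.OrthSimple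
open Cfsg.Agent.ClassicalGeometry.SympBasic Cfsg.Agent.ClassicalGeometry.SympAutSemi
  Cfsg.Agent.ClassicalGeometry.SympIso
open scoped MatrixGroups Matrix commutatorElement

universe u

/-- The classical simple groups in characteristic `r` (with an allowed matrix ring) satisfy `P`. -/
structure BaseR (r : ℕ) (okL ok : ℕ → ℕ → Prop) (P : ∀ (S : Type u) [Group S], Prop) : Prop where
  two : ∀ (F : Type) [Field F] [Finite F] [CharP F r],
    IsSimpleGroup (Matrix.ProjectiveSpecialLinearGroup (Fin 2) F) → ∀ (S : Type u) [Group S],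
    Nonempty (S ≃* Matrix.ProjectiveSpecialLinearGroup (Fin 2) F) → P S
  psl : ∀ (F : Type) [Field F] [Finite F] [CharP F r] (n : ℕ), 3 ≤ n → okL (Nat.card F) n →
    IsSimpleGroup (Matrix.ProjectiveSpecialLinearGroup (Fin n) F) → ∀ (S : Type u) [Group S],
    Nonempty (S ≃* Matrix.ProjectiveSpecialLinearGroup (Fin n) F) → P S
  psu : ∀ (F : Type) [Field F] [Fintype F] [CharP F r] (n q : ℕ), Fintype.card F = q ^ 2 → 3 ≤ n →
    ok (Nat.card F) n → IsSimpleGroup (PSU n F q) → ∀ (S : Type u) [Group S], Nonempty (S ≃* PSU n F q) → P S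
  psp : ∀ (F : Type) [Field F] [Finite F] [CharP F r] (m : ℕ), 2 ≤ m → ok (Nat.card F) (m + m) →
    IsSimpleGroup (PSp m F) → ∀ (S : Type u) [Group S], Nonempty (S ≃* PSp m F) → P S
  orth : ∀ (F V : Type) [Field F] [Finite F] [CharP F r] [AddCommGroup V] [Module F V]
    [Module.Finite F V] (Q : QuadraticForm F V), Nondeg Q → 5 ≤ Module.finrank F V →
    ok (Nat.card F) (Module.finrank F V) →
    IsSimpleGroup (E Q ⧸ center ↥(E Q)) → ∀ (S : Type u) [Group S],
    Nonempty (S ≃* (E Q ⧸ center ↥(E Q))) → P S

variable {r : ℕ} {okL ok : ℕ → ℕ → Prop} {P : ∀ (S : Type u) [Group S], Prop}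

section Linear

variable {F : Type} [Field F] [Finite F] [CharP F r]

theorem cf_sl_two (hP : BaseR r okL ok P) : CF P (Matrix.SpecialLinearGroup (Fin 2) F) := by
  by_cases hs : IsSimpleGroup (Matrix.ProjectiveSpecialLinearGroup (Fin 2) F)
  · exact CF.of_central (Z := center _) le_rfl (CF.of_simple (hP.two F hs))
  · by_cases h : 4 ≤ Nat.card F
    · exact absurd (Matrix.ProjectiveSpecialLinearGroup.rank_two_simple h) hs
    · exact CF.of_solvable (isSolvable_sl_two h)

theorem cf_sl (hP : BaseR r okL ok P) (n : ℕ) (hok : okL (Nat.card F) n) :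
    CF P (Matrix.SpecialLinearGroup (Fin n) F) := by
  rcases Nat.lt_or_ge n 2 with hn | hn
  · apply CF.of_solvable
    have : Subsingleton (Fin n) := by
      have : n = 0 ∨ n = 1 := by omega
      rcases this with rfl | rfl <;> infer_instance
    have : Subsingleton (Matrix.SpecialLinearGroup (Fin n) F) := inferInstance
    infer_instance
  · rcases Nat.eq_or_lt_of_le hn with rfl | hn
    · exact cf_sl_two hP
    · have hs := LieClassical.SLGen.psl_isSimpleGroup (F := F) (ι := Fin n) (by rw [Fintype.card_fin]; exact hn)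
      exact CF.of_central (Z := center _) le_rfl (CF.of_simple (hP.psl F n hn hok hs))

theorem cf_gl (hP : BaseR r okL ok P) (n : ℕ) (hok : okL (Nat.card F) n) : CF P (GL (Fin n) F) := by
  refine CF.of_hom_comm (Matrix.GeneralLinearGroup.det (n := Fin n) (R := F)) ?_
  rw [← range_toGL n]
  exact (cf_sl hP n hok).congr (MonoidHom.ofInjective (Matrix.SpecialLinearGroup.toGL_injective))

end Linear

section Unitary

variable {F : Type} [Field F] [Fintype F] [CharP F r] {q : ℕ}

theorem cf_su (hr2 : r ≠ 2) (hP : BaseR r okL ok P) (hF : Fintype.card F = q ^ 2) (n : ℕ)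
    (hok : ok (Nat.card F) n) : CF P ↥(SU n F q) := by
  rcases Nat.lt_or_ge n 2 with hn | hn
  · apply CF.of_solvable
    have : Subsingleton (Fin n) := by
      have : n = 0 ∨ n = 1 := by omega
      rcases this with rfl | rfl <;> infer_instance
    have : Subsingleton (Matrix.SpecialLinearGroup (Fin n) F) := inferInstance
    have : Subsingleton ↥(SU n F q) := inferInstance
    infer_instance
  · rcases Nat.eq_or_lt_of_le hn with rfl | hn
    · obtain ⟨_, _, _, _, θ, -⟩ := Phan.exists_model hF
      exact (cf_sl_two (F := Phan.fixedField hF) hP).congr θ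
    · by_cases h : n = 3 ∧ q = 2
      · obtain ⟨rfl, rfl⟩ := h
        have h1 := (S0282.result (F := F) hF).2
        exact CF.of_central (Z := center _) le_rfl (CF.of_solvable h1)
      · have h1 := S0283.result hF n hn h
        exact CF.of_central (Z := center _) le_rfl (CF.of_simple (hP.psu F n q hF hn hok h1))

theorem cf_gu (hr2 : r ≠ 2) (hP : BaseR r okL ok P) (hF : Fintype.card F = q ^ 2) (n : ℕ)
    (hok : ok (Nat.card F) n) : CF P ↥(GU n F q) := by
  refine CF.of_hom_comm ((Matrix.GeneralLinearGroup.det (n := Fin n) (R := F)).comp (GU n F q).subtype) ?_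
  have hinj : Function.Injective (suToGU n F q) := by
    intro a b hab
    apply Subtype.ext
    apply Subtype.ext
    rw [← coe_suToGU, ← coe_suToGU, hab]
  have hr : (suToGU n F q).range =
      ((Matrix.GeneralLinearGroup.det (n := Fin n) (R := F)).comp (GU n F q).subtype).ker := by
    ext A
    constructor
    · rintro ⟨g, rfl⟩
      rw [MonoidHom.mem_ker]
      apply Units.ext
      change Matrix.det ((suToGU n F q g : GL (Fin n) F) : Matrix (Fin n) (Fin n) F) = 1
      rw [coe_suToGU]
      exact g.1.2
    · intro h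
      rw [MonoidHom.mem_ker] at h
      have h1 : Matrix.det ((A : GL (Fin n) F) : Matrix (Fin n) (Fin n) F) = 1 := congrArg Units.val h
      refine ⟨⟨⟨((A : GL (Fin n) F) : Matrix (Fin n) (Fin n) F), h1⟩, ?_⟩, ?_⟩
      · exact A.2
      · apply Subtype.ext
        apply Units.ext
        rw [coe_suToGU]
  rw [← hr]
  exact (cf_su hr2 hP hF n hok).congr (MonoidHom.ofInjective hinj)

end Unitary

section Symp

variable {F : Type} [Field F] [Finite F] [CharP F r]

theorem cf_sp_one (hP : BaseR r okL ok P) : CF P ↥(Matrix.symplecticGroup (Fin 1) F) := by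
  let e : (Fin 1 ⊕ Fin 1) ≃ Fin 2 := finSumFinEquiv
  let g : ↥(Matrix.symplecticGroup (Fin 1) F) →* Matrix.SpecialLinearGroup (Fin 2) F :=
    { toFun := fun A => ⟨Matrix.reindex e e A.1, by
        rw [Matrix.det_reindex_self]; exact (S0244.result A.1).1 A.2⟩
      map_one' := by
        apply Subtype.ext
        change Matrix.reindex e e 1 = 1
        simp
      map_mul' := fun A B => by
        apply Subtype.ext
        change Matrix.reindex e e (A.1 * B.1) = Matrix.reindex e e A.1 * Matrix.reindex e e B.1
        simp [Matrix.submatrix_mul_equiv] }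
  have hg : Function.Bijective g := by
    constructor
    · intro A B h
      apply Subtype.ext
      exact (Matrix.reindex e e).injective (congrArg Subtype.val h)
    · intro B
      refine ⟨⟨(Matrix.reindex e e).symm B.1, (S0244.result _).2 ?_⟩, ?_⟩
      · rw [Matrix.reindex_symm, Matrix.det_reindex_self]; exact B.2
      · apply Subtype.ext
        exact (Matrix.reindex e e).apply_symm_apply B.1
  exact (cf_sl_two (F := F) hP).congr (MulEquiv.ofBijective g hg).symm

theorem cf_symplectic (hr2 : r ≠ 2) (hP : BaseR r okL ok P) (m : ℕ) (hok : ok (Nat.card F) (m + m)) : CF P ↥(Matrix.symplecticGroup (Fin m) F) := by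
  have := Fintype.ofFinite F
  rcases Nat.lt_or_ge m 2 with hm | hm
  · interval_cases m
    · apply CF.of_solvable
      have : Subsingleton (Matrix (Fin 0 ⊕ Fin 0) (Fin 0 ⊕ Fin 0) F) := inferInstance
      have : Subsingleton ↥(Matrix.symplecticGroup (Fin 0) F) := inferInstance
      infer_instance
    · exact cf_sp_one hP
  by_cases hs : IsSimpleGroup (PSp m F)
  · exact CF.of_central (Z := center _) le_rfl (CF.of_simple (hP.psp F m hm hok hs))
  -- only `Sp_4(2)` remains
  by_cases h : 3 ≤ m ∨ (m = 2 ∧ 3 ≤ Fintype.card F)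
  · exfalso
    apply hs
    have hperf := LieClassical.SympPerfect.commutator_eq_top (m := m) (F := F) (by tauto)
    have hgen : transvGroup m F = ⊤ := Cfsg.Agent.S0765.result m
    refine @IsSimpleGroup.mk _ _ ?_ ?_
    · by_contra hsub
      rw [not_nontrivial_iff_subsingleton] at hsub
      have h1 : center ↥(Matrix.symplecticGroup (Fin m) F) = ⊤ := by
        rw [← QuotientGroup.subsingleton_iff]
        exact hsub
      have h2 : commutator ↥(Matrix.symplecticGroup (Fin m) F) = ⊥ := by
        rw [commutator_def, Subgroup.commutator_eq_bot_iff_le_centralizer]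
        intro x _
        have hx : x ∈ center ↥(Matrix.symplecticGroup (Fin m) F) := by rw [h1]; exact mem_top x
        exact center_le_centralizer _ hx
      rw [hperf] at h2
      have h3 := LieClassical.SympCount.card_symplecticGroup (F := F) m
      have h4 : Nat.card ↥(Matrix.symplecticGroup (Fin m) F) = 1 := by
        rw [← Nat.card_congr (Subgroup.topEquiv (G := ↥(Matrix.symplecticGroup (Fin m) F))).toEquiv, h2]
        exact Subgroup.card_bot
      rw [h4] at h3
      have h5 : (Fintype.card F) ^ (m ^ 2) ∣ 1 := by rw [h3]; exact Dvd.intro _ rfl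
      have h6 : 1 < Fintype.card F := Fintype.one_lt_card
      have h7 : (Fintype.card F) ^ (m ^ 2) = 1 := Nat.dvd_one.1 h5
      have h8 : 1 < (Fintype.card F) ^ (m ^ 2) := Nat.one_lt_pow (by positivity) h6
      omega
    · intro N hN
      have h1 : (N.comap (QuotientGroup.mk' (center ↥(Matrix.symplecticGroup (Fin m) F)))).Normal := hN.comap _
      by_cases hle : N.comap (QuotientGroup.mk' (center ↥(Matrix.symplecticGroup (Fin m) F))) ≤ center _
      · left
        rw [eq_bot_iff]
        intro x hx
        obtain ⟨y, rfl⟩ := QuotientGroup.mk_surjective x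
        exact (QuotientGroup.eq_one_iff y).2 (hle hx)
      · right
        rw [eq_top_iff]
        intro x _
        obtain ⟨y, rfl⟩ := QuotientGroup.mk_surjective x
        have h2 := LieClassical.SympSimple.commutator_le_of_not_le_center hgen _ hle
        rw [hperf] at h2
        exact h2 (mem_top y)
  push Not at h
  have hq : 2 ≤ Fintype.card F := Fintype.one_lt_card
  have hm2 : m = 2 := by omega
  subst hm2
  have hq2 : Fintype.card F = 2 := by have := h.2 rfl; omega
  have hr : r = 2 := by
    have h1 : CharP F 2 := charP_of_card_eq_prime hq2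
    exact CharP.eq F ‹CharP F r› h1
  exact absurd hr hr2

end Symp

section Bilin

variable {F V : Type} [Field F] [Finite F] [CharP F r] [AddCommGroup V] [Module F V]
  {B : LinearMap.BilinForm F V}

theorem cf_bilin (hr2 : r ≠ 2) (hP : BaseR r okL ok P) [Module.Finite F V] (hA : B.IsAlt)
    (hnd : ∀ u, (∀ v, B u v = 0) → u = 0) (hok : ok (Nat.card F) (Module.finrank F V)) :
    CF P ↥(BpCl.Iso (fun u v => B u v)) := by
  obtain ⟨k, e, he⟩ := BpCl.exists_coords hA hnd
  obtain ⟨f⟩ := BpCl.nonempty_symp e he
  have hk : Module.finrank F V = k + k := by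
    rw [← LinearEquiv.finrank_eq e]
    simp
  rw [hk] at hok
  exact (cf_symplectic hr2 hP k hok).congr f

end Bilin

section Orth

variable {F V : Type} [Field F] [AddCommGroup V] [Module F V] {Q : QuadraticForm F V}

theorem cf_three (hP : BaseR r okL ok P) [Finite F] [CharP F r] (h2 : (2 : F) ≠ 0) :
    CF P ↥(Cfsg.isometryGroup F (Cfsg.quadFormOdd 1 F)) := by
  have hF : ∃ a : F, a ≠ 0 ∧ a ≠ 1 := by
    refine ⟨-1, neg_ne_zero.2 one_ne_zero, fun h => h2 ?_⟩
    linear_combination -h
  exact CF.of_commutator_le le_rfl ((cf_sl_two (F := F) hP).of_surjective _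
    (LieClassical.OrthThreeOmega.psiOmega_surjective hF))

theorem cf_four_plus (hP : BaseR r okL ok P) [Finite F] [CharP F r] :
    CF P ↥(Cfsg.isometryGroup F (Cfsg.quadFormPlus 2 F)) := by
  obtain ⟨ε⟩ := LieClassical.OrthFourCommon.exists_isometryGroup_equiv (LieClassical.OrthFourPlus.coord F)
    (Cfsg.quadFormPlus 2 F) (LieClassical.OrthFourPlus.dt F) LieClassical.OrthFourPlus.coord_det
  refine CF.congr ?_ ε.symm
  refine CF.of_commutator_le LieClassical.OrthFourPlus.commutator_le ?_
  exact ((cf_sl_two (F := F) hP).prod (cf_sl_two (F := F) hP)).of_surjective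
    (LieClassical.OrthFourPlus.phi.rangeRestrict) (MonoidHom.rangeRestrict_surjective _)

theorem cf_four_minus (hP : BaseR r okL ok P) [Finite F] [CharP F r] {a b : F} (hab : GenOrth.Aniso a b) :
    CF P ↥(Cfsg.isometryGroup F (Cfsg.quadFormMinus 1 F a b)) := by
  have : Fact (∀ r : F, r ^ 2 ≠ -b + a * r) := ⟨fun r hr => by
    have := (hab (-r) 1 (by linear_combination hr)).2
    exact one_ne_zero this⟩
  have hfin : Finite (LieClassical.OrthFourMinus.E F (-b) a) := Finite.of_equiv _ (QuadraticAlgebra.equivProd (-b) a).symm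
  have hchar : CharP (LieClassical.OrthFourMinus.E F (-b) a) r := by
    have : Algebra F (LieClassical.OrthFourMinus.E F (-b) a) := inferInstance
    exact charP_of_injective_algebraMap (algebraMap F (LieClassical.OrthFourMinus.E F (-b) a)).injective r
  obtain ⟨ε⟩ := LieClassical.OrthFourCommon.exists_isometryGroup_equiv (LieClassical.OrthFourMinus.coord F (-b) a)
    (Cfsg.quadFormMinus 1 F a b) (LieClassical.OrthFourMinus.Q (-b) a) (LieClassical.OrthFourMinus.Q_coord a b)
  refine CF.congr ?_ ε.symm
  refine CF.of_commutator_le (LieClassical.OrthFourMinus.commutator_le'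
    (LieClassical.OrthFourMinus.exists_eq LieClassical.OrthFourMinus.norm_surjective)) ?_
  exact (cf_sl_two (F := LieClassical.OrthFourMinus.E F (-b) a) hP).of_surjective
    (LieClassical.OrthFourMinus.phi.rangeRestrict) (MonoidHom.rangeRestrict_surjective _)

theorem cf_big (hP : BaseR r okL ok P) [Finite F] [CharP F r] [Module.Finite F V] (hQ : Nondeg Q)
    (hd : 5 ≤ Module.finrank F V) (hok : ok (Nat.card F) (Module.finrank F V)) : CF P ↥(O Q) := by
  have hG := LieClassical.OrthFinite.good_of_finite hQ hd
  have hle : E Q ≤ O Q := E_le_O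
  have hs : IsSimpleGroup (E Q ⧸ center ↥(E Q)) := good_isSimpleGroup hG
  refine CF.of_commutator_le (N := (E Q).subgroupOf (O Q)) ?_ ?_
  · rw [commutator_def, Subgroup.commutator_le]
    intro x _ y _
    rw [Subgroup.mem_subgroupOf]
    exact hG.commutator_le_E (Subgroup.commutator_mem_commutator x.2 y.2)
  · exact (CF.of_central (Z := center ↥(E Q)) le_rfl (CF.of_simple (hP.orth F V Q hQ hd hok hs))).congr
      (Subgroup.subgroupOfEquivOfLe hle).symm

/-- The orthogonal groups of nondegenerate quadratic forms. -/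
theorem cf_O (hP : BaseR r okL ok P) [Finite F] [CharP F r] [Module.Finite F V] (hQ : Nondeg Q)
    (hok : ok (Nat.card F) (Module.finrank F V)) : CF P ↥(O Q) := by
  by_cases h5 : 5 ≤ Module.finrank F V
  · exact cf_big hP hQ h5 hok
  clear hok
  have hN := GenOrth.normal_form (Module.finrank F V) hQ rfl
  have hlt : Module.finrank F V < 5 := by omega
  generalize hn : Module.finrank F V = n at *
  have h01 : n ≤ 1 → Group.IsSolvable ↥(O Q) := by
    intro hn1
    apply Group.isSolvable_of_comm
    intro g h
    apply Subtype.ext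
    apply LinearEquiv.ext
    intro v
    change g.1 (h.1 v) = h.1 (g.1 v)
    rcases Nat.eq_zero_or_pos n with h0 | h0
    · have : Subsingleton V := Module.finrank_zero_iff.1 (hn.trans h0)
      exact Subsingleton.elim _ _
    · obtain ⟨w, hw0, hw⟩ := finrank_eq_one_iff'.1 (show Module.finrank F V = 1 by omega)
      obtain ⟨s, hs⟩ := hw (g.1 w)
      obtain ⟨t, ht⟩ := hw (h.1 w)
      obtain ⟨c, rfl⟩ := hw v
      rw [map_smul, map_smul, map_smul, map_smul, ← hs, ← ht, map_smul, map_smul, ← hs, ← ht, smul_comm s t]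
  interval_cases n
  · exact CF.of_solvable (h01 (by norm_num))
  · exact CF.of_solvable (h01 (by norm_num))
  · exact CF.of_solvable (BpCl.Plane.isSolvable hQ hn)
  · rcases hN with ⟨k, hk, hs⟩ | ⟨k, hk, -⟩ | ⟨k, hk, -⟩
    · have hk1 : k = 1 := by omega
      subst hk1
      obtain ⟨e⟩ := BpCl.nonempty_of_sim hs
      exact (cf_three hP (BpCl.two_ne_zero_of_odd hQ hs)).congr e
    · omega
    · omega
  · rcases hN with ⟨k, hk, -⟩ | ⟨k, hk, hs⟩ | ⟨k, hk, a, b, hab, hs⟩
    · omega
    · have hk1 : k = 2 := by omega
      subst hk1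
      obtain ⟨e⟩ := BpCl.nonempty_of_sim hs
      exact (cf_four_plus hP).congr e
    · have hk1 : k = 1 := by omega
      subst hk1
      obtain ⟨e⟩ := BpCl.nonempty_of_sim hs
      exact (cf_four_minus hP hab).congr e

end Orth

end Cfsg.Agent.H294.CFR
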