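import Cfsg.Agent.H294.CFOk
/-!
# Classical groups of odd characteristic: composition factors of the centralizers of involutory automorphisms,
restricted base (helper294, after helper340)
-/

set_option autoImplicit false
set_option linter.unusedSectionVars false

namespace Cfsg.Agent.H294.CFR

open Subgroup Cfsg Cfsg.Agent.BpLin Cfsg.Agent.H340 Matrix

universe u

/-! ### the rings `M_n(F)` and `End V` -/

section OkMat

variable {F A : Type} [Field F] [Finite F] [Ring A] [Nontrivial A] [Algebra F A] [Finite A] {ok : ℕ → ℕ → Prop}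

theorem okRing_linear {τ : A ≃+* A} (hτF : ∀ c : F, τ (algebraMap F A c) = algebraMap F A c)
    (h : ∀ q d, Nat.card F ≤ q → ok q d) : OkRing ok ↥(fixRing τ) := by
  intro n D d hD hd e i
  have hfin := finite_factor e i
  let f : F →+* ↥(fixRing τ) := (algebraMap F A).codRestrict (fixRing τ) hτF
  exact h _ _ (card_le_of_central f (fun c x => Subtype.ext (Algebra.commutes c (x : A))) e i)

theorem okRing_semi {τ : A ≃+* A} (hτ : ∀ a, τ (τ a) = a) (h2 : IsUnit (2 : F)) {φ : F ≃+* F} (hφ : φ ≠ 1)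
    (hφ2 : ∀ c, φ (φ c) = c) (hτφ : ∀ c : F, τ (algebraMap F A c) = algebraMap F A (φ c))
    (hcen : ∀ z : A, (∀ a, a * z = z * a) → ∃ c : F, algebraMap F A c = z) {n : ℕ}
    (hcard : Nat.card A = Nat.card F ^ (n * n)) (h : ∀ q, q ^ 2 = Nat.card F → ok q n) :
    OkRing ok ↥(fixRing τ) := by
  intro k D d hD hd e i
  obtain ⟨h1, h3⟩ := pieces_semi hτ h2 hφ hφ2 hτφ hcen hcard e i
  rw [h3]
  exact h _ h1

end OkMat

section Mat

variable {F : Type} [Field F] [Finite F] {n : ℕ} [NeZero n]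

theorem mat_cen (z : Matrix (Fin n) (Fin n) F) (hz : ∀ a, a * z = z * a) :
    ∃ c : F, algebraMap F (Matrix (Fin n) (Fin n) F) c = z := by
  obtain ⟨c, hc⟩ := exists_scalar_div hz
  exact ⟨c, hc⟩

theorem mat_card : Nat.card (Matrix (Fin n) (Fin n) F) = Nat.card F ^ (n * n) := by
  change Nat.card (Fin n → Fin n → F) = _
  rw [Nat.card_fun, Nat.card_fun, Nat.card_fin, ← pow_mul]

end Mat

section EndV

variable {F V : Type} [Field F] [Finite F] [AddCommGroup V] [Module F V] [Module.Finite F V] [Nontrivial V]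

theorem end_cen (z : Module.End F V) (hz : ∀ a, a * z = z * a) :
    ∃ c : F, algebraMap F (Module.End F V) c = z := by
  have h1 : z ∈ Subalgebra.center F (Module.End F V) := by
    rw [Subalgebra.mem_center_iff]
    exact hz
  rw [Algebra.IsCentral.center_eq_bot] at h1
  obtain ⟨c, hc⟩ := Algebra.mem_bot.1 h1
  exact ⟨c, hc⟩

theorem end_card : Nat.card (Module.End F V) = Nat.card F ^ (Module.finrank F V * Module.finrank F V) := by
  have e := LinearMap.toMatrix (Module.finBasis F V) (Module.finBasis F V)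
  rw [Nat.card_congr e.toEquiv]
  change Nat.card (Fin _ → Fin _ → F) = _
  rw [Nat.card_fun, Nat.card_fun, Nat.card_fin, ← pow_mul]

end EndV

/-! ### `PSL` -/

section PSL

open Cfsg.Agent.ClassicalGeometry.AutPSL.Root Cfsg.Agent.ClassicalGeometry.AutPSL.Auto
  Cfsg.Agent.ClassicalGeometry.AutPSL.Main Cfsg.Agent.Schreier.ClassPSL

variable {P : ∀ (S : Type u) [Group S], Prop} {r : ℕ} {okL ok : ℕ → ℕ → Prop} {F : Type} [Field F] [Finite F]
  [CharP F r] {n : ℕ}

/-- **Linear and semilinear type.** -/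
theorem cf_psl_linear (hr : r.Prime) (hr2 : r ≠ 2) (hB : BaseR r okL ok P) (hn : 2 ≤ n) (A : GL (Fin n) F)
    (σ : F ≃+* F) (h2 : lift (cj A * fld σ) * lift (cj A * fld σ) = 1)
    (hokL : (∀ T, semi A σ (semi A σ T) = T) → OkRing okL ↥(fixRing (semi A σ))) :
    CF P ↥(fixedSubgroup (lift (cj A * fld σ) : MulAut (Matrix.ProjectiveSpecialLinearGroup (Fin n) F))) := by
  have hnt : Nontrivial (Fin n) := Fin.nontrivial_iff_two_le.2 hn
  have hNZ : NeZero n := ⟨by omega⟩
  have h3 : lift (cj (A * mg σ A) * fld (σ * σ)) = lift (fld (1 : F ≃+* F)) := by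
    rw [map_one, map_one, ← h2, ← map_mul]
    congr 1
    rw [mul_assoc, ← mul_assoc (fld σ), fld_mul_cj, map_mul cj, map_mul fld]
    simp only [mul_assoc]
  obtain ⟨⟨c, hc⟩, hσ⟩ := injective_aux h3
  have hτ : ∀ T, semi A σ (semi A σ T) = T := semi_semi hc hσ
  have h4 : CF P ↥(fixU (semi A σ)) := cf_fixU hr hr2 hB (semi A σ) hτ (hokL hτ)
  have h5 : CF P ↥(fixedSubgroup (cj A * fld σ : MulAut (Matrix.SpecialLinearGroup (Fin n) F))) := by
    have hfix : ∀ m : Matrix.SpecialLinearGroup (Fin n) F, (cj A * fld σ : MulAut _) m = m ↔ semi A σ (m : Matrix _ _ F) = m :=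
      fun m => ⟨fun h => congrArg Subtype.val h, fun h => Subtype.ext h⟩
    refine CF.fixed_of_normal _ Matrix.SpecialLinearGroup.toGL Matrix.SpecialLinearGroup.toGL_injective h4
      (fun m hm => (hfix m).1 hm) fun c hc m hm => ⟨cj c m, ?_, ?_⟩
    · rw [hfix, coe_cj]
      have h6 : semi A σ ((c⁻¹ : GL (Fin n) F) : Matrix (Fin n) (Fin n) F) =
        ((c⁻¹ : GL (Fin n) F) : Matrix (Fin n) (Fin n) F) := (fixU (semi A σ)).inv_mem hc
      rw [map_mul, map_mul, h6, (hfix m).1 hm, show semi A σ (c : Matrix _ _ F) = c from hc]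
    · apply Units.ext
      rfl
  exact CF.fixed_of_lift pr pr_surjective ker_pr (cj A * fld σ) _ (fun m => (lift_pr _ m).symm) h5

/-- **Graph and graph-field type.** -/
theorem cf_psl_graph (hr : r.Prime) (hr2 : r ≠ 2) (hB : BaseR r okL ok P) (hn : 2 ≤ n) (A : GL (Fin n) F)
    (σ : F ≃+* F) (h2 : lift (cj A * fld σ * itr) * lift (cj A * fld σ * itr) = 1) (hok : ok (Nat.card F) n) :
    CF P ↥(fixedSubgroup (lift (cj A * fld σ * itr) :
      MulAut (Matrix.ProjectiveSpecialLinearGroup (Fin n) F))) := by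
  have hnt : Nontrivial (Fin n) := Fin.nontrivial_iff_two_le.2 hn
  have hNZ : NeZero n := ⟨by omega⟩
  have h3 : lift (cj (A * mg σ (ctr A)) * fld (σ * σ)) = lift (fld (1 : F ≃+* F)) := by
    rw [map_one, map_one, ← h2, ← map_mul]
    congr 1
    calc cj (A * mg σ (ctr A)) * fld (σ * σ) = cj A * (cj (mg σ (ctr A)) * fld σ) * fld σ := by
          rw [map_mul cj, map_mul fld]; simp only [mul_assoc]
      _ = cj A * (fld σ * cj (ctr A)) * fld σ * (itr * itr) := by rw [← fld_mul_cj, itr_mul_itr, mul_one]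
      _ = cj A * fld σ * cj (ctr A) * (fld σ * itr) * itr := by simp only [mul_assoc]
      _ = cj A * fld σ * (cj (ctr A) * itr) * fld σ * itr := by rw [← itr_mul_fld]; simp only [mul_assoc]
      _ = _ := by rw [← itr_mul_cj]; simp only [mul_assoc]
  obtain ⟨⟨c, hc⟩, hσ⟩ := injective_aux h3
  let s : RInv (Matrix (Fin n) (Fin n) F) := antiInv A σ hc hσ
  have h4 : CF P ↥s.U := cf_unitary_matrix s hr2 hB hok
  have h5 : CF P ↥(fixedSubgroup (cj A * fld σ * itr : MulAut (Matrix.SpecialLinearGroup (Fin n) F))) := by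
    have hfix : ∀ m : Matrix.SpecialLinearGroup (Fin n) F, (cj A * fld σ * itr : MulAut _) m = m ↔
        s ((m⁻¹ : Matrix.SpecialLinearGroup (Fin n) F) : Matrix _ _ F) = m :=
      fun m => ⟨fun h => congrArg Subtype.val h, fun h => Subtype.ext h⟩
    have hU : ∀ m : Matrix.SpecialLinearGroup (Fin n) F, (cj A * fld σ * itr : MulAut _) m = m ↔
        Matrix.SpecialLinearGroup.toGL m ∈ s.U := by
      intro m
      rw [hfix]
      have hmm : ((m⁻¹ : Matrix.SpecialLinearGroup (Fin n) F) : Matrix (Fin n) (Fin n) F) * (m : Matrix _ _ F) = 1 := by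
        rw [← Matrix.SpecialLinearGroup.coe_mul, inv_mul_cancel, Matrix.SpecialLinearGroup.coe_one]
      have hmm' : (m : Matrix (Fin n) (Fin n) F) *
          ((m⁻¹ : Matrix.SpecialLinearGroup (Fin n) F) : Matrix (Fin n) (Fin n) F) = 1 := by
        rw [← Matrix.SpecialLinearGroup.coe_mul, mul_inv_cancel, Matrix.SpecialLinearGroup.coe_one]
      have h7 : s ((m⁻¹ : Matrix.SpecialLinearGroup (Fin n) F) : Matrix _ _ F) * s (m : Matrix (Fin n) (Fin n) F) = 1 := by
        rw [← s.mul, hmm', s.one]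
      constructor
      · intro h
        change (m : Matrix (Fin n) (Fin n) F) * s (m : Matrix (Fin n) (Fin n) F) = 1
        rw [h] at h7
        exact h7
      · intro h
        have h8 : (m : Matrix (Fin n) (Fin n) F) * s (m : Matrix (Fin n) (Fin n) F) = 1 := h
        have h9 : s (m : Matrix (Fin n) (Fin n) F) * s ((m⁻¹ : Matrix.SpecialLinearGroup (Fin n) F) : Matrix _ _ F) = 1 := by
          rw [← s.mul, hmm, s.one]
        calc s ((m⁻¹ : Matrix.SpecialLinearGroup (Fin n) F) : Matrix _ _ F) =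
            ((m : Matrix (Fin n) (Fin n) F) * s (m : Matrix (Fin n) (Fin n) F)) *
              s ((m⁻¹ : Matrix.SpecialLinearGroup (Fin n) F) : Matrix _ _ F) := by rw [h8, one_mul]
          _ = _ := by rw [mul_assoc, h9, mul_one]
    refine CF.fixed_of_normal _ Matrix.SpecialLinearGroup.toGL Matrix.SpecialLinearGroup.toGL_injective h4
      (fun m hm => (hU m).1 hm) fun c hc m hm => ⟨cj c m, ?_, ?_⟩
    · rw [hU]
      have h6 : Matrix.SpecialLinearGroup.toGL (cj c m) = c * Matrix.SpecialLinearGroup.toGL m * c⁻¹ :=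
        Units.ext rfl
      rw [h6]
      exact s.U.mul_mem (s.U.mul_mem hc ((hU m).1 hm)) (s.U.inv_mem hc)
    · apply Units.ext
      rfl
  exact CF.fixed_of_lift pr pr_surjective ker_pr (cj A * fld σ * itr) _ (fun m => (lift_pr _ m).symm) h5

/-- **`PSL_n(F)`, odd characteristic**: no condition on linear pieces. -/
theorem cf_psl (hr : r.Prime) (hr2 : r ≠ 2) (hB : BaseR r (fun _ _ => True) ok P) (hn : 2 ≤ n)
    (hok : 3 ≤ n → ok (Nat.card F) n)
    (α : MulAut (Matrix.ProjectiveSpecialLinearGroup (Fin n) F)) (h2 : α * α = 1) :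
    CF P ↥(fixedSubgroup α) := by
  have := Fintype.ofFinite F
  have : Fact r.Prime := ⟨hr⟩
  rcases Nat.lt_or_ge n 3 with h | h
  · obtain rfl : n = 2 := by omega
    obtain ⟨A, σ, rfl⟩ := surj_two r α
    exact cf_psl_linear hr hr2 hB hn A σ h2 (fun _ _ _ _ _ _ _ _ => trivial)
  · rcases surj_three r h α with ⟨A, σ, rfl⟩ | ⟨A, σ, rfl⟩
    · exact cf_psl_linear hr hr2 hB hn A σ h2 (fun _ _ _ _ _ _ _ _ => trivial)
    · exact cf_psl_graph hr hr2 hB hn A σ h2 (hok h)

end PSL

/-! ### `PSU` -/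

section PSU

open Cfsg.Agent.LieClassical.HermBasic Cfsg.Agent.LieClassical.HermSiegel
open Cfsg.Agent.ClassicalGeometry.PSUAutCount (gm semiConj toAut gm_mul gm_one gm_mul_inv gm_inv_mul eq_of_toAut_eq
  sc gm_sc_mul toAut_sc_mul herm_gm act_semiConj herm_semi gm_mulVec_inv gm_inv_mulVec gm_inj)
open Cfsg.Agent.Schreier.PSU (f₁ f₂ toAut_eq mapGU conj_field toAut_pr' gm_mapGU)
open Cfsg.Agent.CpAutU.Desc (toAut_mul toAut_one gm_mapGU')

variable {P : ∀ (S : Type u) [Group S], Prop} {r : ℕ} {okL ok : ℕ → ℕ → Prop} {F : Type} [Field F] [Fintype F]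
  [CharP F r] {n q : ℕ}

theorem semi_algebraMap (B : GL (Fin n) F) (ρ : F ≃+* F) (c : F) :
    semi B ρ (algebraMap F (Matrix (Fin n) (Fin n) F) c) = algebraMap F (Matrix (Fin n) (Fin n) F) (ρ c) := by
  rw [semi_apply]
  have h1 : (algebraMap F (Matrix (Fin n) (Fin n) F) c).map (ρ : F →+* F) =
      algebraMap F (Matrix (Fin n) (Fin n) F) (ρ c) := by
    ext i j
    rw [Matrix.map_apply, Matrix.algebraMap_matrix_apply, Matrix.algebraMap_matrix_apply]
    by_cases hij : i = j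
    · rw [if_pos hij, if_pos hij]; rfl
    · rw [if_neg hij, if_neg hij]; exact map_zero _
  rw [h1, ← Algebra.commutes, mul_assoc, ← Units.val_mul, mul_inv_cancel, Units.val_one, mul_one]

/-- **`PSU_n(q)`, odd characteristic.** -/
theorem cf_psu (hr : r.Prime) (hr2 : r ≠ 2) (hB : BaseR r okL ok P) (hF : Fintype.card F = q ^ 2) (hn : 3 ≤ n)
    (h32 : ¬ (n = 3 ∧ q = 2)) (hokL1 : ∀ a d, q ^ 2 ≤ a → okL a d) (hok1 : ∀ a d, q ^ 2 ≤ a → ok a d)
    (hokL2 : okL q n) (hok2 : ok q n) (α : MulAut (PSU n F q)) (h2 : α * α = 1) :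
    CF P ↥(fixedSubgroup α) := by
  obtain ⟨A, ρ, rfl⟩ := ClassicalGeometry.PSUAutMain.exists_toAut hF hn h32 α
  have hNZ : NeZero n := ⟨by omega⟩
  have hne : Nonempty (Fin n) := ⟨⟨0, by omega⟩⟩
  rw [toAut_mul] at h2
  obtain ⟨hρ, c, -, hc⟩ := eq_of_toAut_eq (A := 1) (ρ := 1) hF hn ((toAut_one (F := F) (n := n) (q := q)).trans h2.symm)
  obtain ⟨B, hB'⟩ : ∃ B : GL (Fin n) F, B = (A : GL (Fin n) F) := ⟨_, rfl⟩
  have hBc : scalar (Fin n) c = ((B * mg ρ B : GL (Fin n) F) : Matrix (Fin n) (Fin n) F) := by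
    rw [hB']
    change _ = gm (A * mapGU ρ A)
    rw [hc, gm_one, Matrix.scalar_apply, ← Matrix.smul_one_eq_diagonal]
  have hτ : ∀ T, semi B ρ (semi B ρ T) = T := semi_semi hBc hρ
  let s := ctI n hF
  have hBU : B ∈ s.U := (mem_ctU hF B).2 (by rw [hB']; exact fun u v => herm_gm A u v)
  have hBs : s (B : Matrix (Fin n) (Fin n) F) = ((B⁻¹ : GL (Fin n) F) : Matrix (Fin n) (Fin n) F) := by
    have h3 : (B : Matrix (Fin n) (Fin n) F) * s (B : Matrix (Fin n) (Fin n) F) = 1 := hBU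
    rw [← Units.mul_right_inj B, h3, Units.mul_inv]
  have hBs' : s ((B⁻¹ : GL (Fin n) F) : Matrix (Fin n) (Fin n) F) = (B : Matrix (Fin n) (Fin n) F) := by
    rw [← hBs, s.inv]
  have hs : ∀ T, semi B ρ (s T) = s (semi B ρ T) := by
    intro T
    rw [semi_apply, semi_apply, s.mul, s.mul, hBs, hBs', ← mul_assoc]
    congr 2
    ext i j
    exact map_pow ρ _ _
  have key : ∀ {ok' : ℕ → ℕ → Prop}, (∀ a d, q ^ 2 ≤ a → ok' a d) → ok' q n → OkRing ok' ↥(fixRing (semi B ρ)) := by
    intro ok' k1 k2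
    by_cases hρ1 : ρ = 1
    · refine okRing_linear (F := F) (fun c => by rw [semi_algebraMap, hρ1]; rfl) fun a d had => k1 a d ?_
      rwa [Nat.card_eq_fintype_card, hF] at had
    · refine okRing_semi (F := F) hτ (isUnit_two hr hr2) hρ1 (fun c => RingEquiv.congr_fun hρ c)
        (fun c => semi_algebraMap B ρ c) mat_cen mat_card fun a ha => ?_
      rw [Nat.card_eq_fintype_card, hF] at ha
      have : a = q := Nat.pow_left_injective (n := 2) (by norm_num) ha
      rw [this]; exact k2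
  have h4 : CF P ↥(s.U ⊓ fixU (semi B ρ)) :=
    cf_fixUnitary hr hr2 hB (semi B ρ) hτ (key hokL1 hokL2) (key hok1 hok2) s hs
  have hsemi : ∀ m : SU n F q, mat (semiConj A ρ m) = semi B ρ (mat m) := by
    intro m
    rw [hB']
    rfl
  have hfix : ∀ m : SU n F q, semiConj A ρ m = m ↔ semi B ρ (mat m) = mat m :=
    fun m => ⟨fun h => by rw [← hsemi, h], fun h => mat_injective (by rw [hsemi, h])⟩
  let f : SU n F q →* GL (Fin n) F := (Matrix.SpecialLinearGroup.toGL).comp (SU n F q).subtype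
  have hf : ∀ m : SU n F q, (f m : Matrix (Fin n) (Fin n) F) = mat m := fun _ => rfl
  have hfU : ∀ m : SU n F q, f m ∈ s.U := fun m => (mem_ctU hF _).2 m.2
  have h5 : CF P ↥(fixedSubgroup (semiConj A ρ : MulAut (SU n F q))) := by
    refine CF.fixed_of_normal _ f
      (Matrix.SpecialLinearGroup.toGL_injective.comp (SU n F q).subtype_injective) h4
      (fun m hm => ⟨hfU m, (hfix m).1 hm⟩) fun c hc m hm => ?_
    have hcm : c * f m * c⁻¹ ∈ s.U := s.U.mul_mem (s.U.mul_mem hc.1 (hfU m)) (s.U.inv_mem hc.1)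
    have hcf : c * f m * c⁻¹ ∈ fixU (semi B ρ) :=
      Subgroup.mul_mem _ (Subgroup.mul_mem _ hc.2 ((hfix m).1 hm)) (Subgroup.inv_mem _ hc.2)
    have hdet : ((c * f m * c⁻¹ : GL (Fin n) F) : Matrix (Fin n) (Fin n) F).det = 1 := by
      have h6 : ((f m : GL (Fin n) F) : Matrix (Fin n) (Fin n) F).det = 1 := det_mat m
      rw [Units.val_mul, Units.val_mul, Matrix.det_mul, Matrix.det_mul, h6, mul_one, ← Matrix.det_mul,
        ← Units.val_mul, mul_inv_cancel, Units.val_one, Matrix.det_one]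
    let m' : SU n F q := ⟨⟨_, hdet⟩, (mem_ctU hF _).1 hcm⟩
    have hm' : mat m' = ((c * f m * c⁻¹ : GL (Fin n) F) : Matrix (Fin n) (Fin n) F) := rfl
    refine ⟨m', (hfix m').2 ?_, ?_⟩
    · rw [hm']
      exact hcf
    · apply Units.ext
      rfl
  exact CF.fixed_of_lift (ClassicalGeometry.UnitAutBasic.pr n F q) ClassicalGeometry.UnitAutBasic.pr_surjective
    (fun x hx => (QuotientGroup.eq_one_iff x).1 hx) (semiConj A ρ) _ (fun m => rfl) h5

end PSU

end Cfsg.Agent.H294.CFR
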