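import Cfsg.Agent.H294.CFRing
/-!
# Composition factors of the unitary group of a finite semisimple ring with involution, restricted base (helper294,
after helper340)
-/

set_option autoImplicit false
set_option linter.unusedSectionVars false

namespace Cfsg.Agent.H294.CFR

open Subgroup Cfsg Cfsg.Agent.BpLin Cfsg.Agent.H340

universe u

section Matrix

open Matrix
open Cfsg.Agent.ClassicalGeometry.InvolutiveNorm Cfsg.Agent.ClassicalGeometry.HermOrthonormal

variable {R : ∀ (S : Type u) [Group S], Prop} {okL ok : ℕ → ℕ → Prop}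
variable {D : Type} [Field D] {d : ℕ} [NeZero d] (s : RInv (Matrix (Fin d) (Fin d) D))

theorem cf_unitary_second [Fintype D] {r : ℕ} [CharP D r] (hr2 : r ≠ 2) (hB : BaseR r okL ok R)
    (hok : ok (Nat.card D) d) (h2 : ∃ z ∈ Subring.center (Matrix (Fin d) (Fin d) D), s z ≠ z) : CF R ↥s.U := by
  obtain ⟨σ, hσ2, hs⟩ := exists_sigma s
  have hσ : σ ≠ RingHom.id D := by
    rintro rfl
    obtain ⟨z, hz, hz2⟩ := h2
    obtain ⟨c, rfl⟩ := exists_scalar hz
    exact hz2 (hs c)
  obtain ⟨P, hPs, hP⟩ := exists_herm s hσ hσ2 hs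
  obtain ⟨Q, hQ⟩ := exists_sqrt hσ hσ2 P hPs
  obtain ⟨q, hq, hσq⟩ := exists_card_sq hσ hσ2
  rw [Nat.card_eq_fintype_card] at hq
  have key : s.U.map (MulAut.conj Q⁻¹).toMonoidHom = GU d D q := by
    have hQ1 : (Q : Matrix (Fin d) (Fin d) D) * ((Q⁻¹ : GL (Fin d) D) : Matrix (Fin d) (Fin d) D) = 1 := Q.mul_inv
    have hQ2 : ((Q⁻¹ : GL (Fin d) D) : Matrix (Fin d) (Fin d) D) * (Q : Matrix (Fin d) (Fin d) D) = 1 := Q.inv_mul
    have hP1 : (P : Matrix (Fin d) (Fin d) D) * ((P⁻¹ : GL (Fin d) D) : Matrix (Fin d) (Fin d) D) = 1 := P.mul_inv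
    have hP2 : ((P⁻¹ : GL (Fin d) D) : Matrix (Fin d) (Fin d) D) * (P : Matrix (Fin d) (Fin d) D) = 1 := P.inv_mul
    have hst : cst σ (Q : Matrix (Fin d) (Fin d) D) * cst σ ((Q⁻¹ : GL (Fin d) D) : Matrix (Fin d) (Fin d) D) = 1 := by
      rw [← cst_mul, hQ2, cst_one]
    have hst' : cst σ ((Q⁻¹ : GL (Fin d) D) : Matrix (Fin d) (Fin d) D) * cst σ (Q : Matrix (Fin d) (Fin d) D) = 1 := by
      rw [← cst_mul, hQ1, cst_one]
    -- the main computation
    have hmain : ∀ w : Matrix (Fin d) (Fin d) D,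
        ((Q : Matrix (Fin d) (Fin d) D) * w * ((Q⁻¹ : GL (Fin d) D) : Matrix (Fin d) (Fin d) D)) *
          s ((Q : Matrix (Fin d) (Fin d) D) * w * ((Q⁻¹ : GL (Fin d) D) : Matrix (Fin d) (Fin d) D)) =
        (Q : Matrix (Fin d) (Fin d) D) * (w * cst σ w) * (cst σ (Q : Matrix (Fin d) (Fin d) D) *
          ((P⁻¹ : GL (Fin d) D) : Matrix (Fin d) (Fin d) D)) := by
      intro w
      rw [hP, hQ, cst_mul, cst_mul]
      calc (Q : Matrix (Fin d) (Fin d) D) * w * ((Q⁻¹ : GL (Fin d) D) : Matrix (Fin d) (Fin d) D) *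
            ((Q : Matrix (Fin d) (Fin d) D) * cst σ (Q : Matrix (Fin d) (Fin d) D) *
            (cst σ ((Q⁻¹ : GL (Fin d) D) : Matrix (Fin d) (Fin d) D) * (cst σ w * cst σ (Q : Matrix (Fin d) (Fin d) D)))
            * ((P⁻¹ : GL (Fin d) D) : Matrix (Fin d) (Fin d) D))
          = (Q : Matrix (Fin d) (Fin d) D) * w * (((Q⁻¹ : GL (Fin d) D) : Matrix (Fin d) (Fin d) D) *
            (Q : Matrix (Fin d) (Fin d) D)) * (cst σ (Q : Matrix (Fin d) (Fin d) D) *
            cst σ ((Q⁻¹ : GL (Fin d) D) : Matrix (Fin d) (Fin d) D)) * cst σ w *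
            (cst σ (Q : Matrix (Fin d) (Fin d) D) * ((P⁻¹ : GL (Fin d) D) : Matrix (Fin d) (Fin d) D)) := by
            simp only [mul_assoc]
        _ = _ := by rw [hQ2, hst, mul_one, mul_one]; simp only [mul_assoc]
    ext w
    rw [mem_GU_iff_cst hq hσq]
    constructor
    · rintro ⟨u, hu, rfl⟩
      have hu1 : (u : Matrix (Fin d) (Fin d) D) * s (u : Matrix (Fin d) (Fin d) D) = 1 := hu
      have hw : ((MulAut.conj Q⁻¹).toMonoidHom u : GL (Fin d) D) = Q⁻¹ * u * Q := by
        change Q⁻¹ * u * (Q⁻¹)⁻¹ = _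
        rw [inv_inv]
      rw [hw]
      set w := Q⁻¹ * u * Q with hwdef
      have hu2 : (u : Matrix (Fin d) (Fin d) D) = (Q : Matrix (Fin d) (Fin d) D) * (w : Matrix (Fin d) (Fin d) D) *
          ((Q⁻¹ : GL (Fin d) D) : Matrix (Fin d) (Fin d) D) := by
        rw [← Units.val_mul, ← Units.val_mul]
        congr 1
        rw [hwdef]; group
      rw [hu2, hmain] at hu1
      calc (w : Matrix (Fin d) (Fin d) D) * cst σ (w : Matrix (Fin d) (Fin d) D)
          = (((Q⁻¹ : GL (Fin d) D) : Matrix (Fin d) (Fin d) D) * (Q : Matrix (Fin d) (Fin d) D)) *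
            ((w : Matrix (Fin d) (Fin d) D) * cst σ (w : Matrix (Fin d) (Fin d) D)) *
            (cst σ (Q : Matrix (Fin d) (Fin d) D) * (((P⁻¹ : GL (Fin d) D) : Matrix (Fin d) (Fin d) D) *
            (P : Matrix (Fin d) (Fin d) D)) * cst σ ((Q⁻¹ : GL (Fin d) D) : Matrix (Fin d) (Fin d) D)) := by
            rw [hQ2, hP2, mul_one, hst, one_mul, mul_one]
        _ = ((Q⁻¹ : GL (Fin d) D) : Matrix (Fin d) (Fin d) D) * ((Q : Matrix (Fin d) (Fin d) D) *
            ((w : Matrix (Fin d) (Fin d) D) * cst σ (w : Matrix (Fin d) (Fin d) D)) *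
            (cst σ (Q : Matrix (Fin d) (Fin d) D) * ((P⁻¹ : GL (Fin d) D) : Matrix (Fin d) (Fin d) D))) *
            ((P : Matrix (Fin d) (Fin d) D) * cst σ ((Q⁻¹ : GL (Fin d) D) : Matrix (Fin d) (Fin d) D)) := by
            simp only [mul_assoc]
        _ = 1 := by
          rw [hu1, mul_one, hQ]
          calc ((Q⁻¹ : GL (Fin d) D) : Matrix (Fin d) (Fin d) D) * ((Q : Matrix (Fin d) (Fin d) D) *
                cst σ (Q : Matrix (Fin d) (Fin d) D) * cst σ ((Q⁻¹ : GL (Fin d) D) : Matrix (Fin d) (Fin d) D))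
              = (((Q⁻¹ : GL (Fin d) D) : Matrix (Fin d) (Fin d) D) * (Q : Matrix (Fin d) (Fin d) D)) *
                (cst σ (Q : Matrix (Fin d) (Fin d) D) *
                cst σ ((Q⁻¹ : GL (Fin d) D) : Matrix (Fin d) (Fin d) D)) := by simp only [mul_assoc]
            _ = 1 := by rw [hQ2, hst, one_mul]
    · intro hw
      refine ⟨Q * w * Q⁻¹, ?_, ?_⟩
      · change ((Q * w * Q⁻¹ : GL (Fin d) D) : Matrix (Fin d) (Fin d) D) *
          s ((Q * w * Q⁻¹ : GL (Fin d) D) : Matrix (Fin d) (Fin d) D) = 1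
        rw [Units.val_mul, Units.val_mul, hmain, hw, mul_one, ← mul_assoc, ← hQ, hP1]
      · change Q⁻¹ * (Q * w * Q⁻¹) * (Q⁻¹)⁻¹ = w
        group
  have e : ↥s.U ≃* ↥(GU d D q) :=
    (s.U.equivMapOfInjective _ (MulAut.conj Q⁻¹).injective).trans (MulEquiv.subgroupCongr key)
  exact (cf_gu hr2 hB hq d hok).congr e.symm

/-- Involutions of the first kind in odd characteristic. -/
theorem cf_unitary_first [Finite D] {r : ℕ} [CharP D r] (hr : r ≠ 2) (hB : BaseR r okL ok R)
    (hok : ok (Nat.card D) d)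
    (hs : ∀ c, s (Matrix.scalar (Fin d) c) = Matrix.scalar (Fin d) c) : CF R ↥s.U := by
  have h2 : (2 : D) ≠ 0 := by
    intro h
    have h3 : r ∣ 2 := (CharP.cast_eq_zero_iff D r 2).1 (by exact_mod_cast h)
    rcases (Nat.dvd_prime Nat.prime_two).1 h3 with h4 | h4
    · exact CharP.char_ne_one D r h4
    · exact hr h4
  obtain ⟨P, hPs, hP⟩ := exists_first s hs
  obtain ⟨e⟩ := exists_equiv_first s hP
  refine CF.congr ?_ e.symm
  have hnd : ∀ u, (∀ v, formOf (P : Matrix (Fin d) (Fin d) D) u v = 0) → u = 0 := by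
    intro u hu
    have h1 : u ᵥ* (P : Matrix (Fin d) (Fin d) D) = 0 := by
      funext j
      have h3 := hu (Pi.single j 1)
      rw [formOf_apply, Matrix.dotProduct_mulVec, dotProduct_single, mul_one] at h3
      exact h3
    have h3 : (u ᵥ* (P : Matrix (Fin d) (Fin d) D)) ᵥ* ((P⁻¹ : GL (Fin d) D) : Matrix (Fin d) (Fin d) D) = 0 := by
      rw [h1, Matrix.zero_vecMul]
    rwa [Matrix.vecMul_vecMul, Units.mul_inv, Matrix.vecMul_one] at h3
  have hsw : ∀ x y, formOf (P : Matrix (Fin d) (Fin d) D)ᵀ x y = formOf (P : Matrix (Fin d) (Fin d) D) y x := by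
    intro x y
    rw [formOf_apply, formOf_apply, Matrix.mulVec_transpose, dotProduct_comm, Matrix.dotProduct_mulVec]
  rcases hPs with hPs | hPs
  · -- symmetric
    have hsym : ∀ x y, formOf (P : Matrix (Fin d) (Fin d) D) x y = formOf (P : Matrix (Fin d) (Fin d) D) y x := by
      intro x y; rw [← hsw, hPs]
    let Q : QuadraticForm D (Fin d → D) := (formOf (P : Matrix (Fin d) (Fin d) D)).toQuadraticMap
    have hQ : ∀ x, Q x = formOf (P : Matrix (Fin d) (Fin d) D) x x := fun _ => rfl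
    have hpol : ∀ x y, QuadraticMap.polar Q x y = 2 * formOf (P : Matrix (Fin d) (Fin d) D) x y := by
      intro x y
      have h1 : formOf (P : Matrix (Fin d) (Fin d) D) (x + y) (x + y) =
          formOf (P : Matrix (Fin d) (Fin d) D) x x + formOf (P : Matrix (Fin d) (Fin d) D) x y +
          (formOf (P : Matrix (Fin d) (Fin d) D) y x + formOf (P : Matrix (Fin d) (Fin d) D) y y) := by
        rw [LinearMap.map_add₂, map_add, map_add]
      rw [QuadraticMap.polar, hQ, hQ, hQ, h1, hsym y x]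
      ring
    have hQn : LieClassical.OrthCore.Nondeg Q := by
      intro x hx
      apply hnd
      intro y
      have h1 := hx y
      rw [hpol] at h1
      exact (mul_eq_zero.1 h1).resolve_left h2
    have heq : BpCl.Iso (fun u v => formOf (P : Matrix (Fin d) (Fin d) D) u v) = LieClassical.OrthCore.O Q := by
      ext g
      constructor
      · intro h v
        exact h v v
      · intro h x y
        have h' : ∀ v, Q (g v) = Q v := h
        have h1 : QuadraticMap.polar Q (g x) (g y) = QuadraticMap.polar Q x y := by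
          rw [QuadraticMap.polar, QuadraticMap.polar, ← map_add, h', h', h']
        rw [hpol, hpol] at h1
        exact mul_left_cancel₀ h2 h1
    rw [heq]
    exact cf_O hB hQn (by rw [Module.finrank_fin_fun]; exact hok)
  · -- alternating
    refine cf_bilin hr hB (B := formOf (P : Matrix (Fin d) (Fin d) D)) ?_ hnd (by rw [Module.finrank_fin_fun]; exact hok)
    intro x
    have h1 := hsw x x
    rw [hPs, formOf_apply, formOf_apply, Matrix.neg_mulVec, dotProduct_neg] at h1
    rw [formOf_apply]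
    have h3 : 2 * (x ⬝ᵥ (P : Matrix (Fin d) (Fin d) D) *ᵥ x) = 0 := by linear_combination -h1
    exact (mul_eq_zero.1 h3).resolve_left h2

/-- All involutions of matrix rings in odd characteristic. -/
theorem cf_unitary_matrix [Finite D] {r : ℕ} [CharP D r] (hr : r ≠ 2) (hB : BaseR r okL ok R)
    (hok : ok (Nat.card D) d) : CF R ↥s.U := by
  have := Fintype.ofFinite D
  by_cases h : ∃ z ∈ Subring.center (Matrix (Fin d) (Fin d) D), s z ≠ z
  · exact cf_unitary_second s hr hB hok h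
  · push Not at h
    exact cf_unitary_first s hr hB hok fun c => h _ (scalar_mem_center c)

end Matrix

section Semisimple

variable {R : ∀ (S : Type u) [Group S], Prop} {r : ℕ} {okL ok : ℕ → ℕ → Prop}

theorem cf_unitary_matrix' {D : Type} [DivisionRing D] [Finite D] [CharP D r] {d : ℕ} [NeZero d]
    (hr : r ≠ 2) (hB : BaseR r okL ok R) (hok : ok (Nat.card D) d) (s : RInv (Matrix (Fin d) (Fin d) D)) :
    CF R ↥s.U := by
  let _ : Field D := littleWedderburn D
  exact cf_unitary_matrix s hr hB hok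

theorem cf_units_matrix {D : Type} [DivisionRing D] [Finite D] [CharP D r] (hB : BaseR r okL ok R) (d : ℕ)
    (hok : okL (Nat.card D) d) : CF R (Matrix (Fin d) (Fin d) D)ˣ := by
  let _ : Field D := littleWedderburn D
  exact cf_gl (F := D) hB d hok

/-- All matrix pieces of the ring `E` are allowed. -/
def OkRing (ok : ℕ → ℕ → Prop) (E : Type) [Ring E] : Prop :=
  ∀ (n : ℕ) (D : Fin n → Type) (d : Fin n → ℕ) (_ : ∀ i, DivisionRing (D i)) (_ : ∀ i, NeZero (d i))
    (_ : E ≃+* ∀ i, Matrix (Fin (d i)) (Fin (d i)) (D i)) (i : Fin n), ok (Nat.card (D i)) (d i)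

/-- The group of units of a finite semisimple ring. -/
theorem cf_units (hr : r.Prime) (hB : BaseR r okL ok R) (E : Type) [Ring E] [Finite E] [IsSemisimpleRing E]
    [CharP E r] (hok : OkRing okL E) : CF R Eˣ := by
  obtain ⟨n, D, d, hD, hd, ⟨e⟩⟩ := IsSemisimpleRing.exists_ringEquiv_pi_matrix_divisionRing E
  have hfin : Finite (∀ i, Matrix (Fin (d i)) (Fin (d i)) (D i)) := Finite.of_equiv E e.toEquiv
  have hfin2 : ∀ i, Finite (Matrix (Fin (d i)) (Fin (d i)) (D i)) := fun i =>
    Finite.of_surjective (fun x : ∀ i, Matrix (Fin (d i)) (Fin (d i)) (D i) => x i)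
      (fun a => ⟨Pi.single i a, by simp⟩)
  have hfin3 : ∀ i, Finite (D i) := fun i =>
    Finite.of_injective (fun c : D i => Matrix.scalar (Fin (d i)) c) (fun a b h => by
      have : Nonempty (Fin (d i)) := ⟨0⟩
      exact Matrix.scalar_inj.mp h)
  have h1 : CF R (∀ i, (Matrix (Fin (d i)) (Fin (d i)) (D i))ˣ) :=
    CF.pi fun i => by
      have := charP_factor hr e i
      exact cf_units_matrix hB (d i) (hok n D d hD hd e i)
  exact h1.congr (MulEquiv.piUnits.symm.trans (Units.mapEquiv e.symm.toMulEquiv))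

/-- **The unitary group of a finite semisimple ring with involution, odd characteristic.** -/
theorem cf_unitary (hr : r.Prime) (hr2 : r ≠ 2) (hB : BaseR r okL ok R) {E : Type} [Ring E] [Finite E]
    [IsSemisimpleRing E] [CharP E r] (hokL : OkRing okL E) (hok : OkRing ok E) (s : RInv E) : CF R ↥s.U := by
  classical
  obtain ⟨n, D, d, hD, hd, ⟨e⟩⟩ := IsSemisimpleRing.exists_ringEquiv_pi_matrix_divisionRing E
  have hfin : Finite (∀ i, Matrix (Fin (d i)) (Fin (d i)) (D i)) := Finite.of_equiv E e.toEquiv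
  have hfin2 : ∀ i, Finite (Matrix (Fin (d i)) (Fin (d i)) (D i)) := fun i =>
    Finite.of_surjective (fun x : ∀ i, Matrix (Fin (d i)) (Fin (d i)) (D i) => x i)
      (fun a => ⟨Pi.single i a, by simp⟩)
  have hne : ∀ i, Nonempty (Fin (d i)) := fun i => ⟨0⟩
  have hfin3 : ∀ i, Finite (D i) := fun i =>
    Finite.of_injective (fun c : D i => Matrix.scalar (Fin (d i)) c) (fun a b h => Matrix.scalar_inj.mp h)
  have key : CF R ↥(s.congr e).U := by
    refine cf_unitary_pi (s.congr e) (fun i => ?_) fun i hi => ?_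
    · have := charP_factor hr e i
      exact cf_units_matrix hB (d i) (hokL n D d hD hd e i)
    · have := charP_factor hr e i
      exact cf_unitary_matrix' hr2 hB (hok n D d hD hd e i) _
  exact key.congr (s.congrU e).symm

end Semisimple

section Ring

variable {P : ∀ (S : Type u) [Group S], Prop} {r : ℕ} {okL ok : ℕ → ℕ → Prop} {A : Type} [Ring A]

theorem cf_fixU (hr : r.Prime) (hr2 : r ≠ 2) (hB : BaseR r okL ok P) [Finite A] [IsSemisimpleRing A] [CharP A r]
    (τ : A ≃+* A) (hτ : ∀ a, τ (τ a) = a) (hokL : OkRing okL ↥(fixRing τ)) : CF P ↥(fixU τ) := by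
  have h1 : IsSemisimpleRing ↥(fixRing τ) := isSemisimpleRing_fixed τ hτ (isUnit_two hr hr2)
  have h2 : CharP ↥(fixRing τ) r := charP_subring _
  exact (cf_units hr hB ↥(fixRing τ) hokL).congr (fixUEquiv τ)

theorem cf_fixUnitary (hr : r.Prime) (hr2 : r ≠ 2) (hB : BaseR r okL ok P) [Finite A] [IsSemisimpleRing A]
    [CharP A r] (τ : A ≃+* A) (hτ : ∀ a, τ (τ a) = a) (hokL : OkRing okL ↥(fixRing τ))
    (hok : OkRing ok ↥(fixRing τ)) (s : RInv A) (hs : ∀ a, τ (s a) = s (τ a)) :
    CF P ↥(s.U ⊓ fixU τ) := by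
  have h1 : IsSemisimpleRing ↥(fixRing τ) := isSemisimpleRing_fixed τ hτ (isUnit_two hr hr2)
  have h2 : CharP ↥(fixRing τ) r := charP_subring _
  have h3 := cf_unitary hr hr2 hB hokL hok (fixInv τ s hs)
  have h4 : ((fixInv τ s hs).U.map ((fixU τ).subtype.comp (fixUEquiv τ).toMonoidHom)) = s.U ⊓ fixU τ := by
    ext u
    constructor
    · rintro ⟨v, hv, rfl⟩
      have h5 : (v : ↥(fixRing τ)) * (fixInv τ s hs) v = 1 := hv
      exact ⟨congrArg Subtype.val h5, (fixUEquiv τ v).2⟩
    · rintro ⟨hu, hu'⟩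
      refine ⟨(fixUEquiv τ).symm ⟨u, hu'⟩, ?_, ?_⟩
      · exact Subtype.ext hu
      · change ((fixUEquiv τ ((fixUEquiv τ).symm ⟨u, hu'⟩) : ↥(fixU τ)) : Aˣ) = u
        rw [MulEquiv.apply_symm_apply]
  have hinj : Function.Injective ((fixU τ).subtype.comp (fixUEquiv τ).toMonoidHom) :=
    (fixU τ).subtype_injective.comp (fixUEquiv τ).injective
  exact h3.congr (((fixInv τ s hs).U.equivMapOfInjective _ hinj).trans (MulEquiv.subgroupCongr h4))

end Ring

end Cfsg.Agent.H294.CFR
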