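import Cfsg.Agent.H293.Cfg
import Cfsg.Agent.H294.CFMain
/-!
# Two commuting families of elements of order `p` in the fixed subgroup (helper294)
-/

set_option autoImplicit false
set_option linter.unusedSectionVars false

namespace Cfsg.Agent.H294.ClGeo

open Subgroup Cfsg Cfsg.Agent.H293 Cfsg.Agent.FixBN
open scoped commutatorElement

universe u v

variable {X : Type u} [Group X] [Finite X] {α : MulAut X} {A : Subgroup X}

/-- no elements of order `p` centralize `A` -/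
theorem no_p (h : Cfg α A) {p : ℕ} [hp : Fact p.Prime] (hp2 : p ≠ 2) (hs : HasSplit p X) {x : X}
    (hx : x ∈ centralizer (A : Set X)) (hx' : x ∈ fixedSubgroup α) (hxp : x ^ p = 1) : x = 1 := by
  obtain ⟨O, hO, hodd, hmem, hnorm⟩ := h.exists_core
  have hfix := (fix_of_hasSplit hp2 hs α h.apply_apply (X := O) (fun x hx => (mem_inf.1 (hO hx)).2)
    (fun g hg x hx => hnorm g hg x hx) hodd).1
  by_contra h1
  have h2 : orderOf x = p := orderOf_eq_prime hxp h1
  have h3 : x ∈ O := hmem x (mem_inf.2 ⟨hx, hx'⟩) (by rw [h2]; exact hp.out.odd_of_ne_two hp2)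
  apply hfix
  have := orderOf_dvd_natCard (⟨x, h3⟩ : O)
  rwa [orderOf_mk, h2] at this

/-- `A` is perfect, as a subgroup of `X` -/
theorem perfect (h : Cfg α A) : ⁅A, A⁆ = A := by
  have h1 : commutator ↥A = ⊤ := h.qs.1.commutator_eq_top
  rw [← map_subtype_commutator, h1, ← MonoidHom.range_eq_map, A.range_subtype]

/-- Perfect subgroups of the fixed points lift to the fixed points. -/
theorem le_map_fixed {M : Type v} [Group M] (π : M →* X) (hπ : Function.Surjective π) (hc : π.ker ≤ center M)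
    (σ : MulAut M) (hσ : ∀ m, π (σ m) = α (π m)) {B : Subgroup X} (hB : ⁅B, B⁆ = B) (hBα : B ≤ fixedSubgroup α) :
    B ≤ (fixedSubgroup σ).map π := by
  rw [← hB, Subgroup.commutator_le]
  intro a ha b hb
  obtain ⟨m, rfl⟩ := hπ a
  obtain ⟨n, rfl⟩ := hπ b
  have key : ∀ m : M, π m ∈ B → ∃ z ∈ center M, σ m = z * m := by
    intro m hm
    refine ⟨σ m * m⁻¹, hc ?_, by group⟩
    rw [MonoidHom.mem_ker, map_mul, map_inv, hσ, show α (π m) = π m from hBα hm, mul_inv_cancel]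
  obtain ⟨y, hy, hy'⟩ := key m ha
  obtain ⟨z, hz, hz'⟩ := key n hb
  rw [mem_center_iff] at hy hz
  refine ⟨⁅m, n⁆, ?_, map_commutatorElement π m n⟩
  change σ ⁅m, n⁆ = ⁅m, n⁆
  rw [map_commutatorElement, hy', hz', commutatorElement_def, commutatorElement_def]
  have e1 : (y * m) * (z * n) = (y * z) * (m * n) := by
    rw [mul_assoc, ← mul_assoc m z n, hz m, mul_assoc z m n, ← mul_assoc]
  have e2 : (y * m)⁻¹ * (z * n)⁻¹ = (m⁻¹ * n⁻¹) * (y * z)⁻¹ := by
    rw [← hy m, ← hz n, mul_inv_rev, mul_inv_rev, mul_inv_rev]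
    have h1 : y⁻¹ * m⁻¹ = m⁻¹ * y⁻¹ := by
      rw [← mul_inv_rev, ← mul_inv_rev, hy m]
    have h3 : ∀ w : M, y⁻¹ * w = w * y⁻¹ := fun w => by
      rw [inv_mul_eq_iff_eq_mul, ← mul_assoc, ← hy w, mul_assoc, mul_inv_cancel, mul_one]
    have h4 : ∀ w : M, z⁻¹ * w = w * z⁻¹ := fun w => by
      rw [inv_mul_eq_iff_eq_mul, ← mul_assoc, ← hz w, mul_assoc, mul_inv_cancel, mul_one]
    calc y⁻¹ * m⁻¹ * (z⁻¹ * n⁻¹) = (m⁻¹ * y⁻¹) * (n⁻¹ * z⁻¹) := by rw [h3 m⁻¹, h4 n⁻¹]
      _ = m⁻¹ * (y⁻¹ * n⁻¹) * z⁻¹ := by group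
      _ = m⁻¹ * (n⁻¹ * y⁻¹) * z⁻¹ := by rw [h3 n⁻¹]
      _ = m⁻¹ * n⁻¹ * (y⁻¹ * z⁻¹) := by group
      _ = m⁻¹ * n⁻¹ * (z⁻¹ * y⁻¹) := by rw [h3 z⁻¹]
  calc y * m * (z * n) * (y * m)⁻¹ * (z * n)⁻¹ = (y * m) * (z * n) * ((y * m)⁻¹ * (z * n)⁻¹) := by group
    _ = (y * z) * (m * n) * ((m⁻¹ * n⁻¹) * (y * z)⁻¹) := by rw [e1, e2]
    _ = (y * z) * (m * n * m⁻¹ * n⁻¹) * (y * z)⁻¹ := by group
    _ = (m * n * m⁻¹ * n⁻¹) * (y * z) * (y * z)⁻¹ := by
        have h1 : (m * n * m⁻¹ * n⁻¹) * (y * z) = (y * z) * (m * n * m⁻¹ * n⁻¹) := by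
          rw [← mul_assoc, hy, mul_assoc, hz, ← mul_assoc]
        rw [h1]
    _ = _ := by group

/-- `A` lies in the subgroup generated by a normal set of elements of order `p`. -/
theorem le_closure (h : Cfg α A) (hA : center ↥A = ⊥) {p : ℕ} [hp : Fact p.Prime] (hp2 : p ≠ 2) (hs : HasSplit p X)
    {M : Type v} [Group M] (π : M →* X) (hπ : Function.Surjective π) (hc : π.ker ≤ center M)
    (σ : MulAut M) (hσ : ∀ m, π (σ m) = α (π m)) {T : Set M} (hTp : ∀ t ∈ T, t ^ p = 1) (hTf : ∀ t ∈ T, σ t = t)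
    (hTn : ∀ m, σ m = m → ∀ t ∈ T, m * t * m⁻¹ ∈ T) (hTe : ∃ t ∈ T, π t ≠ 1) : A ≤ (closure T).map π := by
  have hperf := perfect h
  have hlift := le_map_fixed π hπ hc σ hσ hperf h.le
  set N := (closure T).map π with hN
  have hNf : N ≤ fixedSubgroup α := by
    rw [hN, map_le_iff_le_comap, closure_le]
    intro t ht
    change α (π t) = π t
    rw [← hσ, hTf t ht]
  have hAN : A ≤ normalizer (N : Set X) := by
    have h3 : fixedSubgroup σ ≤ normalizer ((closure T : Subgroup M) : Set M) := by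
      have key : ∀ m, σ m = m → ∀ t ∈ closure T, m * t * m⁻¹ ∈ closure T := by
        intro m hm t ht
        induction ht using closure_induction with
        | mem x hx => exact subset_closure (hTn m hm x hx)
        | one => rw [mul_one, mul_inv_cancel]; exact one_mem _
        | mul x y _ _ hx hy =>
          have : m * (x * y) * m⁻¹ = (m * x * m⁻¹) * (m * y * m⁻¹) := by group
          rw [this]; exact mul_mem hx hy
        | inv x _ hx =>
          have : m * x⁻¹ * m⁻¹ = (m * x * m⁻¹)⁻¹ := by group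
          rw [this]; exact inv_mem hx
      intro m hm
      rw [mem_normalizer_iff]
      intro t
      constructor
      · exact key m hm t
      · intro h4
        have h5 := key m⁻¹ (by rw [map_inv, show σ m = m from hm]) _ h4
        have e : m⁻¹ * (m * t * m⁻¹) * m⁻¹⁻¹ = t := by group
        rwa [e] at h5
    calc A ≤ (fixedSubgroup σ).map π := hlift
      _ ≤ (normalizer ((closure T : Subgroup M) : Set M)).map π := map_mono h3
      _ ≤ normalizer (N : Set X) := le_normalizer_map π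
  have hNA : N ≤ normalizer (A : Set X) := hNf.trans h.le_normalizer
  -- the intersection
  have hnorm : ((A ⊓ N).subgroupOf A).Normal := by
    refine ⟨fun x hx g => ?_⟩
    rw [mem_subgroupOf] at hx ⊢
    have hx' := mem_inf.1 hx
    refine mem_inf.2 ⟨(g * x * g⁻¹).2, ?_⟩
    have := (mem_normalizer_iff.1 (hAN g.2) (x : X)).1 hx'.2
    exact this
  have hsim : IsSimpleGroup (↥A ⧸ center ↥A) := h.qs.2
  have hsimA : IsSimpleGroup ↥A := by
    have e : (↥A ⧸ center ↥A) ≃* ↥A := (QuotientGroup.quotientMulEquivOfEq hA).trans QuotientGroup.quotientBot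
    exact e.symm.isSimpleGroup
  rcases hnorm.eq_bot_or_eq_top with h0 | h0
  · exfalso
    obtain ⟨t, ht, ht1⟩ := hTe
    apply ht1
    have htN : π t ∈ N := mem_map_of_mem π (subset_closure ht)
    refine no_p h hp2 hs ?_ (hNf htN) (by rw [← map_pow, hTp t ht, map_one])
    rw [mem_centralizer_iff]
    intro a ha
    have h4 : ⁅a, π t⁆ ∈ A ⊓ N := by
      refine mem_inf.2 ⟨?_, ?_⟩
      · rw [commutatorElement_def, mul_assoc, mul_assoc]
        refine mul_mem ha ?_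
        rw [← mul_assoc]
        exact (mem_normalizer_iff.1 (hNA htN) a⁻¹).1 (inv_mem ha)
      · rw [commutatorElement_def]
        exact mul_mem ((mem_normalizer_iff.1 (hAN ha) _).1 htN) (inv_mem htN)
    have h5 : (⟨⁅a, π t⁆, (mem_inf.1 h4).1⟩ : ↥A) ∈ (A ⊓ N).subgroupOf A := by
      rw [mem_subgroupOf]; exact h4
    rw [h0, mem_bot] at h5
    have h6 : ⁅a, π t⁆ = 1 := congrArg Subtype.val h5
    exact commutatorElement_eq_one_iff_mul_comm.1 h6
  · intro a ha
    have h4 : (⟨a, ha⟩ : ↥A) ∈ (A ⊓ N).subgroupOf A := by rw [h0]; exact mem_top _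
    rw [mem_subgroupOf] at h4
    exact (mem_inf.1 h4).2

/-- **Two commuting families.** -/
theorem two_sets (h : Cfg α A) (hA : center ↥A = ⊥) {p : ℕ} [hp : Fact p.Prime] (hp2 : p ≠ 2) (hs : HasSplit p X)
    {M : Type v} [Group M] (π : M →* X) (hπ : Function.Surjective π) (hc : π.ker ≤ center M)
    (σ : MulAut M) (hσ : ∀ m, π (σ m) = α (π m)) {T₁ T₂ : Set M}
    (h1p : ∀ t ∈ T₁, t ^ p = 1) (h2p : ∀ t ∈ T₂, t ^ p = 1) (h1f : ∀ t ∈ T₁, σ t = t) (h2f : ∀ t ∈ T₂, σ t = t)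
    (h1n : ∀ m, σ m = m → ∀ t ∈ T₁, m * t * m⁻¹ ∈ T₁) (h2n : ∀ m, σ m = m → ∀ t ∈ T₂, m * t * m⁻¹ ∈ T₂)
    (hcm : ∀ s ∈ T₁, ∀ t ∈ T₂, s * t = t * s) (h1e : ∃ t ∈ T₁, π t ≠ 1) (h2e : ∃ t ∈ T₂, π t ≠ 1) : False := by
  have hperf := perfect h
  have hA1 := le_closure h hA hp2 hs π hπ hc σ hσ h1p h1f h1n h1e
  have hA2 := le_closure h hA hp2 hs π hπ hc σ hσ h2p h2f h2n h2e
  have hcomm : ∀ x ∈ closure T₁, ∀ y ∈ closure T₂, x * y = y * x := by
    intro x hx y hy
    have h3 : closure T₁ ≤ centralizer (closure T₂ : Set M) := by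
      rw [closure_le]
      intro s hs
      rw [SetLike.mem_coe, centralizer_closure, mem_centralizer_iff]
      intro t ht
      exact (hcm s hs t ht).symm
    exact ((mem_centralizer_iff.1 (h3 hx)) y hy).symm
  have hab : ∀ a ∈ A, ∀ b ∈ A, a * b = b * a := by
    intro a ha b hb
    obtain ⟨x, hx, rfl⟩ := hA1 ha
    obtain ⟨y, hy, rfl⟩ := hA2 hb
    rw [← map_mul, hcomm x hx y hy, map_mul]
  have hbot : A = ⊥ := by
    rw [← hperf, commutator_eq_bot_iff_le_centralizer]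
    intro a ha
    rw [mem_centralizer_iff]
    intro b hb
    exact hab b hb a ha
  have hsim : IsSimpleGroup (↥A ⧸ center ↥A) := h.qs.2
  have : Subsingleton ↥A := by rw [hbot]; infer_instance
  have : Subsingleton (↥A ⧸ center ↥A) := (QuotientGroup.mk'_surjective _).subsingleton
  exact not_nontrivial _ hsim.toNontrivial

end Cfsg.Agent.H294.ClGeo
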