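import Cfsg.Agent.H294.ClSplit
/-!
# `PΩ(Q)`, characteristic 3, dimension at least 7: a quasisimple `A` of order 25920 in the fixed subgroup of an
involutory automorphism (helper294)
-/

set_option autoImplicit false
set_option linter.unusedSectionVars false

namespace Cfsg.Agent.H294.ClOrth

open Subgroup Cfsg QuadraticMap Cfsg.Agent.H340 Cfsg.Agent.BpCl Cfsg.Agent.H293 Cfsg.Agent.FixBN
  Cfsg.Agent.H294.ClGeo
open Cfsg.Agent.LieClassical.OrthCore Cfsg.Agent.LieClassical.OrthTrans Cfsg.Agent.LieClassical.OrthFinite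
open Cfsg.Agent.ClassicalGeometry.OrthSemi

section Sets

variable {F V : Type} [Field F] [AddCommGroup V] [Module F V] {Q : QuadraticForm F V}

/-- Siegel transformations of an eigenspace -/
def SG (Q : QuadraticForm F V) (L : V →ₗ[F] V) (e : F) : Set ↥(E Q) :=
  {t | ∃ (u w : V) (hu : Q u = 0) (hw : polar Q u w = 0), u ∈ ES L e ∧ w ∈ ES L e ∧
    (t : V ≃ₗ[F] V) = siegel Q u w hu hw}

theorem siegel_zero {u : V} (hu : Q u = 0) (h : polar Q u 0 = 0) : siegel Q u 0 hu h = 1 := by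
  ext v
  rw [siegel_apply, polar_zero_left, QuadraticMap.map_zero]
  simp

theorem siegel_cube [CharP F 3] {u w : V} (hu : Q u = 0) (hw : polar Q u w = 0) :
    siegel Q u w hu hw ^ 3 = 1 := by
  have h2 : polar Q u (w + w) = 0 := by rw [polar_add_right, hw, add_zero]
  have h3 : polar Q u (w + (w + w)) = 0 := by rw [polar_add_right, h2, hw, add_zero]
  rw [pow_succ, pow_two, mul_assoc, siegel_mul hu hw hw h2, siegel_mul hu hw h2 h3]
  have e : w + (w + w) = 0 := by
    have h4 : w + (w + w) = (3 : F) • w := by module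
    have h5 : (3 : F) = 0 := by exact_mod_cast CharP.cast_eq_zero F 3
    rw [h4, h5, zero_smul]
  ext v
  rw [siegel_apply, e]
  rw [polar_zero_left, QuadraticMap.map_zero]
  simp

theorem siegel_comm_L {L : V →ₗ[F] V} (hL : ∀ v, L (L v) = v) (hQ : ∀ v, Q (L v) = Q v) {e : F} (he : e * e = 1)
    {u w : V} (hu : Q u = 0) (hw : polar Q u w = 0) (huE : u ∈ ES L e) (hwE : w ∈ ES L e) (v : V) :
    L (siegel Q u w hu hw v) = siegel Q u w hu hw (L v) := by
  have hp : ∀ x y, polar Q (L x) (L y) = polar Q x y := by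
    intro x y
    simp only [polar]
    rw [← map_add, hQ, hQ, hQ]
  have hp' : ∀ x ∈ ES L e, ∀ y, polar Q x (L y) = e * polar Q x y := by
    intro x hx y
    have h1 := hp x (L y)
    rw [hL, mem_ES.1 hx, polar_smul_left, smul_eq_mul] at h1
    exact h1.symm
  rw [siegel_apply, siegel_apply, hp' u huE, hp' w hwE, map_sub, map_sub, map_add, map_smul, map_smul, map_smul,
    mem_ES.1 huE, mem_ES.1 hwE]
  simp only [smul_smul]
  congr 1
  · congr 1
    · rw [mul_comm (polar Q u v) e]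
    · rw [mul_comm (polar Q w v) e]
  · congr 1
    ring

theorem siegel_fix {L : V →ₗ[F] V} (hQ : ∀ v, Q (L v) = Q v) (h2 : (2 : F) ≠ 0) {e : F} (he : e * e = 1)
    {u w : V} (hu : Q u = 0) (hw : polar Q u w = 0) (huE : u ∈ ES L (-e)) (hwE : w ∈ ES L (-e)) {x : V}
    (hx : x ∈ ES L e) : siegel Q u w hu hw x = x := by
  have h1 : polar Q u x = 0 := by rw [polar_comm]; exact polar_ES hQ h2 he hx huE
  have h3 : polar Q w x = 0 := by rw [polar_comm]; exact polar_ES hQ h2 he hx hwE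
  rw [siegel_apply, h1, h3]
  simp

/-- existence of a noncentral Siegel transformation -/
theorem exists_SG [Finite F] [Module.Finite F V] (hG : Good Q) {L : V →ₗ[F] V} (hL : ∀ v, L (L v) = v) (hQ : ∀ v, Q (L v) = Q v)
    (h2 : (2 : F) ≠ 0) {e : F} (he : e * e = 1) (h3 : 3 ≤ Module.finrank F (ES L e)) :
    ∃ t ∈ SG Q L e, QuotientGroup.mk' (center ↥(E Q)) t ≠ 1 := by
  have hn := nondeg_ES hG.nondeg hL hQ h2 he
  obtain ⟨u, huW, hu0, hu⟩ := exists_sing_mem (Q := Q) (ES L e) h3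
  obtain ⟨u', hu'⟩ := exists_hyp (Q := rs Q (ES L e)) (x := ⟨u, huW⟩) hn hu (fun h => hu0 (congrArg Subtype.val h))
  obtain ⟨a, c, h4, h5, -, -, h6⟩ := exists_perp2 hn h3 hu'
  have hw : polar Q u (a : V) = 0 := h4
  have h5' : polar Q (u' : V) (a : V) = 0 := h5
  have h6' : polar Q (a : V) (c : V) = 1 := h6
  have hpair : polar Q (u' : V) u = 1 := hu'.pair'
  have hna : ∀ k : F, (a : V) ≠ k • u := by
    intro k hk
    rw [hk, polar_smul_right, hpair, smul_eq_mul, mul_one] at h5'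
    rw [hk, h5', zero_smul, polar_zero_left] at h6'
    exact zero_ne_one h6'
  refine ⟨⟨siegel Q u a hu hw, siegel_mem_E hu hw⟩, ⟨u, a, hu, hw, huW, a.2, rfl⟩, fun hcon => ?_⟩
  have hcen : (⟨siegel Q u a hu hw, siegel_mem_E hu hw⟩ : ↥(E Q)) ∈ center ↥(E Q) :=
    (QuotientGroup.eq_one_iff _).1 hcon
  set s := siegel Q u a hu hw with hs
  let M : Gam Q := ⟨s.toEquiv, RingEquiv.refl F, 1, one_ne_zero, fun u v => map_add s u v,
    fun a v => map_smul s a v, fun v => by
      rw [one_mul]; exact siegel_mem_O hu hw v⟩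
  have hM : conjE Q M = 1 := by
    ext k : 2
    change conjLin M k.1 = k.1
    ext v
    obtain ⟨v, rfl⟩ := M.1.surjective v
    rw [conjLin_apply']
    have h7 := (mem_center_iff.1 hcen) k
    exact (LinearEquiv.congr_fun (congrArg Subtype.val h7) v).symm
  obtain ⟨b, hb0, hb⟩ := exists_scalar_of_conjE hG M hM
  have hb' : ∀ v, s v = b • v := hb
  have hsu : s u = u := by
    rw [hs, siegel_apply, polar_self_of_sing hu, polar_comm, hw]
    simp
  have hb1 : b = 1 := by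
    have h8 := hb' u
    rw [hsu] at h8
    have h9 : (1 - b) • u = 0 := by rw [sub_smul, one_smul, ← h8, sub_self]
    exact (sub_eq_zero.1 ((smul_eq_zero.1 h9).resolve_right hu0)).symm
  obtain ⟨v, hv⟩ := hG.nondeg.exists_polar_eq hu0 1
  have h8 := hb' v
  rw [hb1, one_smul, hs, siegel_apply, hv, one_smul, mul_one] at h8
  apply hna (polar Q (a : V) v + Q (a : V))
  have h9 : v + (a : V) - polar Q (a : V) v • u - Q (a : V) • u = v + ((a : V) - (polar Q (a : V) v + Q (a : V)) • u) := by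
    module
  rw [h9] at h8
  exact sub_eq_zero.1 (left_eq_add.1 h8.symm)

end Sets

section Row

variable {F V : Type} [Field F] [Finite F] [CharP F 3] [AddCommGroup V] [Module F V] [Module.Finite F V]
  {Q : QuadraticForm F V}

/-- **The orthogonal row.** -/
theorem orth_row (hG : Good Q) (h7 : 7 ≤ Module.finrank F V) [Finite (↥(E Q) ⧸ center ↥(E Q))] {α : MulAut (↥(E Q) ⧸ center ↥(E Q))}
    {A : Subgroup (↥(E Q) ⧸ center ↥(E Q))} (h : Cfg α A) (hZ : center ↥A = ⊥) (hA : Nat.card ↥A = 25920)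
    (g : Gam Q) (hgα : Psi Q g = α) (hs3 : HasSplit 3 (↥(E Q) ⧸ center ↥(E Q))) :
    Nat.card F = 3 ∧ Module.finrank F V = 7 ∧ ∃ (L : V →ₗ[F] V) (e : F), (∀ v, L v = g.1 v) ∧ (∀ v, L (L v) = v) ∧
      (∀ v, Q (L v) = Q v) ∧ e * e = 1 ∧ Module.finrank F (ES L e) = 5 ∧
      A ≤ (closure (SG Q L e)).map (QuotientGroup.mk' (center ↥(E Q))) := by
  classical
  subst hgα
  have := Fintype.ofFinite F
  have hr := Nat.prime_three
  have hr2 : (3 : ℕ) ≠ 2 := by norm_num
  have : Fact (Nat.Prime 3) := ⟨hr⟩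
  have h2 : (2 : F) ≠ 0 := two_ne_zero_of_charP hr hr2
  have hAq : Nat.card (↥A ⧸ center ↥A) = 25920 := by
    rw [← hA, card_eq_card_quotient_mul_card_subgroup (center ↥A), hZ, card_bot, mul_one]
  obtain ⟨φ, l, hg⟩ := g.2
  have h1 : Psi Q (g ^ 2) = 1 := by rw [map_pow, pow_two]; exact h.sq
  obtain ⟨a, ha, hga⟩ := exists_scalar_of_conjE hG (g ^ 2) (eq_one_of_quotAut (commutator_E hG) _ h1)
  have hs : SemiIso (fun u _ => Q u) φ l g.1 :=
    { add := hg.add, smul := hg.smul, form := fun u _ => hg.form u }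
  have hnd : ∀ u, (∀ v, polarBilin Q u v = 0) → u = 0 := fun u hu => hG.nondeg u hu
  have hga' : ∀ v, g.1 (g.1 v) = a • v := by
    intro v
    have h3 := hga v
    rw [pow_two] at h3
    exact h3
  have hno : ¬ CF.{0} (fun S _ => CFR.NotB S) ↥(Iso (fun u v => polarBilin Q u v) ⊓ CL F g.1) := by
    intro key
    rw [← iso_polar h2] at key
    exact ClSymp.not_cf h hAq (CF.fixed_of_lift (QuotientGroup.mk' _) (QuotientGroup.mk'_surjective _)
      (fun y hy => (QuotientGroup.eq_one_iff y).1 hy) (conjE Q g) _ (fun A => (Psi_mk g A).symm) (cf_fixed_conjE g key))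
  obtain ⟨hF3, rfl, rfl, rfl⟩ := CFR.cf_iso_main (ε := 1) (by omega) hnd (by ring) (fun u v => by
      rw [one_mul]; exact polar_comm Q u v) (semiIso_polar' hs) ha hga' hno
  let L : V →ₗ[F] V :=
    { toFun := g.1
      map_add' := hg.add
      map_smul' := fun c v => by rw [hg.smul]; rfl }
  have hLg : ∀ v, L v = g.1 v := fun _ => rfl
  have hL : ∀ v, L (L v) = v := by
    intro v; rw [hLg, hLg, hga', one_smul]
  have hQ : ∀ v, Q (L v) = Q v := by
    intro v
    rw [hLg, hg.form, one_mul]; rfl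
  have hfixE : ∀ m : ↥(E Q), conjE Q g m = m → ∀ v, (m : V ≃ₗ[F] V) (L v) = L ((m : V ≃ₗ[F] V) v) := by
    intro m hm v
    have h3 := congrArg Subtype.val hm
    rw [coe_conjE] at h3
    rw [hLg, hLg, ← conjLin_apply', h3]
  have hmfix : ∀ m : ↥(E Q), (∀ v, L ((m : V ≃ₗ[F] V) v) = (m : V ≃ₗ[F] V) (L v)) → conjE Q g m = m := by
    intro m hm
    apply Subtype.ext
    rw [coe_conjE]
    ext v
    obtain ⟨v, rfl⟩ := g.1.surjective v
    rw [conjLin_apply']
    exact hm v
  have c3 : ∀ e : F, ∀ t ∈ SG Q L e, t ^ 3 = 1 := by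
    rintro e t ⟨u, w, hu, hw, -, -, ht⟩
    apply Subtype.ext
    rw [SubmonoidClass.coe_pow, ht, siegel_cube]
    rfl
  have cf : ∀ e : F, e * e = 1 → ∀ t ∈ SG Q L e, conjE Q g t = t := by
    rintro e he t ⟨u, w, hu, hw, huE, hwE, ht⟩
    apply hmfix
    intro v
    rw [ht]
    exact siegel_comm_L hL hQ he hu hw huE hwE v
  have cn : ∀ e : F, ∀ m, conjE Q g m = m → ∀ t ∈ SG Q L e, m * t * m⁻¹ ∈ SG Q L e := by
    rintro e m hm t ⟨u, w, hu, hw, huE, hwE, ht⟩
    have hmO : (m : V ≃ₗ[F] V) ∈ O Q := E_le_O m.2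
    have hu' : Q ((m : V ≃ₗ[F] V) u) = 0 := by rw [hmO u, hu]
    have hw' : polar Q ((m : V ≃ₗ[F] V) u) ((m : V ≃ₗ[F] V) w) = 0 := by rw [polar_map hmO, hw]
    refine ⟨_, _, hu', hw', ?_, ?_, ?_⟩
    · rw [mem_ES, ← hfixE m hm, mem_ES.1 huE, map_smul]
    · rw [mem_ES, ← hfixE m hm, mem_ES.1 hwE, map_smul]
    · rw [coe_mul, coe_mul, coe_inv, ht]
      exact siegel_conj hmO hu hw hu' hw'
  have hcompl := fun {e : F} (he : e * e = 1) => isCompl_ES hL h2 he
  have hdim : ∀ e : F, e * e = 1 → Module.finrank F (ES L e) + Module.finrank F (ES L (-e)) = Module.finrank F V :=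
    fun e he => Submodule.finrank_add_eq_of_isCompl (hcompl he)
  have hlift : ∀ e : F, e * e = 1 → 3 ≤ Module.finrank F (ES L e) →
      A ≤ (closure (SG Q L e)).map (QuotientGroup.mk' (center ↥(E Q))) := by
    intro e he h3
    exact le_closure h hZ hr2 hs3 (QuotientGroup.mk' _) (QuotientGroup.mk'_surjective _)
      (fun y hy => (QuotientGroup.eq_one_iff y).1 hy) (conjE Q g) (fun A => (Psi_mk g A).symm) (c3 e) (cf e he) (cn e)
      (exists_SG hG hL hQ h2 he h3)
  have hsmall : ∃ e : F, e * e = 1 ∧ Module.finrank F (ES L (-e)) ≤ 2 := by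
    by_contra hcon
    push Not at hcon
    have e1 : (1 : F) * 1 = 1 := one_mul 1
    have e2 : (-1 : F) * (-1) = 1 := by ring
    have h3 := hcon 1 e1
    have h4 := hcon (-1) e2
    rw [neg_neg] at h4
    refine two_sets h hZ hr2 hs3 (QuotientGroup.mk' _) (QuotientGroup.mk'_surjective _)
      (fun y hy => (QuotientGroup.eq_one_iff y).1 hy) (conjE Q g) (fun A => (Psi_mk g A).symm) (T₁ := SG Q L 1)
      (T₂ := SG Q L (-1)) (c3 _) (c3 _) (cf _ e1) (cf _ e2) (cn _) (cn _) ?_ (exists_SG hG hL hQ h2 e1 h4)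
      (exists_SG hG hL hQ h2 e2 h3)
    rintro s ⟨u, w, hu, hw, huE, hwE, hs⟩ t ⟨u', w', hu', hw', huE', hwE', ht⟩
    apply Subtype.ext
    rw [coe_mul, coe_mul, hs, ht]
    have h5 : siegel Q u' w' hu' hw' * siegel Q u w hu hw * (siegel Q u' w' hu' hw')⁻¹ = siegel Q u w hu hw := by
      have e3 := siegel_fix hQ h2 e1 hu' hw' huE' hwE' huE
      have e4 := siegel_fix hQ h2 e1 hu' hw' huE' hwE' hwE
      rw [siegel_conj (siegel_mem_O hu' hw') hu hw (by rw [e3, hu]) (by rw [e3, e4, hw])]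
      exact Cfsg.Agent.LieClassical.OrthSimple.siegel_congr _ _ hu hw e3 e4
    exact (mul_inv_eq_iff_eq_mul.1 h5).symm
  obtain ⟨e, he, hle⟩ := hsmall
  have he0 : e ≠ 0 := by rintro rfl; rw [mul_zero] at he; exact zero_ne_one he
  have hd := hdim e he
  have h5 : Module.finrank F (ES L e) = 5 := by
    by_contra h5
    apply hno
    rw [← iso_polar h2, Iso_eq_O]
    refine cf_split (hcompl he) (fun x hx y hy => polar_ES hQ h2 he hx hy) (fun u v => hg.add u v) he0 h2
      (fun x => mem_ES) (fun x => by rw [mem_ES, neg_smul]; rfl) ?_ ?_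
    · refine CFR.cf_O CFR.base_B (nondeg_ES hG.nondeg hL hQ h2 he) ?_
      rintro ⟨-, h6 | h6⟩ <;> omega
    · refine CFR.cf_O CFR.base_B (nondeg_ES hG.nondeg hL hQ h2 (e := -e) (by rw [neg_mul_neg]; exact he)) ?_
      rintro ⟨-, h6 | h6⟩ <;> omega
  exact ⟨hF3, by omega, L, e, hLg, hL, hQ, he, h5, hlift e he (by omega)⟩

end Row

end Cfsg.Agent.H294.ClOrth
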