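import Cfsg.Agent.H294.ClOrth
import Cfsg.Agent.H749.QuadSplit
import Cfsg.Agent.FooteOrth.Spin
/-!
# The exceptional case of the orthogonal row: a second involution centralizing `A` (helper294)
-/

set_option autoImplicit false
set_option linter.unusedSectionVars false

namespace Cfsg.Agent.H294.ClOrth

open Subgroup Cfsg QuadraticMap Cfsg.Agent.H340 Cfsg.Agent.BpCl Cfsg.Agent.H293 Cfsg.Agent.FixBN
  Cfsg.Agent.H294.ClGeo
open Cfsg.Agent.LieClassical.OrthCore Cfsg.Agent.LieClassical.OrthTrans Cfsg.Agent.LieClassical.OrthFinite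
open Cfsg.Agent.ClassicalGeometry.OrthSemi

variable {ι : Type} [Fintype ι] [DecidableEq ι] {F : Type} [Field F] [Finite F] [CharP F 3]
  {Q : QuadraticForm F (ι → F)}

/-- minus the identity -/
def mi (ι : Type) (F : Type) [Field F] : (ι → F) ≃ₗ[F] (ι → F) := LinearEquiv.neg F

theorem mi_apply (v : ι → F) : mi ι F v = -v := rfl

theorem mi_mem : mi ι F ∈ O Q := by
  intro v
  rw [mi_apply, QuadraticMap.map_neg]

theorem mi_comm (k : (ι → F) ≃ₗ[F] (ι → F)) : mi ι F * k = k * mi ι F := by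
  ext1 v
  change -(k v) = k (-v)
  rw [map_neg]

theorem det_mi (h7 : Fintype.card ι = 7) : LinearEquiv.det (mi ι F) = -1 := by
  apply Units.ext
  rw [LinearEquiv.coe_det]
  have h1 : ((mi ι F : (ι → F) ≃ₗ[F] (ι → F)) : (ι → F) →ₗ[F] (ι → F)) = (-1 : F) • LinearMap.id := by
    refine LinearMap.ext fun v => ?_
    rw [LinearMap.smul_apply, neg_one_smul]
    rfl
  rw [h1, LinearMap.det_smul, Module.finrank_fintype_fun_eq_card, h7, LinearMap.det_id]
  simp only [mul_one, Units.val_neg, Units.val_one]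
  ring

theorem exists_rho (hG : Good Q) (h7 : Fintype.card ι = 7) (hF3 : Nat.card F = 3) {g : Gam Q}
    {L : (ι → F) →ₗ[F] (ι → F)} {e : F} (hLg : ∀ v, L v = g.1 v) (hL : ∀ v, L (L v) = v) (hQ : ∀ v, Q (L v) = Q v)
    (he : e * e = 1) (h5 : Module.finrank F (ES L e) = 5) {A : Subgroup (↥(E Q) ⧸ center ↥(E Q))}
    (hA : A ≤ (closure (SG Q L e)).map (QuotientGroup.mk' (center ↥(E Q)))) :
    ∃ ρ ∈ centralizer (A : Set (↥(E Q) ⧸ center ↥(E Q))), ρ ∈ fixedSubgroup (Psi Q g) ∧ ρ * ρ = 1 ∧ ρ ≠ 1 ∧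
      MulAut.conj ρ ≠ Psi Q g := by
  classical
  have := Fintype.ofFinite F
  have h2 : (2 : F) ≠ 0 := two_ne_zero_of_charP Nat.prime_three (by norm_num)
  have he0 : e ≠ 0 := by rintro rfl; rw [mul_zero] at he; exact zero_ne_one he
  have hee : (-e) * (-e) = 1 := by rw [neg_mul_neg]; exact he
  have hdim := Submodule.finrank_add_eq_of_isCompl (isCompl_ES hL h2 he)
  rw [h5, Module.finrank_fintype_fun_eq_card, h7] at hdim
  have hd2 : Module.finrank F (ES L (-e)) = 2 := by omega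
  have hn2 := nondeg_ES hG.nondeg hL hQ h2 hee
  have hsq : ∀ c : F, c ≠ 0 → c * c = 1 := by
    intro c hc
    have h4 := FiniteField.pow_card_sub_one_eq_one c hc
    rw [← Nat.card_eq_fintype_card, hF3] at h4
    rw [← h4]; ring
  have hm1 : ¬ IsSquare (-1 : F) := by
    rintro ⟨x, hx⟩
    have hx0 : x ≠ 0 := by rintro rfl; rw [mul_zero] at hx; exact one_ne_zero (neg_eq_zero.1 hx)
    rw [hsq x hx0] at hx
    exact h2 (by linear_combination -hx)
  -- the vector `u`
  obtain ⟨c, hc0, hc⟩ : ∃ c : F, c ≠ 0 ∧ FooteOrth.sg Q ⟨mi ι F, mi_mem⟩ * (if IsSquare c then -1 else 1) = 1 := by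
    rcases Int.units_eq_one_or (FooteOrth.sg Q ⟨mi ι F, mi_mem⟩) with h | h
    · exact ⟨-1, neg_ne_zero.2 one_ne_zero, by rw [h, if_neg hm1, mul_one]⟩
    · exact ⟨1, one_ne_zero, by rw [h, if_pos ⟨1, by rw [mul_one]⟩]; rfl⟩
  obtain ⟨u', hu'⟩ := Cfsg.Agent.H749.exists_value hn2 (by omega) c
  obtain ⟨u, huE, hu⟩ : ∃ u ∈ ES L (-e), Q u = c := ⟨u', u'.2, hu'⟩
  have hu0 : Q u ≠ 0 := by rw [hu]; exact hc0
  have hune : u ≠ 0 := by rintro rfl; exact hu0 (QuadraticMap.map_zero Q)
  -- the isometry `r`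
  set r : (ι → F) ≃ₗ[F] (ι → F) := mi ι F * refl Q u hu0 with hr
  have hra : ∀ v, r v = -(refl Q u hu0 v) := fun _ => rfl
  have hrO : r ∈ O Q := mul_mem mi_mem (refl_mem_O hu0)
  have hrE : r ∈ E Q := by
    rw [FooteOrth.mem_E_iff hG h2 hrO]
    constructor
    · rw [hr, map_mul, det_mi h7, FooteOrth.det_refl, neg_mul_neg, one_mul]
    · have h3 : (⟨r, hrO⟩ : ↥(O Q)) = ⟨mi ι F, mi_mem⟩ * ⟨refl Q u hu0, refl_mem_O hu0⟩ := rfl
      rw [h3, map_mul, FooteOrth.sg_refl h2 hu0, hu]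
      exact hc
  have hrr : r * r = 1 := by
    calc r * r = mi ι F * (refl Q u hu0 * mi ι F) * refl Q u hu0 := by rw [hr]; group
      _ = mi ι F * (mi ι F * refl Q u hu0) * refl Q u hu0 := by rw [← mi_comm (refl Q u hu0)]
      _ = (mi ι F * mi ι F) * (refl Q u hu0 * refl Q u hu0) := by group
      _ = 1 := by
          rw [refl_mul_self, mul_one]
          ext1 v
          exact neg_neg v
  have hpL : ∀ x y, polar Q (L x) (L y) = polar Q x y := by
    intro x y
    simp only [polar]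
    rw [← map_add, hQ, hQ, hQ]
  have hru : r u = u := by
    rw [hra, refl_apply, polar_self']
    have h3 : (Q u)⁻¹ * (2 * Q u) = 2 := by field_simp
    rw [h3, two_smul]
    abel
  have hrx : ∀ x, polar Q u x = 0 → r x = -x := by
    intro x hx
    rw [hra, refl_apply, hx, mul_zero, zero_smul, sub_zero]
  have hrW : ∀ x ∈ ES L e, r x = -x := fun x hx => hrx x (by rw [polar_comm]; exact polar_ES hQ h2 he hx huE)
  have hrL : ∀ v, r (L v) = L (r v) := by
    intro v
    have h3 : polar Q u (L v) = -e * polar Q u v := by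
      have h4 := hpL u (L v)
      rw [hL, mem_ES.1 huE, polar_smul_left, smul_eq_mul] at h4
      exact h4.symm
    rw [hra, hra, refl_apply, refl_apply, h3, map_neg, map_sub, map_smul, mem_ES.1 huE, smul_smul]
    congr 2
    congr 1
    ring
  -- the element `ρ`
  have hscal : ∀ b : F, ¬ ∀ v, r v = b • v := by
    intro b hb
    have h3 := hb u
    rw [hru] at h3
    have h4 : (1 - b) • u = 0 := by rw [sub_smul, one_smul, ← h3, sub_self]
    have hb1 : b = 1 := (sub_eq_zero.1 ((smul_eq_zero.1 h4).resolve_right hune)).symm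
    obtain ⟨x, hx, hx0⟩ : ∃ x ∈ ES L e, x ≠ 0 := by
      refine Submodule.exists_mem_ne_zero_of_ne_bot ?_
      intro h
      rw [h, finrank_bot] at h5
      omega
    have h6 := hb x
    rw [hrW x hx, hb1, one_smul] at h6
    have h7 : (2 : F) • x = 0 := by rw [two_smul]; nth_rewrite 1 [← h6]; exact neg_add_cancel x
    exact hx0 ((smul_eq_zero.1 h7).resolve_left h2)
  let R : ↥(E Q) := ⟨r, hrE⟩
  let M : Gam Q := ⟨r.toEquiv, RingEquiv.refl F, 1, one_ne_zero, fun u v => map_add r u v,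
    fun a v => map_smul r a v, fun v => by rw [one_mul]; exact hrO v⟩
  have hM1 : ∀ v, M.1 v = r v := fun _ => rfl
  have hconj : Psi Q M = MulAut.conj (QuotientGroup.mk' (center ↥(E Q)) R) := by
    apply MulEquiv.ext
    intro x
    obtain ⟨k, rfl⟩ := QuotientGroup.mk_surjective x
    rw [Psi_mk, MulAut.conj_apply]
    change _ = ((R * k * R⁻¹ : ↥(E Q)) : ↥(E Q) ⧸ center ↥(E Q))
    congr 1
  have hfix : conjE Q g R = R := by
    apply Subtype.ext
    rw [coe_conjE]
    ext1 v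
    obtain ⟨v, rfl⟩ := g.1.surjective v
    rw [conjLin_apply', ← hLg, ← hLg]
    exact (hrL v).symm
  refine ⟨QuotientGroup.mk' (center ↥(E Q)) R, ?_, ?_, ?_, ?_, ?_⟩
  · rw [mem_centralizer_iff]
    intro a ha
    obtain ⟨y, hy, rfl⟩ := hA ha
    rw [← map_mul, ← map_mul]
    congr 1
    have h3 : closure (SG Q L e) ≤ centralizer ({R} : Set ↥(E Q)) := by
      rw [closure_le]
      rintro t ⟨x, w, hx, hw, hxE, hwE, ht⟩
      rw [SetLike.mem_coe, mem_centralizer_singleton_iff]
      apply Subtype.ext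
      rw [coe_mul, coe_mul, ht]
      change siegel Q x w hx hw * (mi ι F * refl Q u hu0) = (mi ι F * refl Q u hu0) * siegel Q x w hx hw
      have e1 : refl Q u hu0 x = x := by
        rw [refl_apply, polar_comm, polar_ES hQ h2 he hxE huE, mul_zero, zero_smul, sub_zero]
      have e2 : refl Q u hu0 w = w := by
        rw [refl_apply, polar_comm, polar_ES hQ h2 he hwE huE, mul_zero, zero_smul, sub_zero]
      have h4 : refl Q u hu0 * siegel Q x w hx hw * (refl Q u hu0)⁻¹ = siegel Q x w hx hw := by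
        rw [siegel_conj (refl_mem_O hu0) hx hw (by rw [e1, hx]) (by rw [e1, e2, hw])]
        exact Cfsg.Agent.LieClassical.OrthSimple.siegel_congr _ _ hx hw e1 e2
      have h5 : refl Q u hu0 * siegel Q x w hx hw = siegel Q x w hx hw * refl Q u hu0 := mul_inv_eq_iff_eq_mul.1 h4
      rw [mul_assoc, h5, ← mul_assoc, ← mul_assoc, mi_comm]
    exact (mem_centralizer_singleton_iff.1 (h3 hy))
  · change Psi Q g (QuotientGroup.mk' (center ↥(E Q)) R) = _
    exact (Psi_mk g R).trans (congrArg _ hfix)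
  · rw [← map_mul]
    have h3 : R * R = 1 := Subtype.ext hrr
    rw [h3, map_one]
  · intro hcon
    have hcen : R ∈ center ↥(E Q) := (QuotientGroup.eq_one_iff _).1 hcon
    have hM : conjE Q M = 1 := by
      ext k : 2
      change conjLin M k.1 = k.1
      ext1 v
      obtain ⟨v, rfl⟩ := M.1.surjective v
      rw [conjLin_apply']
      have h7 := (mem_center_iff.1 hcen) k
      exact (LinearEquiv.congr_fun (congrArg Subtype.val h7) v).symm
    obtain ⟨b, -, hb⟩ := exists_scalar_of_conjE hG M hM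
    exact hscal b hb
  · intro hcon
    rw [← hconj] at hcon
    have h3 : g * M⁻¹ ∈ (Psi Q).ker := by
      rw [MonoidHom.mem_ker, map_mul, map_inv, ← hcon, mul_inv_cancel]
    rw [ker_Psi hG] at h3
    obtain ⟨b, hb⟩ := h3
    have hgb : ∀ v, g.1 v = (b : F) • r v := by
      intro v
      have h4 : g = scal Q b * M := by rw [hb]; group
      rw [h4]
      rfl
    obtain ⟨w, hw0, hw⟩ := exists_perp_ne (Q := rs Q (ES L (-e))) ![(⟨u, huE⟩ : ES L (-e))] (by omega)
    have hw' : polar Q u (w : ι → F) = 0 := hw 0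
    have hw0' : (w : ι → F) ≠ 0 := fun h => hw0 (Subtype.ext h)
    have h4 := hgb u
    rw [hru, ← hLg, mem_ES.1 huE] at h4
    have hbe : -e = b := by
      have h5 : (-e - (b : F)) • u = 0 := by rw [sub_smul, h4, sub_self]
      exact sub_eq_zero.1 ((smul_eq_zero.1 h5).resolve_right hune)
    have h6 := hgb w
    rw [hrx _ hw', ← hLg, mem_ES.1 w.2, ← hbe] at h6
    have h8 : ((2 : F) * e) • (w : ι → F) = 0 := by
      have h9 : ((2 : F) * e) • (w : ι → F) = (-e) • (-(w : ι → F)) - (-e) • (w : ι → F) := by module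
      rw [h9, ← h6, sub_self]
    exact hw0' ((smul_eq_zero.1 h8).resolve_left (mul_ne_zero h2 he0))

end Cfsg.Agent.H294.ClOrth
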