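import Cfsg.Agent.H294.ClSymp
import Cfsg.Agent.LieClassical.OrthFinite
/-!
# The eigenspaces of an isometry of order two of a quadratic form (helper294)
-/

set_option autoImplicit false
set_option linter.unusedSectionVars false

namespace Cfsg.Agent.H294.ClOrth

open Subgroup Cfsg QuadraticMap Cfsg.Agent.H340 Cfsg.Agent.BpCl
open Cfsg.Agent.LieClassical.OrthCore Cfsg.Agent.LieClassical.OrthTrans Cfsg.Agent.LieClassical.OrthFinite

universe u

section Split

variable {F V : Type} [Field F] [AddCommGroup V] [Module F V] {Q : QuadraticForm F V} {W₁ W₂ : Submodule F V}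

/-- the restriction of `Q` to a subspace -/
def rs (Q : QuadraticForm F V) (W : Submodule F V) : QuadraticForm F W := Q.comp W.subtype

theorem rs_apply (W : Submodule F V) (x : W) : rs Q W x = Q (x : V) := rfl

theorem polar_rs (W : Submodule F V) (x y : W) : polar (rs Q W) x y = polar Q (x : V) y := rfl

/-- direct sum of two automorphisms -/
noncomputable def join (h : IsCompl W₁ W₂) (k : W₁ ≃ₗ[F] W₁) (k' : W₂ ≃ₗ[F] W₂) : V ≃ₗ[F] V :=
  ((Submodule.prodEquivOfIsCompl W₁ W₂ h).symm.trans (LinearEquiv.prodCongr k k')).trans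
    (Submodule.prodEquivOfIsCompl W₁ W₂ h)

theorem join_apply (h : IsCompl W₁ W₂) (k : W₁ ≃ₗ[F] W₁) (k' : W₂ ≃ₗ[F] W₂) (x : W₁) (y : W₂) :
    join h k k' ((x : V) + y) = (k x : V) + k' y := by
  have h1 : (x : V) + y = Submodule.prodEquivOfIsCompl W₁ W₂ h (x, y) := by
    rw [Submodule.coe_prodEquivOfIsCompl']
  rw [h1, join, LinearEquiv.trans_apply, LinearEquiv.trans_apply, LinearEquiv.symm_apply_apply,
    Submodule.coe_prodEquivOfIsCompl']
  rfl

theorem exists_add (h : IsCompl W₁ W₂) (v : V) : ∃ (x : W₁) (y : W₂), v = (x : V) + y := by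
  obtain ⟨⟨x, y⟩, hxy⟩ := (Submodule.prodEquivOfIsCompl W₁ W₂ h).surjective v
  exact ⟨x, y, by rw [← hxy, Submodule.coe_prodEquivOfIsCompl']⟩

theorem ext_add (h : IsCompl W₁ W₂) {a b : V ≃ₗ[F] V} (hab : ∀ (x : W₁) (y : W₂), a ((x : V) + y) = b ((x : V) + y)) :
    a = b := by
  ext v
  obtain ⟨x, y, rfl⟩ := exists_add h v
  exact hab x y

/-- **Composition factors of the isometries commuting with an isometry of order two.** -/
theorem cf_split {P : ∀ (S : Type u) [Group S], Prop} (h : IsCompl W₁ W₂)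
    (hort : ∀ x ∈ W₁, ∀ y ∈ W₂, polar Q x y = 0) {g : Equiv.Perm V} (hadd : ∀ u v, g (u + v) = g u + g v) {e : F}
    (he0 : e ≠ 0) (h20 : (2 : F) ≠ 0)
    (hW1 : ∀ x, x ∈ W₁ ↔ g x = e • x) (hW2 : ∀ x, x ∈ W₂ ↔ g x = -(e • x)) (h1 : CF P ↥(O (rs Q W₁)))
    (h2 : CF P ↥(O (rs Q W₂))) : CF P ↥(O Q ⊓ CL F g) := by
  have hneg : ∀ v, g (-v) = -g v := by
    intro v
    have h0 : g 0 = 0 := by
      have := hadd 0 0
      rw [add_zero] at this
      exact left_eq_add.1 this
    have := hadd v (-v)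
    rw [add_neg_cancel, h0] at this
    exact (neg_eq_of_add_eq_zero_right this.symm).symm
  let Φ : ↥(O (rs Q W₁)) × ↥(O (rs Q W₂)) →* ↥(O Q ⊓ CL F g) :=
    { toFun := fun p => ⟨join h p.1 p.2, by
        constructor
        · intro v
          obtain ⟨x, y, rfl⟩ := exists_add h v
          rw [join_apply, Q_add, Q_add, hort _ (SetLike.coe_mem _) _ (SetLike.coe_mem _),
            hort _ (SetLike.coe_mem _) _ (SetLike.coe_mem _)]
          have e1 : Q ((p.1 : W₁ ≃ₗ[F] W₁) x : V) = Q (x : V) := p.1.2 x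
          have e2 : Q ((p.2 : W₂ ≃ₗ[F] W₂) y : V) = Q (y : V) := p.2.2 y
          rw [e1, e2]
        · intro v
          obtain ⟨x, y, rfl⟩ := exists_add h v
          have e1 : g (x : V) = ((e • x : W₁) : V) := (hW1 _).1 x.2
          have e2 : g (y : V) = ((-(e • y) : W₂) : V) := (hW2 _).1 y.2
          rw [hadd, e1, e2, join_apply, join_apply, hadd, map_smul, map_neg, map_smul]
          have e3 : g ((p.1 : W₁ ≃ₗ[F] W₁) x : V) = e • ((p.1 : W₁ ≃ₗ[F] W₁) x : V) := (hW1 _).1 (SetLike.coe_mem _)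
          have e4 : g ((p.2 : W₂ ≃ₗ[F] W₂) y : V) = -(e • ((p.2 : W₂ ≃ₗ[F] W₂) y : V)) := (hW2 _).1 (SetLike.coe_mem _)
          rw [e3, e4]
          rfl⟩
      map_one' := by
        apply Subtype.ext
        refine ext_add h fun x y => ?_
        change join h _ _ _ = _
        rw [join_apply]
        rfl
      map_mul' := by
        intro p q
        apply Subtype.ext
        refine ext_add h fun x y => ?_
        change join h _ _ _ = join h _ _ (join h _ _ _)
        rw [join_apply, join_apply, join_apply]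
        rfl }
  refine (h1.prod h2).of_surjective Φ ?_
  rintro ⟨k, hk, hkg⟩
  have hk' : ∀ v, k (g v) = g (k v) := hkg
  have hki : ∀ v, k⁻¹ (g v) = g (k⁻¹ v) := (CL F g).inv_mem hkg
  have m1 : ∀ {k : V ≃ₗ[F] V}, (∀ v, k (g v) = g (k v)) → ∀ x ∈ W₁, k x ∈ W₁ := by
    intro k hk x hx
    rw [hW1, ← hk, (hW1 x).1 hx, map_smul]
  have m2 : ∀ {k : V ≃ₗ[F] V}, (∀ v, k (g v) = g (k v)) → ∀ x ∈ W₂, k x ∈ W₂ := by
    intro k hk x hx
    rw [hW2, ← hk, (hW2 x).1 hx, map_neg, map_smul]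
  let r1 : W₁ ≃ₗ[F] W₁ := LinearEquiv.ofLinear (k.toLinearMap.restrict (m1 hk')) ((k⁻¹).toLinearMap.restrict (m1 hki))
    (by
      ext x
      exact k.apply_symm_apply (x : V))
    (by
      ext x
      exact k.symm_apply_apply (x : V))
  let r2 : W₂ ≃ₗ[F] W₂ := LinearEquiv.ofLinear (k.toLinearMap.restrict (m2 hk')) ((k⁻¹).toLinearMap.restrict (m2 hki))
    (by
      ext x
      exact k.apply_symm_apply (x : V))
    (by
      ext x
      exact k.symm_apply_apply (x : V))
  refine ⟨(⟨r1, fun x => hk x⟩, ⟨r2, fun x => hk x⟩), ?_⟩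
  apply Subtype.ext
  refine ext_add h fun x y => ?_
  change join h r1 r2 _ = k _
  rw [join_apply, map_add]
  rfl

end Split

section Eigen

variable {F V : Type} [Field F] [AddCommGroup V] [Module F V] {Q : QuadraticForm F V}

/-- the eigenspace -/
def ES (L : V →ₗ[F] V) (e : F) : Submodule F V := LinearMap.ker (L - e • LinearMap.id)

theorem mem_ES {L : V →ₗ[F] V} {e : F} {v : V} : v ∈ ES L e ↔ L v = e • v := by
  rw [ES, LinearMap.mem_ker, LinearMap.sub_apply, LinearMap.smul_apply, LinearMap.id_apply, sub_eq_zero]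

theorem isCompl_ES {L : V →ₗ[F] V} (hL : ∀ v, L (L v) = v) (h2 : (2 : F) ≠ 0) {e : F} (he : e * e = 1) :
    IsCompl (ES L e) (ES L (-e)) := by
  have he0 : e ≠ 0 := by rintro rfl; rw [mul_zero] at he; exact zero_ne_one he
  constructor
  · rw [Submodule.disjoint_def]
    intro x hx hx'
    rw [mem_ES] at hx hx'
    rw [hx, neg_smul, ← add_eq_zero_iff_eq_neg, ← two_smul F, smul_smul] at hx'
    exact (smul_eq_zero.1 hx').resolve_left (mul_ne_zero h2 he0)
  · rw [codisjoint_iff, eq_top_iff]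
    intro v _
    have h1 : v = (2 : F)⁻¹ • (v + e • L v) + (2 : F)⁻¹ • (v - e • L v) := by
      rw [← smul_add, add_add_sub_cancel, ← two_smul F, smul_smul, inv_mul_cancel₀ h2, one_smul]
    rw [h1]
    refine Submodule.add_mem_sup ?_ ?_
    · have h3 : e • (2 : F)⁻¹ • (v + e • L v) = (2 : F)⁻¹ • (e • v + (e * e) • L v) := by module
      rw [mem_ES, map_smul, map_add, map_smul, hL, h3, he, one_smul, add_comm]
    · have h3 : (-e) • (2 : F)⁻¹ • (v - e • L v) = (2 : F)⁻¹ • ((e * e) • L v - e • v) := by module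
      rw [mem_ES, map_smul, map_sub, map_smul, hL, h3, he, one_smul]

theorem polar_ES {L : V →ₗ[F] V} (hQ : ∀ v, Q (L v) = Q v) (h2 : (2 : F) ≠ 0) {e : F} (he : e * e = 1) {x y : V}
    (hx : x ∈ ES L e) (hy : y ∈ ES L (-e)) : polar Q x y = 0 := by
  rw [mem_ES] at hx hy
  have h1 : polar Q (L x) (L y) = polar Q x y := by
    simp only [polar]
    rw [← map_add, hQ, hQ, hQ]
  rw [hx, hy, polar_smul_left, polar_smul_right, smul_eq_mul, smul_eq_mul] at h1
  have h3 : 2 * polar Q x y = 0 := by linear_combination -h1 - polar Q x y * he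
  exact (mul_eq_zero.1 h3).resolve_left h2

theorem nondeg_ES (hQn : Nondeg Q) {L : V →ₗ[F] V} (hL : ∀ v, L (L v) = v) (hQ : ∀ v, Q (L v) = Q v)
    (h2 : (2 : F) ≠ 0) {e : F} (he : e * e = 1) : Nondeg (rs Q (ES L e)) := by
  intro x hx
  apply Subtype.ext
  apply hQn
  intro v
  obtain ⟨a, b, rfl⟩ := exists_add (isCompl_ES hL h2 he) v
  rw [polar_add_right, polar_ES hQ h2 he x.2 b.2, add_zero]
  exact hx a

end Eigen

end Cfsg.Agent.H294.ClOrth
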