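import Cfsg.Agent.H815.RankL4
/-!
# The sectional 2-rank of `L₅(3)` is at most 4 (helper294)

`Q8 ∘ Q8` acting on `F² ⊗ F²`.
-/

set_option autoImplicit false

namespace Cfsg.Agent.H294.RankL5

open Matrix Cfsg Cfsg.Agent Subgroup Cfsg.Agent.GH.LowRankQ8

variable {F : Type*} [Field F]

/-- `i ⊗ 1` -/
def m1 (F : Type*) [Field F] : Matrix (Fin 5) (Fin 5) F :=
  !![0, 0, -1, 0, 0; 0, 0, 0, -1, 0; 1, 0, 0, 0, 0; 0, 1, 0, 0, 0; 0, 0, 0, 0, 1]
/-- `j ⊗ 1` -/
def m2 (F : Type*) [Field F] : Matrix (Fin 5) (Fin 5) F :=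
  !![1, 0, 1, 0, 0; 0, 1, 0, 1, 0; 1, 0, -1, 0, 0; 0, 1, 0, -1, 0; 0, 0, 0, 0, 1]
/-- `1 ⊗ i` -/
def m3 (F : Type*) [Field F] : Matrix (Fin 5) (Fin 5) F :=
  !![0, -1, 0, 0, 0; 1, 0, 0, 0, 0; 0, 0, 0, -1, 0; 0, 0, 1, 0, 0; 0, 0, 0, 0, 1]
/-- `1 ⊗ j` -/
def m4 (F : Type*) [Field F] : Matrix (Fin 5) (Fin 5) F :=
  !![1, 1, 0, 0, 0; 1, -1, 0, 0, 0; 0, 0, 1, 1, 0; 0, 0, 1, -1, 0; 0, 0, 0, 0, 1]
/-- the central involution -/
def m0 (F : Type*) [Field F] : Matrix (Fin 5) (Fin 5) F := diagonal ![-1, -1, -1, -1, 1]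

theorem m1_sq : m1 F * m1 F = m0 F := by
  ext i j
  fin_cases i <;> fin_cases j <;> simp [m1, m0, mul_apply, Fin.sum_univ_five]

theorem m3_sq : m3 F * m3 F = m0 F := by
  ext i j
  fin_cases i <;> fin_cases j <;> simp [m3, m0, mul_apply, Fin.sum_univ_five]

theorem m0_sq : m0 F * m0 F = 1 := by
  rw [m0, diagonal_mul_diagonal, ← diagonal_one]
  congr 1
  ext i
  fin_cases i <;> simp

theorem c13 : m1 F * m3 F = m3 F * m1 F := by
  ext i j
  fin_cases i <;> fin_cases j <;> simp [m1, m3, mul_apply, Fin.sum_univ_five]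

theorem c14 : m1 F * m4 F = m4 F * m1 F := by
  ext i j
  fin_cases i <;> fin_cases j <;> simp [m1, m4, mul_apply, Fin.sum_univ_five]

theorem c23 : m2 F * m3 F = m3 F * m2 F := by
  ext i j
  fin_cases i <;> fin_cases j <;> simp [m2, m3, mul_apply, Fin.sum_univ_five]

theorem c24 : m2 F * m4 F = m4 F * m2 F := by
  ext i j
  fin_cases i <;> fin_cases j <;> simp [m2, m4, mul_apply, Fin.sum_univ_five]

theorem t12 : m1 F * m2 F * m1 F = m2 F := by
  ext i j
  fin_cases i <;> fin_cases j <;> simp [m1, m2, mul_apply, Fin.sum_univ_five]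

theorem t34 : m3 F * m4 F * m3 F = m4 F := by
  ext i j
  fin_cases i <;> fin_cases j <;> simp [m3, m4, mul_apply, Fin.sum_univ_five]

section

variable (h3 : (3 : F) = 0)
include h3

theorem sq_aux : (1 : F) + 1 = -1 := by linear_combination h3

theorem m2_sq : m2 F * m2 F = m0 F := by
  have h := sq_aux h3
  ext i j
  fin_cases i <;> fin_cases j <;> simp [m2, m0, mul_apply, Fin.sum_univ_five, h]

theorem m4_sq : m4 F * m4 F = m0 F := by
  have h := sq_aux h3
  ext i j
  fin_cases i <;> fin_cases j <;> simp [m4, m0, mul_apply, Fin.sum_univ_five, h]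

theorem two_ne : (2 : F) ≠ 0 := by
  intro h
  apply one_ne_zero (α := F)
  linear_combination h3 - h

/-- the commuting matrices -/
theorem comm_eq {s : Matrix (Fin 5) (Fin 5) F} (e1 : s * m1 F = m1 F * s) (e2 : s * m2 F = m2 F * s)
    (e3 : s * m3 F = m3 F * s) (e4 : s * m4 F = m4 F * s) :
    s = diagonal ![s 0 0, s 0 0, s 0 0, s 0 0, s 4 4] := by
  have h2 := two_ne h3
  have key : ∀ x : F, 2 * x = 0 → x = 0 := fun x hx => (mul_eq_zero.1 hx).resolve_left h2
  replace e1 := fun i j => congrFun (congrFun e1 i) j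
  replace e2 := fun i j => congrFun (congrFun e2 i) j
  replace e3 := fun i j => congrFun (congrFun e3 i) j
  replace e4 := fun i j => congrFun (congrFun e4 i) j
  have a100 := e1 0 0
  simp [m1, mul_apply, Fin.sum_univ_five] at a100
  have a101 := e1 0 1
  simp [m1, mul_apply, Fin.sum_univ_five] at a101
  have a102 := e1 0 2
  simp [m1, mul_apply, Fin.sum_univ_five] at a102
  have a103 := e1 0 3
  simp [m1, mul_apply, Fin.sum_univ_five] at a103
  have a104 := e1 0 4
  simp [m1, mul_apply, Fin.sum_univ_five] at a104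
  have a110 := e1 1 0
  simp [m1, mul_apply, Fin.sum_univ_five] at a110
  have a111 := e1 1 1
  simp [m1, mul_apply, Fin.sum_univ_five] at a111
  have a112 := e1 1 2
  simp [m1, mul_apply, Fin.sum_univ_five] at a112
  have a113 := e1 1 3
  simp [m1, mul_apply, Fin.sum_univ_five] at a113
  have a114 := e1 1 4
  simp [m1, mul_apply, Fin.sum_univ_five] at a114
  have a124 := e1 2 4
  simp [m1, mul_apply, Fin.sum_univ_five] at a124
  have a134 := e1 3 4
  simp [m1, mul_apply, Fin.sum_univ_five] at a134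
  have a140 := e1 4 0
  simp [m1, mul_apply, Fin.sum_univ_five] at a140
  have a141 := e1 4 1
  simp [m1, mul_apply, Fin.sum_univ_five] at a141
  have a142 := e1 4 2
  simp [m1, mul_apply, Fin.sum_univ_five] at a142
  have a143 := e1 4 3
  simp [m1, mul_apply, Fin.sum_univ_five] at a143
  have a200 := e2 0 0
  simp [m2, mul_apply, Fin.sum_univ_five] at a200
  have a201 := e2 0 1
  simp [m2, mul_apply, Fin.sum_univ_five] at a201
  have a210 := e2 1 0
  simp [m2, mul_apply, Fin.sum_univ_five] at a210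
  have a211 := e2 1 1
  simp [m2, mul_apply, Fin.sum_univ_five] at a211
  have a300 := e3 0 0
  simp [m3, mul_apply, Fin.sum_univ_five] at a300
  have a301 := e3 0 1
  simp [m3, mul_apply, Fin.sum_univ_five] at a301
  have a400 := e4 0 0
  simp [m4, mul_apply, Fin.sum_univ_five] at a400
  have b02 : s 0 2 = 0 := key _ (by linear_combination a100 + a200)
  have b20 : s 2 0 = 0 := by rw [← a200, b02]
  have b03 : s 0 3 = 0 := key _ (by linear_combination a101 + a201)
  have b21 : s 2 1 = 0 := by rw [← a201, b03]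
  have b12 : s 1 2 = 0 := key _ (by linear_combination a110 + a210)
  have b30 : s 3 0 = 0 := by rw [← a210, b12]
  have b13 : s 1 3 = 0 := key _ (by linear_combination a111 + a211)
  have b31 : s 3 1 = 0 := by rw [← a211, b13]
  have b04 : s 0 4 = 0 := key _ (by linear_combination a104 - a124)
  have b24 : s 2 4 = 0 := by rw [a124, b04]
  have b14 : s 1 4 = 0 := key _ (by linear_combination a114 - a134)
  have b34 : s 3 4 = 0 := by rw [a134, b14]
  have b40 : s 4 0 = 0 := key _ (by linear_combination - a140 - a142)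
  have b42 : s 4 2 = 0 := by rw [a140, b40]
  have b41 : s 4 1 = 0 := key _ (by linear_combination - a141 - a143)
  have b43 : s 4 3 = 0 := by rw [a141, b41]
  have b01 : s 0 1 = 0 := key _ (by linear_combination a300 + a400)
  have b10 : s 1 0 = 0 := by rw [← a400, b01]
  have b23 : s 2 3 = 0 := by rw [← a103, b01]
  have b32 : s 3 2 = 0 := by rw [← a112, b10]
  have b11 : s 1 1 = s 0 0 := a301.symm
  have b22 : s 2 2 = s 0 0 := a102.symm
  have b33 : s 3 3 = s 0 0 := by rw [← a113, b11]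
  ext i j
  fin_cases i <;> fin_cases j <;>
    simp [b01, b02, b03, b04, b10, b11, b12, b13, b14, b20, b21, b22, b23, b24, b30, b31, b32, b33, b34, b40, b41,
      b42, b43]

end

theorem det_m1 : (m1 F).det = 1 := by
  simp [m1, det_succ_row_zero, Fin.sum_univ_succ, Fin.succAbove]

theorem det_m2 (h3 : (3 : F) = 0) : (m2 F).det = 1 := by
  have h := sq_aux h3
  simp [m2, det_succ_row_zero, Fin.sum_univ_succ, Fin.succAbove]
  linear_combination h3

theorem det_m3 : (m3 F).det = 1 := by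
  simp [m3, det_succ_row_zero, Fin.sum_univ_succ, Fin.succAbove]

theorem det_m4 (h3 : (3 : F) = 0) : (m4 F).det = 1 := by
  have h := sq_aux h3
  simp [m4, det_succ_row_zero, Fin.sum_univ_succ, Fin.succAbove]
  linear_combination h3

theorem pow_four' {G : Type*} [Group G] (x : G) : x ^ 4 = (x * x) * (x * x) := by
  rw [← pow_two, ← pow_two, ← pow_mul]

/-- **`SL₅(3)`** -/
theorem rank_sl_five [Fintype F] (hF : Fintype.card F = 3) : SectionalPRankLE 2 4 (SpecialLinearGroup (Fin 5) F) := by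
  have h3 : (3 : F) = 0 := by
    have h := FiniteField.cast_card_eq_zero F
    rw [hF] at h
    exact_mod_cast h
  have h2 := two_ne h3
  have hsq : ∀ c : F, c ≠ 0 → c = 1 ∨ c = -1 := by
    intro c hc
    have h4 := FiniteField.pow_card_sub_one_eq_one c hc
    rw [hF] at h4
    exact sq_eq_one_iff.1 h4
  have hne : (-1 : F) ≠ 1 := by
    intro h; apply h2; linear_combination -h
  let x₁ : SpecialLinearGroup (Fin 5) F := ⟨m1 F, det_m1⟩
  let y₁ : SpecialLinearGroup (Fin 5) F := ⟨m2 F, det_m2 h3⟩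
  let x₂ : SpecialLinearGroup (Fin 5) F := ⟨m3 F, det_m3⟩
  let y₂ : SpecialLinearGroup (Fin 5) F := ⟨m4 F, det_m4 h3⟩
  have q₁ : x₁ ^ 4 = 1 ∧ y₁ * y₁ = x₁ ^ 2 ∧ x₁ * y₁ = y₁ * x₁⁻¹ := by
    refine ⟨?_, ?_, ?_⟩
    · apply Subtype.ext
      rw [pow_four']
      change (m1 F * m1 F) * (m1 F * m1 F) = 1
      rw [m1_sq, m0_sq]
    · apply Subtype.ext
      rw [pow_two]
      exact (m2_sq h3).trans m1_sq.symm
    · rw [eq_mul_inv_iff_mul_eq]
      exact Subtype.ext t12
  have q₂ : x₂ ^ 4 = 1 ∧ y₂ * y₂ = x₂ ^ 2 ∧ x₂ * y₂ = y₂ * x₂⁻¹ := by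
    refine ⟨?_, ?_, ?_⟩
    · apply Subtype.ext
      rw [pow_four']
      change (m3 F * m3 F) * (m3 F * m3 F) = 1
      rw [m3_sq, m0_sq]
    · apply Subtype.ext
      rw [pow_two]
      exact (m4_sq h3).trans m3_sq.symm
    · rw [eq_mul_inv_iff_mul_eq]
      exact Subtype.ext t34
  let f₀ : Q8 →* SpecialLinearGroup (Fin 5) F := qhom x₁ y₁ q₁.1 q₁.2.1 q₁.2.2
  let g₀ : Q8 →* SpecialLinearGroup (Fin 5) F := qhom x₂ y₂ q₂.1 q₂.2.1 q₂.2.2
  have hf₀ : (f₀ zz).1 = m0 F := by
    have h : f₀ zz = x₁ * x₁ := by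
      change x₁ ^ (2 : ZMod (2 * 2)).val = _
      rw [show (2 : ZMod (2 * 2)).val = 2 from rfl, pow_two]
    rw [h]
    exact m1_sq
  have hg₀ : (g₀ zz).1 = m0 F := by
    have h : g₀ zz = x₂ * x₂ := by
      change x₂ ^ (2 : ZMod (2 * 2)).val = _
      rw [show (2 : ZMod (2 * 2)).val = 2 from rfl, pow_two]
    rw [h]
    exact m3_sq
  have hm0 : m0 F ≠ 1 := by
    intro h
    have h4 := congrFun (congrFun h 0) 0
    simp [m0] at h4
    exact hne h4
  have ex₁ : f₀ (.a 1) = x₁ := by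
    change x₁ ^ (1 : ZMod (2 * 2)).val = _
    rw [show (1 : ZMod (2 * 2)).val = 1 from rfl, pow_one]
  have ey₁ : f₀ (.xa 0) = y₁ := by
    change y₁ * x₁ ^ (0 : ZMod (2 * 2)).val = _
    rw [ZMod.val_zero, pow_zero, mul_one]
  have ex₂ : g₀ (.a 1) = x₂ := by
    change x₂ ^ (1 : ZMod (2 * 2)).val = _
    rw [show (1 : ZMod (2 * 2)).val = 1 from rfl, pow_one]
  have ey₂ : g₀ (.xa 0) = y₂ := by
    change y₂ * x₂ ^ (0 : ZMod (2 * 2)).val = _
    rw [ZMod.val_zero, pow_zero, mul_one]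
  refine Cfsg.Agent.H815.RankL4.rank_of_quat f₀ g₀ (injective_of fun h => ?_) (injective_of fun h => ?_) ?_ ?_ ?_
  · rw [h] at hf₀
    exact hm0 hf₀.symm
  · rw [h] at hg₀
    exact hm0 hg₀.symm
  · exact qhom_commute (Subtype.ext c13) (Subtype.ext c14) (Subtype.ext c23) (Subtype.ext c24)
  · exact Subtype.ext (hf₀.trans hg₀.symm)
  · intro s hs1 hs2 _
    have e1 := hs1 (.a 1)
    have e2 := hs1 (.xa 0)
    have e3 := hs2 (.a 1)
    have e4 := hs2 (.xa 0)
    rw [ex₁] at e1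
    rw [ey₁] at e2
    rw [ex₂] at e3
    rw [ey₂] at e4
    have hs := comm_eq h3 (s := s.1) (congrArg Subtype.val e1) (congrArg Subtype.val e2) (congrArg Subtype.val e3)
      (congrArg Subtype.val e4)
    obtain ⟨c, hc⟩ : ∃ c, c = s.1 0 0 := ⟨_, rfl⟩
    obtain ⟨d, hd⟩ : ∃ d, d = s.1 4 4 := ⟨_, rfl⟩
    rw [← hc, ← hd] at hs
    have hdet := s.2
    rw [hs, det_diagonal, Fin.prod_univ_five] at hdet
    have hdet' : c * c * c * c * d = 1 := hdet
    have hc0 : c ≠ 0 := by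
      rintro rfl
      simp at hdet'
    rcases hsq c hc0 with h | h
    · refine ⟨1, 1, ?_⟩
      rw [map_one, map_one, mul_one]
      apply Subtype.ext
      rw [hs]
      have hd1 : d = 1 := by rw [h] at hdet'; simpa using hdet'
      rw [h, hd1]
      change _ = (1 : Matrix (Fin 5) (Fin 5) F)
      rw [← diagonal_one]
      congr 1
      ext i
      fin_cases i <;> rfl
    · refine ⟨zz, 1, ?_⟩
      rw [map_one, mul_one]
      apply Subtype.ext
      rw [hs, hf₀]
      have hd1 : d = 1 := by rw [h] at hdet'; simpa using hdet'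
      rw [h, hd1]
      rfl

/-- **`L₅(3)`** -/
theorem rank_psl_five [Fintype F] (hF : Fintype.card F = 3) : SectionalPRankLE 2 4 (ProjectiveSpecialLinearGroup (Fin 5) F) :=
  GH.Rank.of_quotient (rank_sl_five hF) _

end Cfsg.Agent.H294.RankL5
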