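import Cfsg.Agent.H294.ClRow
import Cfsg.Agent.H294.RankL5
import Cfsg.Agent.H815.RankL4Inst
import Cfsg.Agent.H815.RankG2
import Cfsg.Agent.H300.RankSp4
import Cfsg.Agent.H284.SepOrd
import Cfsg.Agent.OrdDiv.Table
/-!
# Simple groups of Lie type in odd characteristic: a quasisimple `A` of order 25920 (helper294)
-/

set_option autoImplicit false
set_option linter.unusedSectionVars false

namespace Cfsg.Agent.H294.OddRow

open Subgroup Cfsg Cfsg.Agent.H293 Cfsg.Agent.H340 Cfsg.Agent.H294.ClRow Cfsg.Agent.H284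

universe u v

theorem no_seven {p : ℕ} (hp : p.Prime) (hp2 : p ≠ 2) (h : p ^ 7 ∣ 51840) : False := by
  have h1 : (51840 : ℕ) = 2 ^ 7 * 405 := by norm_num
  rw [h1] at h
  have h2 : p ^ 7 ∣ 405 := Nat.Coprime.dvd_of_dvd_mul_left (Nat.Coprime.pow _ _ ((Nat.coprime_primes hp Nat.prime_two).2 hp2)) h
  have h3 := Nat.le_of_dvd (by norm_num) h2
  have h4 : 3 ≤ p := by
    have := hp.two_le
    omega
  have h5 : 3 ^ 7 ≤ p ^ 7 := Nat.pow_le_pow_left h4 7
  norm_num at h5
  omega

/-- the order 25920 and the odd characteristic `p` -/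
theorem eq_three {p : ℕ} (hp : p.Prime) (hp2 : p ≠ 2) {S : Type u} [Group S] (h : IsLieTypeChar p S)
    (hc : Nat.card S = 25920) : p = 3 := by
  by_contra hne
  obtain ⟨X, f, hX⟩ := SepOrd.real_of_lie (Cfsg.Agent.OrdDiv.table.{u}) hp h
  rw [hc] at hX
  exact SepOrd.chk_real hX SepOrd.chk_25920 hp2 (by rw [List.mem_singleton]; exact hne)

/-- **Odd characteristic.** -/
theorem odd_row {X : Type u} [Group X] [Finite X] [IsSimpleGroup X] {p : ℕ} (hp : p.Prime) (hp2 : p ≠ 2)
    (hX : IsLieTypeChar p X) {α : MulAut X} {A : Subgroup X} (h : Cfg α A) (hZ : center ↥A = ⊥)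
    (hA : Nat.card ↥A = 25920) (hn : Nat.card (MulAut (↥A ⧸ center ↥A)) ∣ 51840) :
    SectionalPRankLE 2 4 X ∨
      (∃ (F : Type) (_ : Field F) (_ : Fintype F), Fintype.card F = 9 ∧ Nonempty (X ≃* PSU 5 F 3)) ∨ Rho α A := by
  have hcl : IsClassicalChar p X ∨ (IsExceptionalChevChar p X ∨ IsTwistedE6D4Char p X) ∨ Lie.IsoRee X := by
    unfold IsClassicalChar
    rcases hX with h | h | h | h | h | h | h | h | ⟨h, -⟩ | ⟨h, -⟩ | ⟨-, h⟩
    · exact Or.inl (Or.inl h)
    · exact Or.inl (Or.inr (Or.inl h))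
    · exact Or.inl (Or.inr (Or.inr (Or.inl h)))
    · exact Or.inl (Or.inr (Or.inr (Or.inr (Or.inl h))))
    · exact Or.inl (Or.inr (Or.inr (Or.inr (Or.inr (Or.inl h)))))
    · exact Or.inl (Or.inr (Or.inr (Or.inr (Or.inr (Or.inr h)))))
    · exact Or.inr (Or.inl (Or.inl h))
    · exact Or.inr (Or.inl (Or.inr h))
    · exact absurd h hp2
    · exact absurd h hp2
    · exact Or.inr (Or.inr h)
  rcases hcl with hX | hX | hX
  · have hp3 : p = 3 := by
      have hcf : CF.{u} (fun S _ => IsLieTypeChar p S) ↥(fixedSubgroup α) := cf_lie_of_classical hp hp2 hX α h.sq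
      have hn : (A.subgroupOf (fixedSubgroup α)).Normal := by
        refine ⟨fun x hx g => ?_⟩
        rw [mem_subgroupOf] at hx ⊢
        exact h.nrm g g.2 _ hx
      let e : ↥(A.subgroupOf (fixedSubgroup α)) ≃* ↥A := subgroupOfEquivOfLe h.le
      have hq := Cfsg.Agent.SignalizersComponents.LayerBasic.quasisimple_congr e.symm h.qs
      have h1 := hcf.component (Subgroup.Normal.isSubnormal hn) hq.2 hq.1.commutator_eq_top
      refine eq_three hp hp2 h1 ?_
      have h2 : Nat.card (↥(A.subgroupOf (fixedSubgroup α)) ⧸ center ↥(A.subgroupOf (fixedSubgroup α))) =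
          Nat.card (↥A ⧸ center ↥A) := by
        have h3 := card_eq_card_quotient_mul_card_subgroup (center ↥(A.subgroupOf (fixedSubgroup α)))
        have h4 := card_eq_card_quotient_mul_card_subgroup (center ↥A)
        have h5 := Nat.card_congr (Subgroup.centerCongr e).toEquiv
        rw [Nat.card_congr e.toEquiv, h4, h5] at h3
        exact (Nat.eq_of_mul_eq_mul_right Nat.card_pos h3).symm
      rw [h2]
      exact quot_card hZ hA
    subst hp3
    rcases cl_row hX h hZ hA with ⟨F, i1, i2, i3, ⟨e⟩⟩ | ⟨F, i1, i2, n, hF, rfl | rfl, ⟨e⟩⟩ |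
      ⟨F, i1, i2, n, hF, rfl | rfl, ⟨e⟩⟩ | h1
    · left
      have : Fact (Nat.Prime 3) := ⟨Nat.prime_three⟩
      obtain ⟨f, hf, hF⟩ := Cfg.card_pow (K := F) (p := 3)
      exact GH.Rank.of_equiv (Cfsg.Agent.H300.RankSp4.rank_psp (by rw [hF]; exact Odd.pow (by decide))) e.symm
    · left
      exact GH.Rank.of_equiv (Cfsg.Agent.H815.RankL4.rank_psl_four (by rw [hF]; decide) (by rw [hF]; decide)) e.symm
    · left
      exact GH.Rank.of_equiv (RankL5.rank_psl_five hF) e.symm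
    · left
      exact GH.Rank.of_equiv (Cfsg.Agent.H815.RankL4.rank_psu_four (by rw [hF]; norm_num) (by decide) (by decide)) e.symm
    · right; left
      exact ⟨F, i1, i2, hF, ⟨e⟩⟩
    · exact Or.inr (Or.inr h1)
  · left
    rcases h.exc_cases hp hp2 hX with h7 | ⟨K, _, _, _, hK3, ⟨f⟩, hK⟩ | ⟨K, _, _, _, q, hq, hK, ⟨f⟩, hq4⟩
    · exact (no_seven hp hp2 (h7.trans hn)).elim
    · have : Fact p.Prime := ⟨hp⟩
      obtain ⟨m, hm, hKm⟩ := Cfg.card_pow (K := K) (p := p)
      exact GH.Rank.of_equiv (Cfsg.Agent.H815.RankG2.rank_g2 (by rw [hKm]; exact (hp.odd_of_ne_two hp2).pow)) f.symm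
    · have : Fact p.Prime := ⟨hp⟩
      obtain ⟨m, hm, hKm⟩ := Cfg.card_pow (K := K) (p := p)
      have hodd : Odd (Fintype.card K) := by rw [hKm]; exact (hp.odd_of_ne_two hp2).pow
      have hqo : Odd q := by
        rw [hK] at hodd
        exact (Nat.odd_pow_iff (by norm_num)).1 hodd
      exact GH.Rank.of_equiv (Cfsg.Agent.H815.RankG2.rank_d4 hqo hK) f.symm
  · left
    exact Cfsg.Agent.H815.RankG2.rank_ree hX

end Cfsg.Agent.H294.OddRow
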