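import Cfsg.Agent.H294.EvenRow
import Cfsg.Agent.H294.OddRow
import Cfsg.Agent.H293.Bridge
import Cfsg.Agent.H284.AltComp
import Cfsg.Agent.OddHalf.Known
import Cfsg.Agent.ClassicalGeometry.PSUAutMain
import Cfsg.Agent.ClassicalGeometry.PSUAutCount
import Cfsg.Agent.LieClassical.FieldTransfer
import Cfsg.Agent.H293.G2Std
import Cfsg.Agent.S0283
/-!
# The simple group `N` of the reduced configuration for a standard subgroup `U₄(2)` (helper294)
-/

set_option autoImplicit false
set_option linter.unusedSectionVars false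

namespace Cfsg.Agent.H294.ConfCases

open Subgroup Cfsg Cfsg.Agent.H293 Cfsg.Agent.H293.StdOdd Cfsg.Agent.StdL2.Setup Cfsg.Agent.H293.Bridge

universe u v

theorem exists_field {F : Type v} [Field F] [Fintype F] (hF : Fintype.card F = 4) :
    ∃ (E : Type) (_ : Field E) (_ : Fintype E), Fintype.card E = 4 ∧ Nonempty (PSU 4 F 2 ≃* PSU 4 E 2) := by
  let _ : Fintype (GaloisField 2 2) := Fintype.ofFinite _
  have hE : Fintype.card (GaloisField 2 2) = 4 := by
    rw [← Nat.card_eq_fintype_card, GaloisField.card 2 2 (by omega)]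
    norm_num
  exact ⟨GaloisField 2 2, inferInstance, inferInstance, hE,
    ⟨Cfsg.Agent.LieClassical.FieldTransfer.psuCongr 4 2 (FiniteField.ringEquivOfCardEq (by rw [hF, hE]))⟩⟩

theorem card_u {F : Type v} [Field F] [Fintype F] (hF : Fintype.card F = 4) : Nat.card (PSU 4 F 2) = 25920 := by
  obtain ⟨E, i1, i2, hE, ⟨e⟩⟩ := exists_field hF
  rw [Nat.card_congr e.toEquiv]
  have h1 := Cfsg.Agent.H902.Names.psu_real (F := E) (n := 4) Nat.prime_two le_rfl (by rw [hE]; norm_num) (by norm_num)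
    (by norm_num)
  rw [pow_one] at h1
  obtain ⟨-, -, -, h2⟩ := h1
  norm_num [Cfsg.Agent.H902.Art.dd, Cfsg.Agent.H902.Art.NN, Cfsg.Agent.H902.Art.num, Finset.prod_range_succ] at h2
  exact h2

theorem card_aut {F : Type v} [Field F] [Fintype F] (hF : Fintype.card F = 4) :
    Nat.card (MulAut (PSU 4 F 2)) = 2 * Nat.card (PSU 4 F 2) := by
  have hp : Fact (Nat.Prime 2) := ⟨Nat.prime_two⟩
  have hF' : Fintype.card F = 2 ^ 2 := by rw [hF]; norm_num
  have h1 := Cfsg.Agent.ClassicalGeometry.PSUAutCount.card_mulAut_of (n := 4) (q := 2) (p := 2) (f := 1) hF' (by norm_num)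
    Nat.prime_two le_rfl (by norm_num) (Cfsg.Agent.ClassicalGeometry.PSUAutMain.exists_toAut hF' (by norm_num) (by norm_num))
  rw [h1]
  norm_num

theorem simple_u {F : Type v} [Field F] [Fintype F] (hF : Fintype.card F = 4) : IsSimpleGroup (PSU 4 F 2) :=
  Cfsg.Agent.S0283.result (by rw [hF]; norm_num) 4 (by norm_num) (by omega)

theorem nc_u {F : Type v} [Field F] [Fintype F] (hF : Fintype.card F = 4) : ¬ IsMulCommutative (PSU 4 F 2) := by
  intro hc
  have := simple_u hF
  have h1 : (Nat.card (PSU 4 F 2)).Prime := by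
    let _ : CommGroup (PSU 4 F 2) := { (inferInstance : Group (PSU 4 F 2)) with mul_comm := hc.1.1 }
    exact IsSimpleGroup.prime_card
  rw [card_u hF] at h1
  norm_num at h1

theorem center_of {A : Type u} [Group A] {F : Type v} [Field F] [Fintype F] (hF : Fintype.card F = 4)
    (e : A ≃* PSU 4 F 2) : center A = ⊥ :=
  Cfsg.Agent.H293.G2Odd.center_eq_bot (Cfsg.Agent.H293.G2Std.simple_congr e.symm (simple_u hF))
    (Cfsg.Agent.H293.G2Std.nc_congr e.symm (nc_u hF))

theorem card_aut_congr {A : Type u} {B : Type v} [Group A] [Group B] (e : A ≃* B) :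
    Nat.card (MulAut A) = Nat.card (MulAut B) := Nat.card_congr (MulAut.congr e).toEquiv

/-- alternating groups -/
theorem alt_row {X : Type u} [Group X] (hX : IsAlternating X) {x : MulAut X} (hx : x * x = 1) (hx1 : x ≠ 1)
    {A : Subgroup ↥(fixedSubgroup x)} (hA : IsComponent A) (hc : Nat.card ↥A = 25920) : False := by
  obtain ⟨m, hm, ⟨f⟩⟩ := hX
  obtain ⟨n, k, hn, -, -, ⟨g⟩, -⟩ := H284.AltComp.table hm f hx hx1 hA
  have h1 : 2 * Nat.card ↥(alternatingGroup (Fin n)) = n.factorial := by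
    have : Nontrivial (Fin n) := Fin.nontrivial_iff_two_le.2 (by omega)
    rw [Nat.card_eq_fintype_card, two_mul_card_alternatingGroup, Fintype.card_perm, Fintype.card_fin]
  rw [← Nat.card_congr g.toEquiv, hc] at h1
  rcases Nat.lt_or_ge n 9 with h9 | h9
  · interval_cases n <;> simp [Nat.factorial] at h1
  · have h10 := Nat.factorial_le h9
    have h11 : Nat.factorial 9 = 362880 := rfl
    omega

/-- the sporadic row -/
def SporRow : Prop := ∀ {X : Type u} [Group X] [Finite X] [IsSimpleGroup X], (IsSporadicGroup X ∨ Lie.IsoTits X) →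
  ∀ {x : MulAut X}, x * x = 1 → x ≠ 1 → ∀ {A : Subgroup ↥(fixedSubgroup x)}, IsComponent A → Nat.card ↥A = 25920 →
  ∀ {F : Type v} [Field F] [Fintype F], Fintype.card F = 4 → (↥A ≃* PSU 4 F 2) → False

/-- **The cases.** -/
theorem conf_cases (hSp : SporRow.{u, v}) {H : Type u} [Group H] [Finite H] {N A : Subgroup H} {t : H} (C : Conf N A t)
    {F : Type v} [Field F] [Fintype F] (hF : Fintype.card F = 4) (e : ↥A ≃* PSU 4 F 2) (hK : IsKnownSimple' ↥N) :
    SectionalPRankLE 2 4 ↥N ∨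
    (∃ (E : Type) (_ : Field E) (_ : Fintype E), Fintype.card E = 4 ∧
      Nonempty (↥N ≃* Matrix.ProjectiveSpecialLinearGroup (Fin 4) E)) ∨
    (∃ (E : Type) (_ : Field E) (_ : Fintype E), Fintype.card E = 9 ∧ Nonempty (↥N ≃* PSU 5 E 3)) := by
  have hs : IsSimpleGroup ↥N := C.simple
  have h := cfg C
  obtain ⟨A', hA'⟩ : ∃ A' : Subgroup ↥N, A' = A.subgroupOf N := ⟨_, rfl⟩
  rw [← hA'] at h
  have e' : ↥A' ≃* PSU 4 F 2 := by
    rw [hA']
    exact (subgroupOfEquivOfLe C.le).trans e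
  have hc : Nat.card ↥A' = 25920 := (Nat.card_congr e'.toEquiv).trans (card_u hF)
  obtain ⟨B, hB⟩ : ∃ B : Subgroup ↥(fixedSubgroup (al C)), B = A'.subgroupOf (fixedSubgroup (al C)) := ⟨_, rfl⟩
  have eB : ↥B ≃* ↥A' := by
    rw [hB]
    exact subgroupOfEquivOfLe h.le
  have hBn : B.Normal := by
    rw [hB]
    refine ⟨fun x hx g => ?_⟩
    rw [mem_subgroupOf] at hx ⊢
    exact h.nrm g g.2 _ hx
  have hcomp : IsComponent B :=
    ⟨Subgroup.Normal.isSubnormal hBn, Cfsg.Agent.SignalizersComponents.LayerBasic.quasisimple_congr eB.symm h.qs⟩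
  have hcB : Nat.card ↥B = 25920 := (Nat.card_congr eB.toEquiv).trans hc
  have hZ : center ↥A' = ⊥ := center_of hF e'
  rcases OddHalf.Known.classify C.not_comm hK with h1 | ⟨p, hp, hp2, h1⟩ | (h1 | h1) | h1
  · exact (alt_row h1 h.sq h.ne hcomp hcB).elim
  · have hn : Nat.card (MulAut (↥A' ⧸ center ↥A')) ∣ 51840 := by
      rw [card_aut_congr ((Cfsg.Agent.H293.G2Odd.quotBot hZ).trans e'), card_aut hF, card_u hF]
    rcases OddRow.odd_row hp hp2 h1 h hZ hc hn with h2 | h2 | ⟨ρ, r1, r2, r3, r4, r5⟩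
    · exact Or.inl h2
    · exact Or.inr (Or.inr h2)
    · exfalso
      have hy : Hyp A := ⟨C.std, C.cyc⟩
      rw [hA', mem_cent_sub C] at r1
      rw [mem_fix C] at r2
      have ht1 : t ≠ 1 := by
        intro h3
        have h4 := C.ht
        rw [h3, orderOf_one] at h4
        exact absurd h4 (by norm_num)
      have h3 := hy.eq_of_comm r1 C.htA (fun h4 => r4 (Subtype.ext h4)) ht1 (congrArg Subtype.val r3) (tt C) r2
      apply r5
      ext y
      rw [al_apply, MulAut.conj_apply]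
      change (ρ : H) * y * (ρ : H)⁻¹ = _
      rw [h3]
  · right; left
    exact EvenRow.even_row C.not_comm h1 h.sq h.ne hcomp hcB hF (eB.trans e')
  · exact (hSp (Or.inr h1) h.sq h.ne hcomp hcB hF (eB.trans e')).elim
  · exact (hSp (Or.inl h1) h.sq h.ne hcomp hcB hF (eB.trans e')).elim

end Cfsg.Agent.H294.ConfCases
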