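import Cfsg.Agent.StdRank2.End.HexAsm
import Cfsg.Agent.TriTwo.CoreTwo
import Cfsg.Agent.S1770
import Cfsg.Agent.Hexagon.D4Field
import Cfsg.Agent.H294.Mvd

/-!
# Standard subgroups of type `³D₄(q)`, `G₂(q)`, `q` even: the exact conclusion for the reduced configuration

`Conf L A t` (`StdL2.Setup`).  `Moved A t`: some element of `G` interchanges `t` and `t z`, `z` an involution of `A`.
* `d4_exact`: `A / Z(A) ≅ ³D₄(2^a)`: `t ∉ L`, `Moved A t` and `L ≅ ³D₄(4^a)`;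
* `g2_exact`: `A / Z(A) ≅ G₂(2^a)`, `a ≥ 2`: `t ∉ L`, `Moved A t` and `L ≅ G₂(4^a)`.
-/

set_option autoImplicit false

namespace Cfsg.Agent.H294.CoreHex

open Cfsg Subgroup Cfsg.Agent.StdRank2.Hex Cfsg.Agent.SplitTwo Cfsg.Agent.StdEven.Syl
open Cfsg.Agent.StdEven.CoreQuot Cfsg.Agent.StdEven.Loc Cfsg.Agent.StdL2.Setup Cfsg.Agent.StdEven.Red
open Cfsg.Agent.StdRank2.Hex.HexTwo
open Cfsg.Agent.HexGrow.Defs (Grown)
open Cfsg.Agent.HexGrow.OfHexTwo (XX)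
open Cfsg.Agent.HexToX Cfsg.Agent.HexEight.ToPos Cfsg.Agent.StdRank2.End.HexLie
open Cfsg.Agent.H294.Mvd (Moved)

universe u v

section

variable {E : Type*} [Field E] [Finite E] {σ : E ≃+* E} {G : Type u} [Group G] [Finite G] {x : ZMod 12 → E → G}

theorem moved (h : HexTwo σ x) {ω : E} (hω : σ ω = ω) (h0 : ω ≠ 0) (h1 : ω ≠ 1) {L : Subgroup G} {t : G}
    (C : Conf L (AA σ x) t) : Moved (AA σ x) t := by
  obtain ⟨x', T, h', hA, -, -, -, -, -, g, -, -, -, z, hz, hz1, -, hgt, hgz⟩ := HexStart.exists_start h C hω h0 h1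
  obtain ⟨a, ha, rfl⟩ := h'.mem_gen_singleton.1 hz
  refine ⟨_, ?_, hz1, h'.x_sq ha, g, hgt, hgz⟩
  rw [← hA]
  exact x_mem_AA ha

end

/-- from the Sylow 2-subgroup to the group -/
theorem equiv_3D4 {G : Type u} [Group G] [Finite G] {S L : Subgroup G} (hs : IsSimpleGroup ↥L) (hS : IsSyl S L) {r : ℕ}
    (hr : 1 ≤ r) (e : Syl3D4 r ↥S) (K : Type) [Field K] [Fintype K] (hK : Fintype.card K = 8 ^ r) :
    Nonempty (↥L ≃* ↥(Cfsg.Lie.twistedD4 K (2 ^ r))) := by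
  obtain ⟨f⟩ := equiv_toSylow hS
  obtain ⟨P⟩ : Nonempty (Sylow 2 ↥(Cfsg.Lie.twistedD4 K (2 ^ r))) := inferInstance
  exact (Cfsg.Agent.S1770.result hS.toSylow r).2 K hr hK P ((e _ hK P).map f.trans)

/-- from the Sylow 2-subgroup to the group -/
theorem equiv_G2 {G : Type u} [Group G] [Finite G] {S L : Subgroup G} (hs : IsSimpleGroup ↥L) (hS : IsSyl S L) {r : ℕ}
    (hr : 2 ≤ r) (e : SylG2 r ↥S) (K : Type) [Field K] [Fintype K] (hK : Fintype.card K = 2 ^ r) :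
    Nonempty (↥L ≃* ↥(Cfsg.Lie.chevG2.group K)) := by
  obtain ⟨f⟩ := equiv_toSylow hS
  obtain ⟨P⟩ : Nonempty (Sylow 2 ↥(Cfsg.Lie.chevG2.group K)) := inferInstance
  exact (Cfsg.Agent.S1770.result hS.toSylow r).1 K hr hK P ((e _ hK P).map f.trans)

/-- the exact conclusion for type `³D₄` -/
def ConclD4 {G : Type*} [Group G] (L A : Subgroup G) (t : G) (a : ℕ) : Prop :=
  t ∉ L ∧ Moved A t ∧ ∀ (K : Type) [Field K] [Fintype K], Fintype.card K = 8 ^ (2 * a) →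
    Nonempty (↥L ≃* ↥(Cfsg.Lie.twistedD4 K (2 ^ (2 * a))))

/-- the exact conclusion for type `G₂` -/
def ConclG2 {G : Type*} [Group G] (L A : Subgroup G) (t : G) (a : ℕ) : Prop :=
  t ∉ L ∧ Moved A t ∧ ∀ (K : Type) [Field K] [Fintype K], Fintype.card K = 2 ^ (2 * a) →
    Nonempty (↥L ≃* ↥(Cfsg.Lie.chevG2.group K))

/-- **Type `G₂(q)`, `q ≥ 4`.** -/
theorem g2_exact {G : Type u} [Group G] [Finite G] {L A : Subgroup G} {t : G} (C : Conf L A t)
    (hZ : Odd (Nat.card ↥(center ↥A))) {F : Type} [Field F] [Fintype F] {a : ℕ} (ha : 2 ≤ a)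
    (hc : Fintype.card F = 2 ^ a) (e : (↥A ⧸ center ↥A) ≃* ↥(Cfsg.Lie.chevG2.group F)) : ConclG2 L A t a := by
  obtain ⟨x, hx, rfl⟩ := HexModel.Main.of_G2 A hc hZ C.std.1.1.commutator_eq_top e
  obtain ⟨ω, h0, h1⟩ : ∃ ω : F, ω ≠ 0 ∧ ω ≠ 1 := by
    by_contra hcon
    push Not at hcon
    have h2 : Fintype.card F ≤ 2 := by
      classical
      have h3 : (Finset.univ : Finset F) ⊆ {0, 1} := fun w _ => by
        by_cases hw : w = 0
        · simp [hw]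
        · simp [hcon w hw]
      calc Fintype.card F = (Finset.univ : Finset F).card := rfl
        _ ≤ ({0, 1} : Finset F).card := Finset.card_le_card h3
        _ ≤ 2 := Finset.card_le_two
    have h4 : 2 ^ 2 ≤ 2 ^ a := Nat.pow_le_pow_right (by norm_num) ha
    omega
  obtain ⟨S, hS, htL, f1, -⟩ := Cfsg.Agent.StdRank2.End.HexAsm.asm hx (ω := ω) rfl h0 h1 C
  refine ⟨htL, moved hx rfl h0 h1 C, fun K _ _ hK => ?_⟩
  exact equiv_G2 C.simple hS (r := 2 * a) (by omega) (f1 (fun _ => rfl) (by rw [Nat.card_eq_fintype_card, hc])) K hK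

/-- **Type `³D₄(q)`, `q ≥ 4`.** -/
theorem d4_exact_big {G : Type u} [Group G] [Finite G] {L A : Subgroup G} {t : G} (C : Conf L A t)
    (hZ : Odd (Nat.card ↥(center ↥A))) {K : Type} [Field K] [Fintype K] {a : ℕ} (ha : 2 ≤ a)
    (hc : Fintype.card K = 8 ^ a) (e : (↥A ⧸ center ↥A) ≃* ↥(Cfsg.Lie.twistedD4 K (2 ^ a))) : ConclD4 L A t a := by
  obtain ⟨σ, x, hσ, -, -, hf, hx, rfl⟩ := HexModel.Main.of_D4 A (by omega) hc hZ C.std.1.1.commutator_eq_top e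
  obtain ⟨ω, hω, h0, h1⟩ : ∃ ω : K, σ ω = ω ∧ ω ≠ 0 ∧ ω ≠ 1 := by
    by_contra hcon
    push Not at hcon
    have h2 : Nat.card {c : K // σ c = c} ≤ 2 := by
      classical
      let f : {c : K // σ c = c} → Bool := fun c => if c.1 = 0 then true else false
      have hinj : Function.Injective f := by
        rintro ⟨c, hc⟩ ⟨d, hd⟩ h
        have h3 : (c = 0 ↔ d = 0) := by
          by_cases hc0 : c = 0 <;> by_cases hd0 : d = 0 <;> simp [f, hc0, hd0] at h ⊢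
        apply Subtype.ext
        show c = d
        by_cases hc0 : c = 0
        · rw [hc0, h3.1 hc0]
        · rw [hcon c hc hc0, hcon d hd (fun hd0 => hc0 (h3.2 hd0))]
      have := Nat.card_le_card_of_injective f hinj
      simpa using this
    have h4 : 2 ^ 2 ≤ 2 ^ a := Nat.pow_le_pow_right (by norm_num) ha
    omega
  obtain ⟨S, hS, htL, -, f2⟩ := Cfsg.Agent.StdRank2.End.HexAsm.asm hx hω h0 h1 C
  refine ⟨htL, moved hx hω h0 h1 C, fun K' _ _ hK => ?_⟩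
  exact equiv_3D4 C.simple hS (r := 2 * a) (by omega) (f2 hσ (by rw [Nat.card_eq_fintype_card, hc])) K' hK

section two

open Cfsg.Agent.TriTwo.Bridge Cfsg.Agent.TriTwo.Rec Cfsg.Agent.TriTwo Cfsg.Agent.TriTwo.CoreTwo

/-- **Type `³D₄(2)`.** -/
theorem d4_exact_two {G : Type u} [Group G] [Finite G] {L A : Subgroup G} {t : G} (C : Conf L A t)
    (hZ : Odd (Nat.card ↥(center ↥A))) {K : Type} [Field K] [Fintype K]
    (hK : Fintype.card K = 8) (e : (↥A ⧸ center ↥A) ≃* ↥(Cfsg.Lie.twistedD4 K 2)) : ConclD4 L A t 1 := by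
  have hp : commutator ↥A = ⊤ := C.std.1.1.commutator_eq_top
  obtain ⟨σ, x, hσ, h3, hne, hfix, hx, hA⟩ := HexModel.Main.of_D4 A (a := 1) le_rfl (by rw [hK]; norm_num) hZ hp
    (by rw [pow_one]; exact e)
  have hc : Nat.card K = 8 := by rw [Nat.card_eq_fintype_card, hK]
  have hf : ∀ a, σ a = a → a = 0 ∨ a = 1 := fix_of_card (by rw [hfix]; norm_num)
  have h1770 : Rec1770.{u} := fun _ _ _ _ S r => (Cfsg.Agent.S1770.result S r).2
  obtain ⟨T, H, hTA, -, g, -, -, hgt, hgz⟩ := exists_hyp C hZ hx hA.symm hc hf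
    (rec_card h1770 C hx hA.symm hc hf hK e)
  subst hA
  have v := env hx hc hf H hTA hgt hgz
  obtain ⟨V, W, gr⟩ := Chain.exists_gr v
  obtain ⟨-, hS⟩ := exists_hex hx hc hf H
  have hAA : im (AA σ x) t (AA σ x) = AA σ (Cfsg.Agent.TriTwo.Bridge.xX (AA σ x) t x) := hS Set.univ
  obtain ⟨s, hs0, hs1⟩ := PF.exists_unit v.hex hc
  have hLn := C.normal
  have hN : (im (AA σ x) t L).Normal := by
    constructor
    intro n hn y
    obtain ⟨l, hl, rfl⟩ := mem_im.mp hn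
    obtain ⟨m, rfl⟩ := pr_surjective (AA σ x) t y
    rw [← map_inv, ← map_mul, ← map_mul]
    exact pr_mem_im (hLn.conj_mem _ hl _)
  have hSL : HexGrow.Defs.UU V 1 ≤ im (AA σ x) t L := InL.UU_le v.hex ⟨s, hs0, hs1⟩ v.tx W
    (fun r y => v.hex.mem_gen_singleton) hN (by rw [← hAA]; exact im_mono C.le) 1
  obtain ⟨S, hSy, htL, hSN, hSi, ⟨f⟩, -⟩ := StdEven.EndLift.main C H (EndX.endX hx hc hf H hTA W) hSL
  have hmv : Moved (AA σ x) t := ⟨x 4 1, x_mem_AA (ok_one σ _), fun e => one_ne_zero (hx.inj 4 1 (ok_one σ _) e),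
    hx.x_sq (ok_one σ _), g, hgt, hgz⟩
  refine ⟨htL, hmv, fun K' _ _ hK' => ?_⟩
  rcases split_or gr hc hf (fun a => by rw [hσ, pow_one]) with ⟨S₁, S₂, D₁, D₂, hd⟩ | hfield
  · exfalso
    exact WreathFusion.false_of_im C H hSy hSN (by rw [hSi]; exact hd)
  · obtain ⟨P⟩ : Nonempty (Sylow 2 ↥(Cfsg.Lie.twistedD4 K' (2 ^ 2))) := inferInstance
    obtain ⟨k⟩ := hfield K' (by rw [hK']; norm_num) P
    have hsimple := C.simple
    have e1 : ↥((hSy.toSylow : Sylow 2 ↥L) : Subgroup ↥L) ≃* ↥S := subgroupOfEquivOfLe hSy.le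
    exact h1770 ↥L hSy.toSylow 2 K' (by norm_num) (by rw [hK']) P ⟨(e1.trans f).trans k⟩

end two

/-- **Type `³D₄(q)`.** -/
theorem d4_exact {G : Type u} [Group G] [Finite G] {L A : Subgroup G} {t : G} (C : Conf L A t)
    (hZ : Odd (Nat.card ↥(center ↥A))) {K : Type} [Field K] [Fintype K] {a : ℕ} (ha : 1 ≤ a)
    (hc : Fintype.card K = 8 ^ a) (e : (↥A ⧸ center ↥A) ≃* ↥(Cfsg.Lie.twistedD4 K (2 ^ a))) : ConclD4 L A t a := by
  rcases Nat.lt_or_ge a 2 with h | h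
  · obtain rfl : a = 1 := by omega
    exact d4_exact_two C hZ (by simpa using hc) (by simpa using e)
  · exact d4_exact_big C hZ h hc e

end Cfsg.Agent.H294.CoreHex
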