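import Cfsg.Agent.H294.SpThree
import Cfsg.Agent.H294.OddRow
import Cfsg.Agent.H318.TwoComp
/-!
# Simple groups of Lie type in characteristic two: a component `U₄(2)` (helper294)

Only `L₄(4)`.
-/

set_option autoImplicit false
set_option linter.unusedSectionVars false

namespace Cfsg.Agent.H294.EvenRow

open Subgroup Cfsg Cfsg.Agent.H284 Cfsg.Agent.OrdDiv Cfsg.Agent.H902 Cfsg.Agent.H902.Names
open Cfsg.Agent.H829.ExcComp (Pair FieldPair TriPair FFourPair ESixPair TwESixPair)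
open Cfsg.Agent.H318.TwoComp (P2 pr_p2)

universe u v

theorem real_U : Art.Real (.U 4) 2 1 25920 := by
  refine ⟨Nat.prime_two, le_rfl, ⟨by norm_num, fun h => by norm_num at h⟩, ?_⟩
  norm_num [Art.dd, Art.NN, Art.num, Finset.prod_range_succ]

theorem shape_two {X : Art.Sh} {f N : ℕ} (h : Art.Real X 2 f N) (hN : N = 25920) : X = .U 4 ∧ f = 1 := by
  subst hN
  rcases Art.same_char h real_U with ⟨h1, h2⟩ | h1
  · exact ⟨h1, h2⟩
  · exact absurd h1 (by norm_num)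

/-- the name of a group of order 25920 in characteristic 2 -/
theorem name_eq {h : Grp} (h2 : P2 h) (hn : N2 h 25920) : h = .psu 4 2 := by
  rcases hn with ⟨n, rfl, h5, hf⟩ | ⟨Y, p, f, hl, hR⟩
  · exfalso
    rcases Nat.lt_or_ge n 9 with h9 | h9
    · interval_cases n <;> simp [Nat.factorial] at hf
    · have h10 := Nat.factorial_le h9
      have h11 : Nat.factorial 9 = 362880 := rfl
      omega
  · have key : ∀ {q : ℕ}, (∃ j, q = 2 ^ j) → q = p ^ f → p = 2 := by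
      rintro q ⟨j, rfl⟩ he
      have h1 : p ∣ 2 ^ j := by
        rw [he]
        exact dvd_pow_self p (by have := hR.hf; omega)
      exact (Nat.prime_dvd_prime_iff_eq hR.hp Nat.prime_two).1 (hR.hp.dvd_of_dvd_pow h1)
    cases hl with
    | psl n =>
      obtain rfl := key h2 rfl
      exact absurd (shape_two hR rfl).1 (by simp)
    | psp n =>
      obtain rfl := key h2 rfl
      exact absurd (shape_two hR rfl).1 (by simp)
    | oodd => exact h2.elim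
    | psu n =>
      obtain rfl := key h2 rfl
      obtain ⟨h3, rfl⟩ := shape_two hR rfl
      have h4 : n = 4 := by simpa using h3
      rw [h4]
      norm_num
    | oplus n =>
      obtain rfl := key h2 rfl
      exact absurd (shape_two hR rfl).1 (by simp)
    | ominus n =>
      obtain rfl := key h2 rfl
      exact absurd (shape_two hR rfl).1 (by simp)
    | _ => exact h2.elim

theorem of_out {K : Type u} [Group K] {g : Grp} (h : H292.Rows.Out K g) (hg : P2 g) {x : MulAut K} (hx : x * x = 1)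
    (hx1 : x ≠ 1) {A : Subgroup ↥(fixedSubgroup x)} (hA : IsComponent A) (hc : Nat.card ↥A = 25920) :
    g = .psl 4 4 := by
  obtain ⟨h', h1, h2, h3⟩ := h x hx hx1 A hA
  rw [hc] at h3
  have h4 := name_eq (pr_p2 h1 hg) h3
  subst h4
  cases h1 with
  | lu n q hn => norm_num

/-- **Classical groups.** -/
theorem cls {K : Type u} [Group K] (hK : H340.IsClassicalChar 2 K)
    (h4 : ¬ ∃ (F : Type) (_ : Field F) (_ : Fintype F) (_ : CharP F 2), Nonempty (K ≃* PSp 2 F))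
    {x : MulAut K} (hx : x * x = 1) (hx1 : x ≠ 1) {A : Subgroup ↥(fixedSubgroup x)} (hA : IsComponent A)
    (hc : Nat.card ↥A = 25920) : ∃ (F : Type) (_ : Field F) (_ : Fintype F), Fintype.card F = 4 ∧
      Nonempty (K ≃* Matrix.ProjectiveSpecialLinearGroup (Fin 4) F) := by
  rcases hK with h | h | h | h | h | h
  · obtain ⟨F, i1, i2, i3, n, h1, h2, ⟨e⟩⟩ := h
    obtain ⟨f, -, hf⟩ := H292.Rows.card_two F
    have h5 := of_out ((H292.Rows.row_psl h1 h2).congr e.symm) ⟨f, hf⟩ hx hx1 hA hc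
    have h6 : n = 4 ∧ Fintype.card F = 4 := by simpa using h5
    obtain ⟨rfl, h6⟩ := h6
    exact ⟨F, i1, i2, h6, ⟨e⟩⟩
  · obtain ⟨F, i1, i2, i3, m, h1, h2, ⟨e⟩⟩ := h
    obtain ⟨f, -, hf⟩ := H292.Rows.card_two F
    have h3 : 3 ≤ m := by
      by_contra hlt
      have hm : m = 2 := by omega
      subst hm
      exact h4 ⟨F, i1, i2, i3, ⟨e⟩⟩
    exact absurd (of_out ((H292.Rows.row_psp h3).congr e.symm) ⟨f, hf⟩ hx hx1 hA hc) (by simp)
  · obtain ⟨F, _, _, _, n, q, h1, h2, h3, ⟨e⟩⟩ := h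
    obtain ⟨f, -, hf⟩ := H292.Rows.q_two h1
    exact absurd (of_out ((H292.Rows.row_psu h1 h2 h3).congr e.symm) ⟨f, hf⟩ hx hx1 hA hc) (by simp)
  · exfalso
    obtain ⟨F, _, _, _, m, h1, h2, ⟨e⟩⟩ := h
    obtain ⟨f, hf, hF⟩ := H292.Rows.card_two F
    rw [hF] at h2
    exact (Nat.not_odd_iff_even.2 ((Nat.even_pow.2 ⟨even_two, by omega⟩))) h2
  · obtain ⟨F, _, _, _, m, h1, ⟨e⟩⟩ := h
    obtain ⟨f, -, hf⟩ := H292.Rows.card_two F
    exact absurd (of_out ((H292.Rows.row_plus h1).congr e.symm) ⟨f, hf⟩ hx hx1 hA hc) (by simp)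
  · obtain ⟨F, _, _, _, m, a, b, h1, h2, ⟨e⟩⟩ := h
    obtain ⟨f, -, hf⟩ := H292.Rows.card_two F
    exact absurd (of_out ((H292.Rows.row_minus h1 h2).congr e.symm) ⟨f, hf⟩ hx hx1 hA hc) (by simp)

/-! ### exceptional groups -/

theorem ne_of_real {X : Art.Sh} {f N : ℕ} (h : Art.Real X 2 f N) (hX : X ≠ .U 4) : N ≠ 25920 :=
  fun hN => hX (shape_two h hN).1

theorem exc_ne {S : Type u} [Group S] (h : IsExceptionalChevChar 2 S ∨ IsTwistedE6D4Char 2 S ∨ Lie.Iso2F4 S) :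
    Nat.card S ≠ 25920 := by
  have hp := Nat.prime_two
  have T := Cfsg.Agent.OrdDiv.table.{u}
  rcases h with h | h | h
  · obtain ⟨F, _, _, _, h⟩ := h
    obtain ⟨f, hf, hF⟩ := SepOrd.field_pow (F := F) hp
    rcases h with ⟨hq, ⟨e⟩⟩ | ⟨⟨e⟩⟩ | ⟨⟨e⟩⟩ | ⟨⟨e⟩⟩ | ⟨⟨e⟩⟩
    · rw [hF] at hq
      refine ne_of_real (X := .G2) (f := f) ⟨hp, hf, hq, ?_⟩ (by simp)
      rw [Nat.card_congr e.toEquiv, T.g2 F, hF]
      change 1 * _ = (2 ^ f) ^ 6 * (_ * _)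
      ring
    · refine ne_of_real (X := .F4) (f := f) ⟨hp, hf, trivial, ?_⟩ (by simp)
      rw [Nat.card_congr e.toEquiv, T.f4 F _ hF]
      change 1 * _ = (2 ^ f) ^ 24 * (_ * _ * _ * _)
      ring
    · refine ne_of_real (X := .E6) (f := f) ⟨hp, hf, trivial, ?_⟩ (by simp)
      rw [Nat.card_congr e.toEquiv]
      change Nat.gcd 3 (2 ^ f - 1) * _ = (2 ^ f) ^ 36 * (_ * _ * _ * _ * _ * _)
      rw [T.e6 F _ hF]
      ring
    · refine ne_of_real (X := .E7) (f := f) ⟨hp, hf, trivial, ?_⟩ (by simp)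
      rw [Nat.card_congr e.toEquiv]
      change Nat.gcd 2 (2 ^ f - 1) * _ = (2 ^ f) ^ 63 * (_ * _ * _ * _ * _ * _ * _)
      rw [T.e7 F _ hF]
      ring
    · refine ne_of_real (X := .E8) (f := f) ⟨hp, hf, trivial, ?_⟩ (by simp)
      rw [Nat.card_congr e.toEquiv, T.e8 F _ hF]
      change 1 * _ = (2 ^ f) ^ 120 * (_ * _ * _ * _ * _ * _ * _ * _)
      ring
  · obtain ⟨F, _, _, _, q, hq, ⟨hF, ⟨e⟩⟩ | ⟨hF, ⟨e⟩⟩⟩ := h
    · obtain ⟨f, hf, rfl⟩ := SepOrd.root_pow hp (by norm_num) (SepOrd.field_pow (F := F) hp) hF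
      refine ne_of_real (X := .TE6) (f := f) ⟨hp, hf, trivial, ?_⟩ (by simp)
      rw [Nat.card_congr e.toEquiv]
      change Nat.gcd 3 (2 ^ f + 1) * _ = (2 ^ f) ^ 36 * (_ * _ * _ * _ * _ * _)
      rw [T.te6 F _ hq hF]
      ring
    · obtain ⟨f, hf, rfl⟩ := SepOrd.root_pow hp (by norm_num) (SepOrd.field_pow (F := F) hp) hF
      refine ne_of_real (X := .TD4) (f := f) ⟨hp, hf, trivial, ?_⟩ (by simp)
      rw [Nat.card_congr e.toEquiv, T.td4 F _ hq hF]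
      change 1 * _ = (2 ^ f) ^ 12 * (_ * _ * _)
      ring
  · obtain ⟨F, _, _, m, hm, hF, ⟨e⟩⟩ := h
    refine ne_of_real (X := .TF4) (f := 2 * m + 1) ⟨Nat.prime_two, by omega, ⟨rfl, odd_two_mul_add_one m, by omega⟩, ?_⟩
      (by simp)
    rw [Nat.card_congr e.toEquiv, T.tf4 F m hm hF]
    change 1 * _ = (2 ^ (2 * m + 1)) ^ 12 * (_ * _ * _ * _)
    ring

theorem pair_ne {K : Type u} {A : Type u} [Group K] [Group A] (h : Pair K A) : Nat.card A ≠ 25920 := by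
  rcases h with h | h | h | h | h
  · obtain ⟨F, F₀, i1, i2, i3, i4, i5, i6, -, h⟩ := h
    rcases h with ⟨h, -, ⟨b⟩⟩ | ⟨-, -, L, j1, j2, hL, ⟨b⟩⟩ | ⟨-, ⟨b⟩⟩ | ⟨-, ⟨b⟩⟩ | ⟨-, ⟨b⟩⟩ | ⟨-, ⟨b⟩⟩
    · exact exc_ne (Or.inl ⟨F₀, i4, i5, i6, Or.inl ⟨h, ⟨b⟩⟩⟩)
    · intro hc
      have h1 := psu_real (F := L) (n := 3) Nat.prime_three le_rfl (by rw [hL]; norm_num) le_rfl (by norm_num)
      rw [pow_one, ← Nat.card_congr b.toEquiv] at h1
      exact absurd (CFR.shape_of h1 hc).1 (by simp)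
    · exact exc_ne (Or.inl ⟨F₀, i4, i5, i6, Or.inr (Or.inl ⟨b⟩)⟩)
    · exact exc_ne (Or.inl ⟨F₀, i4, i5, i6, Or.inr (Or.inr (Or.inl ⟨b⟩))⟩)
    · exact exc_ne (Or.inl ⟨F₀, i4, i5, i6, Or.inr (Or.inr (Or.inr (Or.inl ⟨b⟩)))⟩)
    · exact exc_ne (Or.inl ⟨F₀, i4, i5, i6, Or.inr (Or.inr (Or.inr (Or.inr ⟨b⟩)))⟩)
  · obtain ⟨F, F₀, i1, i2, i3, i4, i5, i6, q, q₀, h1, h2, h3, h4, -, ⟨b⟩⟩ := h
    exact exc_ne (Or.inr (Or.inl ⟨F₀, i4, i5, i6, q₀, h1, Or.inr ⟨h4, ⟨b⟩⟩⟩))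
  · obtain ⟨F, i1, i2, i3, m, h1, -, h2⟩ := h
    rcases h2 with ⟨h2, ⟨b⟩⟩ | ⟨h2, b⟩
    · exact exc_ne (Or.inr (Or.inr ⟨F, i1, i2, m, h2, h1, ⟨b⟩⟩))
    · intro hc
      have h3 := (Cfsg.Agent.OrdDiv.table.{u}).spor A (.tits, 17971200) (by decide) b
      rw [hc] at h3
      exact absurd h3 (by norm_num)
  · obtain ⟨F, i1, i2, i3, -, h2⟩ := h
    rcases h2 with ⟨q₀, h2, ⟨b⟩⟩ | ⟨⟨b⟩⟩
    · have hq : IsPrimePow q₀ := by
        obtain ⟨f, hf, rfl⟩ := H292.Rows.q_two h2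
        exact Nat.prime_two.isPrimePow.pow (by omega)
      exact exc_ne (Or.inr (Or.inl ⟨F, i1, i2, i3, q₀, hq, Or.inl ⟨h2, ⟨b⟩⟩⟩))
    · exact exc_ne (Or.inl ⟨F, i1, i2, i3, Or.inr (Or.inl ⟨b⟩)⟩)
  · obtain ⟨F, F₀, i1, i2, i3, i4, i5, i6, q, h1, h2, -, ⟨b⟩⟩ := h
    exact exc_ne (Or.inl ⟨F₀, i4, i5, i6, Or.inr (Or.inl ⟨b⟩)⟩)

/-- **Groups of Lie type in characteristic two.** -/
theorem even_row {X : Type u} [Group X] [Finite X] [IsSimpleGroup X] (hna : ¬ IsMulCommutative X)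
    (h : IsLieTypeChar 2 X) {x : MulAut X} (hx : x * x = 1) (hx1 : x ≠ 1) {A : Subgroup ↥(fixedSubgroup x)}
    (hA : IsComponent A) (hc : Nat.card ↥A = 25920) {L : Type v} [Field L] [Fintype L] (hL : Fintype.card L = 4)
    (e : ↥A ≃* PSU 4 L 2) :
    ∃ (F : Type) (_ : Field F) (_ : Fintype F), Fintype.card F = 4 ∧
      Nonempty (X ≃* Matrix.ProjectiveSpecialLinearGroup (Fin 4) F) := by
  by_cases h4 : ∃ (F : Type) (_ : Field F) (_ : Fintype F) (_ : CharP F 2), Nonempty (X ≃* PSp 2 F)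
  · exfalso
    obtain ⟨F, i1, i2, i3, ⟨e'⟩⟩ := h4
    exact SpThree.no_u4 hL e (e'.toMonoidHom.comp ((fixedSubgroup x).subtype.comp A.subtype))
      (e'.injective.comp ((subtype_injective _).comp (subtype_injective _)))
  · have hx2 : x ^ 2 = 1 := by rw [pow_two]; exact hx
    rcases h with h | h | h | h | h | h | h | h | ⟨-, h⟩ | ⟨-, h⟩ | ⟨h, -⟩
    · exact cls (Or.inl h) h4 hx hx1 hA hc
    · exact cls (Or.inr (Or.inl h)) h4 hx hx1 hA hc
    · exact cls (Or.inr (Or.inr (Or.inl h))) h4 hx hx1 hA hc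
    · exact cls (Or.inr (Or.inr (Or.inr (Or.inl h)))) h4 hx hx1 hA hc
    · exact cls (Or.inr (Or.inr (Or.inr (Or.inr (Or.inl h))))) h4 hx hx1 hA hc
    · exact cls (Or.inr (Or.inr (Or.inr (Or.inr (Or.inr h))))) h4 hx hx1 hA hc
    · exact absurd hc (pair_ne (H78.TeFour.exc_comp hna (Or.inl h) x hx2 hx1 A hA))
    · exact absurd hc (pair_ne (H78.TeFour.exc_comp hna (Or.inr (Or.inl h)) x hx2 hx1 A hA))
    · exact absurd hc (pair_ne (H78.TeFour.exc_comp hna (Or.inr (Or.inr (Or.inl h))) x hx2 hx1 A hA))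
    · exact absurd hc (pair_ne (H78.TeFour.exc_comp hna (Or.inr (Or.inr (Or.inr h))) x hx2 hx1 A hA))
    · exact absurd h (by norm_num)

end Cfsg.Agent.H294.EvenRow
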