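import Cfsg.Agent.H293.G2Std
import Cfsg.Agent.FixBN.BCoreFree
import Cfsg.Agent.SignalizersComponents.PLayerAut

/-!
# Standard subgroups whose centralizer has cyclic Sylow 2-subgroups: from the reduced configuration to the group

* `layer_eq` : `E(G)` is the normal closure of `L`;
* `general` : the conclusion in general, from the conclusion in the reduced configuration.
-/

set_option autoImplicit false

namespace Cfsg.Agent.H294.Gen

open Cfsg Subgroup Cfsg.Agent.H293.StdOdd Cfsg.Agent.H293.G2Odd Cfsg.Agent.H293.G2Std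
open Cfsg.Agent.StdL2.Setup Cfsg.Agent.StdL2.Assemble

universe u v w

/-- a perfect subgroup of `Q O`, `Q` normal and `O` solvable, lies in `Q` -/
theorem le_of_le_sup {G : Type*} [Group G] {P Q O : Subgroup G} (hQ : Q.Normal) (hP : ⁅P, P⁆ = P)
    (hO : Group.IsSolvable O) (h : P ≤ Q ⊔ O) : P ≤ Q := by
  have h1 : P.map (QuotientGroup.mk' Q) ≤ O.map (QuotientGroup.mk' Q) := by
    have h2 := map_mono (f := QuotientGroup.mk' Q) h
    have h3 : Q.map (QuotientGroup.mk' Q) = ⊥ := by
      rw [Subgroup.map_eq_bot_iff, QuotientGroup.ker_mk']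
    rwa [Subgroup.map_sup, h3, bot_sup_eq] at h2
  have h4 : Group.IsSolvable (O.map (QuotientGroup.mk' Q)) :=
    Group.isSolvable_of_surjective (MonoidHom.subgroupMap_surjective (QuotientGroup.mk' Q) O)
  have h5 : Group.IsSolvable (P.map (QuotientGroup.mk' Q)) :=
    Group.isSolvable_of_isSolvable_injective (Subgroup.inclusion_injective h1)
  have h6 : ⁅P.map (QuotientGroup.mk' Q), P.map (QuotientGroup.mk' Q)⁆ = P.map (QuotientGroup.mk' Q) := by
    rw [← map_commutator, hP]
  have h7 : P.map (QuotientGroup.mk' Q) = ⊥ := by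
    by_contra hne
    have : Nontrivial ↥(P.map (QuotientGroup.mk' Q)) := (nontrivial_iff_ne_bot _).2 hne
    have h8 := Group.IsSolvable.commutator_lt_top_of_nontrivial ↥(P.map (QuotientGroup.mk' Q))
    have h9 : _root_.commutator ↥(P.map (QuotientGroup.mk' Q)) = ⊤ := by
      apply map_injective (P.map (QuotientGroup.mk' Q)).subtype_injective
      rw [_root_.commutator_def, map_commutator, ← MonoidHom.range_eq_map, range_subtype]
      exact h6
    rw [h9] at h8
    exact lt_irrefl _ h8
  rwa [Subgroup.map_eq_bot_iff, QuotientGroup.ker_mk'] at h7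

variable {G : Type u} [Group G] [Finite G]

/-- `E(G)` is the normal closure of `L`. -/
theorem layer_eq {L : Subgroup G} (h : Hyp L) (hc : normalClosure (L : Set G) ≤ centralizer (oddCore G : Set G))
    (hcl : normalClosure ((L.map (QuotientGroup.mk' (oddCore G)) : Subgroup _) : Set _) = layer (G ⧸ oddCore G)) :
    layer G = normalClosure (L : Set G) := by
  have : Fact (Nat.Prime 2) := ⟨Nat.prime_two⟩
  set X := normalClosure (L : Set G) with hX
  have hmap : X.map (QuotientGroup.mk' (oddCore G)) = layer (G ⧸ oddCore G) := by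
    rw [hX, map_normalClosure', hcl]
  have hmap' : (pLayer 2 G).map (QuotientGroup.mk' (oddCore G)) = layer (G ⧸ oddCore G) :=
    Cfsg.Agent.Lib.PComponents.map_pLayer
  have hodd := odd_oddCore G
  have hker : (QuotientGroup.mk' (oddCore G)).ker = oddCore G := QuotientGroup.ker_mk' _
  -- `X ≤ pLayer`
  have h1 : X ≤ pLayer 2 G := by
    have hn : (pLayer 2 G).Normal := Cfsg.Agent.SignalizersComponents.PLayerAut.pLayer_normal 2
    have hp : ⁅L, L⁆ = L := by
      have := h.std.1.1
      exact Subgroup.commutator_eq_self (H := L)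
    have h2 := normalClosure_isPerfect hp
    have h3 : ⁅X, X⁆ = X := by
      have h4 := congrArg (Subgroup.map X.subtype) h2
      rw [_root_.commutator_def, map_commutator, ← MonoidHom.range_eq_map, range_subtype] at h4
      exact h4
    refine le_of_le_sup hn h3 (solvable_of_odd hodd) ?_
    have h4 : X ≤ (X.map (QuotientGroup.mk' (oddCore G))).comap (QuotientGroup.mk' (oddCore G)) := le_comap_map _ _
    rw [hmap, ← hmap', comap_map_eq, hker] at h4
    exact h4
  -- `pLayer ≤ X`
  have h2 : pLayer 2 G ≤ X := by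
    refine sSup_le fun K hK => ?_
    have hK' : IsPComponent 2 K := hK
    have h3 : K ⊔ oddCore G ≤ X ⊔ oddCore G := by
      refine sup_le ?_ le_sup_right
      have h4 : K ≤ pLayer 2 G := le_sSup hK
      have h5 : K ≤ (((pLayer 2 G).map (QuotientGroup.mk' (oddCore G))).comap (QuotientGroup.mk' (oddCore G))) :=
        h4.trans (le_comap_map _ _)
      rw [hmap', ← hmap, comap_map_eq, hker] at h5
      exact h5
    have h4 : K = Cfsg.Agent.Lib.PComponents.pElem 2 (K ⊔ oddCore G) := Cfsg.Agent.Lib.PComponents.pcomp_eq_pElem hK'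
    rw [h4]
    unfold Cfsg.Agent.Lib.PComponents.pElem
    rw [closure_le]
    rintro y ⟨hy, n, hn⟩
    have h5 := h3 hy
    obtain ⟨x, hx, o, ho, rfl⟩ := mem_sup_of_normal_right.1 h5
    have hXn : X.Normal := normalClosure_normal
    have h6 : (QuotientGroup.mk' X) (x * o) = (QuotientGroup.mk' X) o := by
      rw [map_mul, (QuotientGroup.eq_one_iff x).2 hx |> (fun e => (show (QuotientGroup.mk' X) x = 1 from e)), one_mul]
    have h7 : (QuotientGroup.mk' X) o = 1 := by
      have h8 : orderOf ((QuotientGroup.mk' X) o) ∣ 2 ^ n := by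
        apply orderOf_dvd_of_pow_eq_one
        rw [← h6, ← map_pow, hn, map_one]
      have h9 : orderOf ((QuotientGroup.mk' X) o) ∣ Nat.card (oddCore G) := by
        apply orderOf_dvd_of_pow_eq_one
        rw [← map_pow]
        have := pow_card_eq_one' (x := (⟨o, ho⟩ : ↥(oddCore G)))
        have h10 : o ^ Nat.card (oddCore G) = 1 := congrArg Subtype.val this
        rw [h10, map_one]
      have h11 : Nat.Coprime (2 ^ n) (Nat.card (oddCore G)) :=
        Nat.Coprime.pow_left n ((Nat.coprime_two_left).2 hodd)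
      exact orderOf_eq_one_iff.1 (Nat.eq_one_of_dvd_coprimes h11 h8 h9)
    rw [← h6] at h7
    exact (QuotientGroup.eq_one_iff (x * o)).1 h7
  have h3 : pLayer 2 G = X := le_antisymm h2 h1
  rw [← h3]
  refine (Cfsg.Agent.FixBN.BCoreFree.pLayer_eq_layer (fun N hN => solvable_of_odd hN) ?_).symm
  rw [h3, commutator_eq_bot_iff_le_centralizer]
  exact hc

/-- **The general conclusion.** -/
theorem general {L : Subgroup G} (h : Hyp L) (hnorm : ¬ (L ⊔ oddCore G).Normal)
    {Q : Type v} [Group Q] (hs : IsSimpleGroup Q) (hnc : ¬ IsMulCommutative Q) (hN : NoOddExt.{u} Q)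
    (hZ : Odd (Nat.card (center ↥L))) (eX : (↥L ⧸ center ↥L) ≃* Q)
    {R : Type w} [Group R] (hRN : NoOddExt.{u} R)
    (core : ∀ (H : Type u) [Group H] [Finite H] (N A : Subgroup H) (t : H), Conf N A t → Odd (Nat.card (center ↥A)) →
      ((↥A ⧸ center ↥A) ≃* Q) → Nonempty (↥N ≃* R) ∧ ∃ g z : H, z ∈ A ∧ z ≠ 1 ∧ g * t * g⁻¹ = t * z) :
    layer G = normalClosure (L : Set G) ∧
      (Nonempty (↥(normalClosure (L : Set G)) ≃* R) ∨ Nonempty (↥(normalClosure (L : Set G)) ≃* Q × Q)) := by
  obtain ⟨t, htL, ht, ht', htC, hcase⟩ := main_cases h hnorm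
  obtain ⟨q⟩ := quot_map h
  have eA : (↥(L.map (QuotientGroup.mk' (oddCore G))) ⧸ center ↥(L.map (QuotientGroup.mk' (oddCore G)))) ≃* Q :=
    q.symm.trans eX
  rcases hcase with ⟨X, hX⟩ | S
  · obtain ⟨i⟩ := hX.iso
    have hsA := simple_congr i hX.simple
    have hncA := nc_congr i hX.nc
    have eA' : ↥(L.map (QuotientGroup.mk' (oddCore G))) ≃* Q := (quotBot (center_eq_bot hsA hncA)).symm.trans eA
    have hp : _root_.commutator Q = ⊤ :=
      (Cfsg.Agent.SignalizersComponents.IntrinsicDiag.quasisimple_of_simple hs hnc).1.commutator_eq_top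
    obtain ⟨w⟩ := wr_layer hX
    have w' : ↥(layer (G ⧸ oddCore G)) ≃* Q × Q := w.trans (eA'.prodCongr eA')
    have hN2 : NoOddExt.{u} ↥(layer (G ⧸ oddCore G)) := (hN.prod hN hp hp).congr w'
    obtain ⟨g, z, hz, hz1, hg⟩ := hX.mover
    obtain ⟨k⟩ := equiv_of_noOddExt h ht htL ⟨g, z, hz, hz1, hg⟩ hX.closure_eq hN2
    exact ⟨layer_eq h (ext_of_mover h ht htL ⟨g, z, hz, hz1, hg⟩ hX.closure_eq).1 hX.closure_eq, Or.inr ⟨k.trans w'⟩⟩
  · have C := conf_of_simple S ht' htC (h.cyc_map (odd_oddCore G))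
    have hLH : layer (G ⧸ oddCore G) ≤ layer (G ⧸ oddCore G) ⊔ zpowers (QuotientGroup.mk' (oddCore G) t) := le_sup_left
    have hAH : L.map (QuotientGroup.mk' (oddCore G)) ≤
        layer (G ⧸ oddCore G) ⊔ zpowers (QuotientGroup.mk' (oddCore G) t) := S.le_layer.trans hLH
    have eL := subgroupOfEquivOfLe hLH
    have eAH := subgroupOfEquivOfLe hAH
    have hZA : Odd (Nat.card (center ↥((L.map (QuotientGroup.mk' (oddCore G))).subgroupOf
        (layer (G ⧸ oddCore G) ⊔ zpowers (QuotientGroup.mk' (oddCore G) t))))) := by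
      rw [Nat.card_congr (Subgroup.centerCongr eAH).toEquiv]
      exact odd_center_map h hZ
    obtain ⟨f⟩ := Cfsg.Agent.StdEven.Red.nonempty_quot eAH
    obtain ⟨⟨k⟩, g, z, hz, hz1, hg⟩ := core _ _ _ _ C hZA (f.trans eA)
    have kL : ↥(layer (G ⧸ oddCore G)) ≃* R := eL.symm.trans k
    have hN' : NoOddExt.{u} ↥(layer (G ⧸ oddCore G)) := hRN.congr kL
    have hm : ∃ g z : G ⧸ oddCore G, z ∈ L.map (QuotientGroup.mk' (oddCore G)) ∧ z ≠ 1 ∧
        g * QuotientGroup.mk' (oddCore G) t * g⁻¹ = QuotientGroup.mk' (oddCore G) t * z :=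
      ⟨(g : G ⧸ oddCore G), (z : G ⧸ oddCore G), mem_subgroupOf.1 hz, fun h1 => hz1 (Subtype.ext h1),
        congrArg Subtype.val hg⟩
    obtain ⟨m⟩ := equiv_of_noOddExt h ht htL hm (simple_closure S) hN'
    exact ⟨layer_eq h (ext_of_mover h ht htL hm (simple_closure S)).1 (simple_closure S), Or.inl ⟨m.trans kL⟩⟩

end Cfsg.Agent.H294.Gen
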