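import Cfsg.Agent.H294.UFix
import Cfsg.Agent.H293.G2Std
/-!
# The involution `t` is conjugate to `t z`, `z` an involution of the standard subgroup `U₄(2)` (helper294)
-/

set_option autoImplicit false
set_option linter.unusedSectionVars false

namespace Cfsg.Agent.H294.Mover

open Cfsg Subgroup Cfsg.Agent.H293.StdOdd Cfsg.Agent.StdL2.Setup Cfsg.Agent.SignalizersComponents

universe u v

variable {H : Type u} [Group H] [Finite H]

/-- An element centralizing a Sylow 2-subgroup of `A` acts on `A ≅ U₄(2)` as an element of `A`. -/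
theorem exists_inner {A : Subgroup H} {F : Type v} [Field F] [Fintype F] (hF : Fintype.card F = 4)
    (e : ↥A ≃* PSU 4 F 2) (S : Sylow 2 ↥A) {u : H} (hu : u ∈ normalizer (A : Set H))
    (hS : ∀ s ∈ S, u * (s : H) = s * u) : ∃ a ∈ A, ∀ x ∈ A, u * x * u⁻¹ = a * x * a⁻¹ := by
  obtain ⟨a, ha⟩ := UFix.fix_sylow hF e (A.normalizerMonoidHom ⟨u, hu⟩) S (by
    intro s hs
    apply Subtype.ext
    change u * (s : H) * u⁻¹ = s
    rw [hS s hs, mul_inv_cancel_right])
  refine ⟨a, a.2, fun x hx => ?_⟩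
  have h1 := DFunLike.congr_fun ha ⟨x, hx⟩
  exact congrArg Subtype.val h1

/-- The 2-elements of `C(t) ∩ N` act faithfully on `A`. -/
theorem card_le {N A T0 : Subgroup H} {t : H} (htN : t ∉ N)
    (hnorm : centralizer ({t} : Set H) ≤ normalizer (A : Set H))
    (hcyc : ∀ s ∈ centralizer (A : Set H), s * s = 1 → s ≠ 1 → s * t = t * s → s = t)
    (haut : Nat.card (MulAut ↥A) ∣ 51840) (hT0 : IsPGroup 2 ↥T0) (hle : T0 ≤ N ⊓ centralizer ({t} : Set H)) :
    Nat.card ↥T0 ∣ 2 ^ 7 := by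
  have : Fact (Nat.Prime 2) := ⟨Nat.prime_two⟩
  let f : ↥T0 →* MulAut ↥A := A.normalizerMonoidHom.comp (Subgroup.inclusion ((hle.trans inf_le_right).trans hnorm))
  have hf : Function.Injective f := by
    rw [injective_iff_map_eq_one]
    intro x hx
    by_contra hne
    have h1 : ∀ a ∈ A, a * (x : H) = x * a := by
      intro a ha
      have h2 := congrArg Subtype.val (DFunLike.congr_fun hx ⟨a, ha⟩)
      change (x : H) * a * (x : H)⁻¹ = a at h2
      rw [mul_inv_eq_iff_eq_mul] at h2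
      exact h2.symm
    obtain ⟨k, hk⟩ := hT0 x
    -- the involution in `⟨x⟩`
    have h3 : ∃ m : ℕ, (x ^ m) * (x ^ m) = 1 ∧ x ^ m ≠ 1 := by
      have hex : ∃ k, x ^ 2 ^ k = 1 := ⟨k, hk⟩
      classical
      have h4 := Nat.find_spec hex
      have h5 : Nat.find hex ≠ 0 := by
        intro h0
        rw [h0, pow_zero, pow_one] at h4
        exact hne h4
      obtain ⟨m, hm⟩ := Nat.exists_eq_succ_of_ne_zero h5
      refine ⟨2 ^ m, ?_, ?_⟩
      · rw [← pow_add, ← two_mul, ← pow_succ']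
        rw [hm] at h4
        exact h4
      · intro h6
        exact Nat.find_min hex (m := m) (by omega) h6
    obtain ⟨m, hm1, hm2⟩ := h3
    have hmem := hle (x ^ m).2
    have h4 : ((x ^ m : ↥T0) : H) = t := by
      apply hcyc
      · rw [mem_centralizer_iff]
        intro a ha
        rw [coe_pow]
        exact (Commute.pow_right (h1 a ha) m)
      · exact congrArg Subtype.val hm1
      · exact fun h => hm2 (Subtype.ext h)
      · exact mem_centralizer_singleton_iff.1 hmem.2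
    exact htN (h4 ▸ hmem.1)
  have h1 : Nat.card ↥T0 ∣ 51840 := (Subgroup.card_dvd_of_injective f hf).trans haut
  obtain ⟨k, hk⟩ := IsPGroup.iff_card.1 hT0
  rw [hk] at h1 ⊢
  have h2 : (51840 : ℕ) = 2 ^ 7 * 405 := by norm_num
  rw [h2] at h1
  exact (Nat.Coprime.dvd_of_dvd_mul_right (Nat.Coprime.pow_left _ (by norm_num)) h1)

/-- **The mover.** -/
theorem exists_mover {N A : Subgroup H} (hN : N.Normal) {t : H} (ht : t * t = 1) (ht1 : t ≠ 1) (htN : t ∉ N)
    (hgen : N ⊔ zpowers t = ⊤) (hAN : A ≤ N) (htA : t ∈ centralizer (A : Set H))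
    (hnorm : centralizer ({t} : Set H) ≤ normalizer (A : Set H))
    (hcyc : ∀ s ∈ centralizer (A : Set H), s * s = 1 → s ≠ 1 → s * t = t * s → s = t)
    (hZ : center ↥A = ⊥) {F : Type v} [Field F] [Fintype F] (hF : Fintype.card F = 4) (e : ↥A ≃* PSU 4 F 2)
    (haut : Nat.card (MulAut ↥A) ∣ 51840) (h8 : 2 ^ 8 ∣ Nat.card ↥N) :
    ∃ g z : H, z ∈ A ∧ z ≠ 1 ∧ g * t * g⁻¹ = t * z := by
  have : Fact (Nat.Prime 2) := ⟨Nat.prime_two⟩
  have hti : t⁻¹ = t := inv_eq_of_mul_eq_one_right ht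
  obtain ⟨C, hC⟩ : ∃ C : Subgroup H, C = N ⊓ centralizer ({t} : Set H) := ⟨_, rfl⟩
  have hAC : A ≤ C := by
    rw [hC]
    refine le_inf hAN fun a ha => ?_
    rw [mem_centralizer_singleton_iff]
    exact mem_centralizer_iff.1 htA a ha
  have hCt : ∀ c ∈ C, c * t = t * c := fun c hc => mem_centralizer_singleton_iff.1 (by rw [hC] at hc; exact hc.2)
  -- a Sylow 2-subgroup of `A` inside one of `C`
  obtain ⟨S⟩ : Nonempty (Sylow 2 ↥A) := inferInstance
  have hSp : IsPGroup 2 ↥(((S : Subgroup ↥A).map (Subgroup.inclusion hAC))) := S.isPGroup'.map _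
  obtain ⟨T, hT⟩ := hSp.exists_le_sylow
  obtain ⟨T0, hT0⟩ : ∃ T0 : Subgroup H, T0 = (T : Subgroup ↥C).map C.subtype := ⟨_, rfl⟩
  have hT0C : T0 ≤ C := by rw [hT0]; exact map_subtype_le _
  have hT0p : IsPGroup 2 ↥T0 := by rw [hT0]; exact T.isPGroup'.map _
  have hST : ∀ s ∈ S, (s : H) ∈ T0 := by
    intro s hs
    rw [hT0]
    exact ⟨Subgroup.inclusion hAC s, hT ⟨s, hs, rfl⟩, rfl⟩
  have hmax : ∀ Q : Subgroup H, IsPGroup 2 ↥Q → Q ≤ C → T0 ≤ Q → Q = T0 := by
    intro Q hQ hQC hTQ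
    have h1 : IsPGroup 2 ↥(Q.subgroupOf C) := hQ.of_equiv (subgroupOfEquivOfLe hQC).symm
    have h2 := T.is_maximal' h1 (by
      intro x hx
      rw [mem_subgroupOf]
      exact hTQ (by rw [hT0]; exact ⟨x, hx, rfl⟩))
    rw [hT0, ← h2, subgroupOf_map_subtype, inf_eq_left.2 hQC]
  have hcard0 : Nat.card ↥T0 ∣ 2 ^ 7 := card_le htN hnorm hcyc haut hT0p (hC ▸ hT0C)
  -- `T1 = T0 × ⟨t⟩`
  have hcom : ∀ (a : ↥T0) (b : ↥(zpowers t)), Commute (T0.subtype a) ((zpowers t).subtype b) := by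
    intro a b
    obtain ⟨k, hk⟩ := mem_zpowers_iff.1 b.2
    change (a : H) * (b : H) = b * a
    rw [← hk]
    exact (Commute.zpow_right (show Commute (a : H) t from hCt a (hT0C a.2)) k)
  obtain ⟨T1, hT1⟩ : ∃ T1 : Subgroup H, T1 = (MonoidHom.noncommCoprod T0.subtype (zpowers t).subtype hcom).range :=
    ⟨_, rfl⟩
  have ho2 : orderOf t = 2 := orderOf_eq_prime (by rw [pow_two]; exact ht) ht1
  have hmem1 : ∀ x ∈ T1, ∃ c ∈ T0, ∃ w ∈ zpowers t, x = c * w := by
    intro x hx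
    rw [hT1] at hx
    obtain ⟨⟨c, w⟩, rfl⟩ := hx
    exact ⟨c, c.2, w, w.2, rfl⟩
  have hmem2 : ∀ c ∈ T0, ∀ w ∈ zpowers t, c * w ∈ T1 := by
    intro c hc w hw
    rw [hT1]
    exact ⟨(⟨c, hc⟩, ⟨w, hw⟩), rfl⟩
  have hT01 : T0 ≤ T1 := fun c hc => by
    have := hmem2 c hc 1 (one_mem _)
    rwa [mul_one] at this
  have htT1 : t ∈ T1 := by
    have := hmem2 1 (one_mem _) t (mem_zpowers t)
    rwa [one_mul] at this
  have hcardt : Nat.card ↥(zpowers t) = 2 := by rw [Nat.card_zpowers, ho2]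
  have hprodp : IsPGroup 2 (↥T0 × ↥(zpowers t)) := by
    obtain ⟨k, hk⟩ := IsPGroup.iff_card.1 hT0p
    exact IsPGroup.of_card (n := k + 1) (by rw [Nat.card_prod, hk, hcardt, pow_succ])
  have hT1p : IsPGroup 2 ↥T1 := by
    rw [hT1]
    exact hprodp.of_surjective _ (MonoidHom.rangeRestrict_surjective _)
  have hcard1 : Nat.card ↥T1 ≤ 2 ^ 8 := by
    have h1 : Nat.card ↥T1 ∣ Nat.card (↥T0 × ↥(zpowers t)) := by
      rw [hT1]
      exact Subgroup.card_range_dvd _
    rw [Nat.card_prod, hcardt] at h1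
    have h2 := Nat.le_of_dvd (Nat.mul_pos Nat.card_pos (by norm_num)) h1
    have h3 := Nat.le_of_dvd (by norm_num) hcard0
    omega
  have hcomt : ∀ x ∈ T1, x * t = t * x := by
    intro x hx
    obtain ⟨c, hc, w, hw, rfl⟩ := hmem1 x hx
    obtain ⟨k, rfl⟩ := mem_zpowers_iff.1 hw
    exact (Commute.mul_left (show Commute c t from hCt c (hT0C hc)) ((Commute.refl t).zpow_left k))
  -- the decomposition of `H`
  have hdec : ∀ g : H, ∃ n ∈ N, ∃ w ∈ zpowers t, g = n * w := by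
    intro g
    have h1 : g ∈ N ⊔ zpowers t := by rw [hgen]; exact mem_top g
    obtain ⟨n, hn, w, hw, h2⟩ := mem_sup_of_normal_left.1 h1
    exact ⟨n, hn, w, hw, h2.symm⟩
  -- `T1` is not a Sylow 2-subgroup of `H`
  obtain ⟨S1, hS1⟩ := hT1p.exists_le_sylow
  have h9 : 2 ^ 9 ∣ Nat.card H := by
    have h1 : 2 ∣ N.index := by
      have h2 : orderOf (QuotientGroup.mk' N t) = 2 := by
        apply orderOf_eq_prime
        · rw [pow_two, ← map_mul, ht, map_one]
        · intro h3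
          rw [← MonoidHom.mem_ker, QuotientGroup.ker_mk'] at h3
          exact htN h3
      rw [← h2]
      exact orderOf_dvd_natCard _
    rw [← N.card_mul_index, pow_succ]
    exact mul_dvd_mul h8 h1
  have hlt : T1 < (S1 : Subgroup H) := by
    refine lt_of_le_of_ne hS1 fun h1 => ?_
    have h2 : 2 ^ 9 ∣ Nat.card ↥(S1 : Subgroup H) := S1.pow_dvd_card_of_pow_dvd_card h9
    rw [← h1] at h2
    have h3 := Nat.le_of_dvd Nat.card_pos h2
    omega
  obtain ⟨g, hg, hgT⟩ := SetLike.exists_of_lt (StandardTrichotomy.lt_inf_normalizer S1.isPGroup' hlt)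
  obtain ⟨hgS, hgn⟩ := mem_inf.1 hg
  have hgt : g * t * g⁻¹ ∈ T1 := (mem_normalizer_iff.1 hgn t).1 htT1
  obtain ⟨n, hn, w, hw, hgw⟩ := hdec g
  have hwt : w * t = t * w := by
    obtain ⟨k, rfl⟩ := mem_zpowers_iff.1 hw
    exact ((Commute.refl t).zpow_left k)
  have hne : g * t * g⁻¹ ≠ t := by
    intro h1
    apply hgT
    have h2 : g * t = t * g := by rw [mul_inv_eq_iff_eq_mul] at h1; exact h1
    have hwS : w ∈ (S1 : Subgroup H) := hS1 (by
      have := hmem2 1 (one_mem _) w hw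
      rwa [one_mul] at this)
    have h3 : n = g * w⁻¹ := by rw [hgw]; group
    have h4 : n * t = t * n := by
      have h5 : w⁻¹ * t = t * w⁻¹ := (show Commute w t from hwt).inv_left
      rw [h3, mul_assoc, h5, ← mul_assoc, h2, mul_assoc]
    have h5 : (S1 : Subgroup H) ⊓ C = T0 := by
      refine hmax _ (S1.isPGroup'.to_le inf_le_left) inf_le_right (le_inf (hT01.trans hS1) hT0C)
    have h6 : n ∈ T0 := by
      rw [← h5]
      refine mem_inf.2 ⟨?_, ?_⟩
      · rw [h3]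
        exact mul_mem hgS (inv_mem hwS)
      · rw [hC]
        exact ⟨hn, mem_centralizer_singleton_iff.2 h4⟩
    rw [hgw]
    exact hmem2 n h6 w hw
  -- the involution `u`
  obtain ⟨u, hu⟩ : ∃ u, u = t * (g * t * g⁻¹) := ⟨_, rfl⟩
  have hgu : g * t * g⁻¹ = t * u := by rw [hu, ← mul_assoc, ht, one_mul]
  have hyt : (g * t * g⁻¹) * t = t * (g * t * g⁻¹) := hcomt _ hgt
  have hyy : (g * t * g⁻¹) * (g * t * g⁻¹) = 1 := by
    calc (g * t * g⁻¹) * (g * t * g⁻¹) = g * (t * t) * g⁻¹ := by group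
      _ = 1 := by rw [ht]; group
  have huu : u * u = 1 := by
    calc u * u = t * ((g * t * g⁻¹) * t) * (g * t * g⁻¹) := by rw [hu]; group
      _ = (t * t) * ((g * t * g⁻¹) * (g * t * g⁻¹)) := by rw [hyt]; group
      _ = 1 := by rw [ht, hyy, one_mul]
  have hut : u * t = t * u := by
    rw [hu, mul_assoc, hyt]
  have huN : u ∈ N := by
    have h1 : u = (t * n * t⁻¹) * n⁻¹ := by
      rw [hu, hti]
      calc t * (g * t * g⁻¹) = t * (n * (w * t) * w⁻¹ * n⁻¹) := by rw [hgw]; group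
        _ = t * n * t * n⁻¹ := by rw [hwt]; group
    rw [h1]
    exact mul_mem (hN.conj_mem n hn t) (inv_mem hn)
  have hu1 : u ≠ 1 := by
    intro h1
    rw [h1, mul_one] at hgu
    exact hne hgu
  have huT : ∀ c ∈ T0, u * c = c * u := by
    intro c hc
    have h1 : g⁻¹ * c * g ∈ T1 := by
      have h2 := (mem_normalizer_iff.1 (inv_mem hgn) c).1 (hT01 hc)
      rwa [inv_inv] at h2
    have h2 := hcomt _ h1
    have h3 : (g * t * g⁻¹) * c = c * (g * t * g⁻¹) := by
      calc (g * t * g⁻¹) * c = g * (t * (g⁻¹ * c * g)) * g⁻¹ := by group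
        _ = g * ((g⁻¹ * c * g) * t) * g⁻¹ := by rw [h2]
        _ = c * (g * t * g⁻¹) := by group
    have h4 := hCt c (hT0C hc)
    rw [hu, mul_assoc, h3, ← mul_assoc, ← h4, mul_assoc]
  -- `u` acts on `A` as an element of `A`
  have hun : u ∈ normalizer (A : Set H) := hnorm (mem_centralizer_singleton_iff.2 hut)
  obtain ⟨a, ha, hua⟩ := exists_inner hF e S hun fun s hs => huT s (hST s hs)
  obtain ⟨c, hc⟩ : ∃ c, c = u * a⁻¹ := ⟨_, rfl⟩
  have huc : u = c * a := by rw [hc]; group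
  have hcA : ∀ x ∈ A, x * c = c * x := by
    intro x hx
    have h1 := hua (a⁻¹ * x * a) (mul_mem (mul_mem (inv_mem ha) hx) ha)
    have h2 : c * x * c⁻¹ = x := by
      calc c * x * c⁻¹ = u * (a⁻¹ * x * a) * u⁻¹ := by rw [hc]; group
        _ = a * (a⁻¹ * x * a) * a⁻¹ := h1
        _ = x := by group
    rw [mul_inv_eq_iff_eq_mul] at h2
    exact h2.symm
  have hcc : c ∈ centralizer (A : Set H) := mem_centralizer_iff.2 hcA
  have h3 : (c * c) * (a * a) = 1 := by
    rw [← huu, huc]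
    calc c * c * (a * a) = c * (c * a) * a := by group
      _ = c * (a * c) * a := by rw [hcA a ha]
      _ = c * a * (c * a) := by group
  have haa : a * a = 1 := by
    have h4 : (⟨a * a, mul_mem ha ha⟩ : ↥A) ∈ center ↥A := by
      rw [mem_center_iff]
      intro y
      apply Subtype.ext
      change (y : H) * (a * a) = (a * a) * y
      have h5 : a * a = (c * c)⁻¹ := (inv_eq_of_mul_eq_one_right h3).symm
      have h6 : (y : H) * (c * c) = (c * c) * y := by
        rw [← mul_assoc, hcA y y.2, mul_assoc, hcA y y.2, ← mul_assoc]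
      rw [h5]
      exact (show Commute (y : H) (c * c) from h6).inv_right
    rw [hZ, mem_bot] at h4
    exact congrArg Subtype.val h4
  have hcc1 : c * c = 1 := by rwa [haa, mul_one] at h3
  have hat : a * t = t * a := mem_centralizer_iff.1 htA a ha
  have hct : c * t = t * c := by
    have h5 : a⁻¹ * t = t * a⁻¹ := (show Commute a t from hat).inv_left
    rw [hc, mul_assoc, h5, ← mul_assoc, hut, mul_assoc]
  by_cases hc1 : c = 1
  · refine ⟨g, u, ?_, hu1, hgu⟩
    rw [huc, hc1, one_mul]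
    exact ha
  · exfalso
    have h5 := hcyc c hcc hcc1 hc1 hct
    apply htN
    rw [← h5, hc]
    exact mul_mem huN (inv_mem (hAN ha))

end Cfsg.Agent.H294.Mover
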