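import Cfsg.Agent.AGraded.HomFinite
import Cfsg.Agent.StdRank2.FrameLift
import Cfsg.Agent.H293.StdOddC

/-!
# Odd central extensions of `SL_n(q)`, `L_n(q)`, `q` even, `n ≥ 3`

* `noOddExt_sl` : `SL_n(q)`, `q` even, `n ≥ 3`, has no perfect central extension with a nontrivial kernel of odd order;
* `noOddExt_psl` : the same for `L_n(q)` if `gcd(n, q - 1) = 1`.
-/

set_option autoImplicit false

namespace Cfsg.Agent.H294.MulSL

open Matrix Cfsg.Agent.AGraded Cfsg.Agent.StdRank2.FrameLift Cfsg.Agent.H293.StdOdd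

open scoped commutatorElement

universe u v w

section

variable {ι : Type v} [Fintype ι] [DecidableEq ι] {F : Type w} [Field F] [CharP F 2]

theorem tv_sq {i j : ι} (hij : i ≠ j) (a : F) :
    SpecialLinearGroup.transvection hij a * SpecialLinearGroup.transvection hij a = 1 := by
  rw [← SpecialLinearGroup.transvection_add, CharTwo.add_self_eq_zero, SpecialLinearGroup.transvection_coeff_zero]

theorem tv_is2 {i j : ι} (hij : i ≠ j) (a : F) : Is2 (SpecialLinearGroup.transvection hij a) := is2_of_sq (tv_sq hij a)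

theorem tv_comm {i j k l : ι} (hij : i ≠ j) (hkl : k ≠ l) (hjk : j ≠ k) (hil : i ≠ l) (a b : F) :
    (SpecialLinearGroup.transvection hij a : SpecialLinearGroup ι F) * SpecialLinearGroup.transvection hkl b =
      SpecialLinearGroup.transvection hkl b * SpecialLinearGroup.transvection hij a := by
  apply Subtype.ext
  change (SpecialLinearGroup.transvection hij a).1 * (SpecialLinearGroup.transvection hkl b).1 =
    (SpecialLinearGroup.transvection hkl b).1 * (SpecialLinearGroup.transvection hij a).1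
  rw [SpecialLinearGroup.transvection_coe, SpecialLinearGroup.transvection_coe]
  rw [add_mul, mul_add, mul_add, add_mul, mul_add, mul_add, Matrix.single_mul_single_of_ne _ _ _ _ hjk,
    Matrix.single_mul_single_of_ne _ _ _ _ hil.symm]
  simp only [one_mul, mul_one, add_zero]
  abel

variable {X : Type u} [Group X] {f : X →* SpecialLinearGroup ι F}

/-- the lifted root elements -/
noncomputable def xx (f : X →* SpecialLinearGroup ι F) (i j : ι) (a : F) : X :=
  if h : i ≠ j then lift2 f (SpecialLinearGroup.transvection h a) else 1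

theorem xx_eq {i j : ι} (hij : i ≠ j) (a : F) : xx f i j a = lift2 f (SpecialLinearGroup.transvection hij a) := dif_pos hij

variable (c : OddCover f)

include c

theorem f_xx {i j : ι} (hij : i ≠ j) (a : F) : f (xx f i j a) = SpecialLinearGroup.transvection hij a := by
  rw [xx_eq hij, c.map_lift2 (tv_is2 hij a)]

theorem is2_xx {i j : ι} (hij : i ≠ j) (a : F) : Is2 (xx f i j a) := by
  rw [xx_eq hij]; exact c.is2_lift2 (tv_is2 hij a)

theorem steinRel : SteinRel (xx f) where
  add i j hij a b := by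
    apply c.eq_of_map_eq (is2_xx c hij _)
    · refine (is2_xx c hij a).mul (is2_xx c hij b) ?_
      apply c.comm (is2_xx c hij b)
      rw [f_xx c hij, f_xx c hij, ← SpecialLinearGroup.transvection_add, ← SpecialLinearGroup.transvection_add, add_comm]
    · rw [map_mul, f_xx c hij, f_xx c hij, f_xx c hij, SpecialLinearGroup.transvection_add]
  comm i j k l hij hkl hjk hil a b := by
    apply c.comm (is2_xx c hkl b)
    rw [f_xx c hij, f_xx c hkl, tv_comm hij hkl hjk hil]
  br i j k hij hjk hik a b := by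
    have h1 : Is2 (xx f i k (a * b) * xx f j k b) := by
      refine (is2_xx c hik _).mul (is2_xx c hjk b) ?_
      apply c.comm (is2_xx c hjk b)
      rw [f_xx c hik, f_xx c hjk, tv_comm hik hjk hjk.symm hik]
    have h2 := c.conj_eq' (g := xx f i j a) (is2_xx c hjk b) h1 (by
      rw [map_mul, f_xx c hij, f_xx c hjk, f_xx c hik]
      have h3 := Cfsg.Agent.LieClassical.SLGen.commutator_transvection (F := F) hik hij hjk a b
      rw [commutatorElement_def] at h3
      rw [← h3]
      group)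
    rw [commutatorElement_def, h2]
    group

end

/-- **`SL_n(q)`, `q` even, `n ≥ 3`.** -/
theorem noOddExt_sl {ι : Type v} [Fintype ι] [DecidableEq ι] {F : Type w} [Field F] [Finite F] [CharP F 2]
    (hι : 3 ≤ Fintype.card ι) : NoOddExt.{u} (SpecialLinearGroup ι F) := by
  intro X _ _ hp f hf hc ho
  have c : OddCover f := OddCover.of_card hf hc ho
  obtain ⟨π, hπ, hr, -⟩ := exists_hom_finite (steinRel c) hι
  have h1 : f.comp π = MonoidHom.id _ := by
    apply MonoidHom.eq_of_eqOn_dense Cfsg.Agent.LieClassical.SLGen.closure_transvections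
    rintro _ ⟨i, j, hij, a, rfl⟩
    rw [MonoidHom.comp_apply, hπ, f_xx c hij]
    rfl
  have h2 : π.range = ⊤ := by
    rw [eq_top_iff, ← hp, _root_.commutator_def]
    have h3 : (⊤ : Subgroup X) ≤ π.range ⊔ Subgroup.center X := by
      intro x _
      have h4 : f (π (f x)) = f x := by
        have := DFunLike.congr_fun h1 (f x)
        simpa using this
      have h5 : (π (f x))⁻¹ * x ∈ f.ker := by
        rw [MonoidHom.mem_ker, map_mul, map_inv, h4, inv_mul_cancel]
      rw [show x = π (f x) * ((π (f x))⁻¹ * x) by group]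
      exact Subgroup.mul_mem_sup ⟨_, rfl⟩ (hc h5)
    rw [Subgroup.commutator_le]
    intro a _ b _
    obtain ⟨a₁, ha₁, a₂, ha₂, rfl⟩ := Subgroup.mem_sup_of_normal_right.1 (h3 (Subgroup.mem_top a))
    obtain ⟨b₁, hb₁, b₂, hb₂, rfl⟩ := Subgroup.mem_sup_of_normal_right.1 (h3 (Subgroup.mem_top b))
    have e : ⁅a₁ * a₂, b₁ * b₂⁆ = ⁅a₁, b₁⁆ := by
      have k1 := Subgroup.mem_center_iff.1 ha₂
      have k2 := Subgroup.mem_center_iff.1 hb₂
      rw [commutatorElement_def, commutatorElement_def, _root_.mul_inv_rev, _root_.mul_inv_rev]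
      calc a₁ * a₂ * (b₁ * b₂) * (a₂⁻¹ * a₁⁻¹) * (b₂⁻¹ * b₁⁻¹)
          = a₁ * (a₂ * (b₁ * b₂)) * a₂⁻¹ * a₁⁻¹ * b₂⁻¹ * b₁⁻¹ := by group
        _ = a₁ * ((b₁ * b₂) * a₂) * a₂⁻¹ * a₁⁻¹ * b₂⁻¹ * b₁⁻¹ := by rw [k1]
        _ = a₁ * b₁ * (b₂ * a₁⁻¹) * b₂⁻¹ * b₁⁻¹ := by group
        _ = a₁ * b₁ * (a₁⁻¹ * b₂) * b₂⁻¹ * b₁⁻¹ := by rw [k2]
        _ = a₁ * b₁ * a₁⁻¹ * b₁⁻¹ := by group
    rw [e]
    rw [commutatorElement_def]
    exact mul_mem (mul_mem (mul_mem ha₁ hb₁) (inv_mem ha₁)) (inv_mem hb₁)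
  intro a b hab
  have ha : a ∈ π.range := by rw [h2]; trivial
  have hb : b ∈ π.range := by rw [h2]; trivial
  obtain ⟨a, rfl⟩ := ha
  obtain ⟨b, rfl⟩ := hb
  have h4 : ∀ y, f (π y) = y := fun y => by
    have := DFunLike.congr_fun h1 y
    simpa using this
  rw [h4, h4] at hab
  rw [hab]

/-- the centre of `SL_n(q)` is trivial if `gcd(n, q - 1) = 1` -/
theorem center_sl {n : ℕ} [NeZero n] {F : Type w} [Field F] [Finite F] (h : Nat.Coprime n (Nat.card F - 1)) :
    Subgroup.center (SpecialLinearGroup (Fin n) F) = ⊥ := by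
  rw [eq_bot_iff]
  intro A hA
  rw [Matrix.SpecialLinearGroup.mem_center_iff] at hA
  obtain ⟨r, hr, hA⟩ := hA
  rw [Fintype.card_fin] at hr
  have : Fintype F := Fintype.ofFinite F
  have hr0 : r ≠ 0 := by
    rintro rfl
    rw [zero_pow (NeZero.ne n)] at hr
    exact zero_ne_one hr
  have h1 : r ^ (Nat.card F - 1) = 1 := by
    rw [Nat.card_eq_fintype_card]
    exact FiniteField.pow_card_sub_one_eq_one r hr0
  have h2 : orderOf r ∣ 1 := by
    rw [← h]
    exact Nat.dvd_gcd (orderOf_dvd_of_pow_eq_one hr) (orderOf_dvd_of_pow_eq_one h1)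
  have h3 : r = 1 := orderOf_eq_one_iff.1 (Nat.dvd_one.1 h2)
  rw [Subgroup.mem_bot]
  apply Subtype.ext
  rw [← hA, h3]
  exact map_one _

/-- `L_n(q) = SL_n(q)` if `gcd(n, q - 1) = 1` -/
noncomputable def equiv_psl {n : ℕ} [NeZero n] {F : Type w} [Field F] [Finite F] (h : Nat.Coprime n (Nat.card F - 1)) :
    ProjectiveSpecialLinearGroup (Fin n) F ≃* SpecialLinearGroup (Fin n) F :=
  (QuotientGroup.quotientMulEquivOfEq (center_sl h)).trans QuotientGroup.quotientBot

/-- **`L_n(q)`, `q` even, `n ≥ 3`, `gcd(n, q - 1) = 1`.** -/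
theorem noOddExt_psl {n : ℕ} (hn : 3 ≤ n) {F : Type w} [Field F] [Finite F] [CharP F 2]
    (h : Nat.Coprime n (Nat.card F - 1)) : NoOddExt.{u} (ProjectiveSpecialLinearGroup (Fin n) F) := by
  have : NeZero n := ⟨by omega⟩
  exact (noOddExt_sl (by rw [Fintype.card_fin]; exact hn)).congr (equiv_psl h)

end Cfsg.Agent.H294.MulSL
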