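import Cfsg.Agent.StdRank2.B2Conn
import Cfsg.Agent.H293.StdOddC
import Cfsg.Agent.H293.G2Odd

/-!
# Odd central extensions of `U₄(q)`, `q` even

* `center_eq_bot` : a group with a nondegenerate package of type `U₄` in characteristic two and centre of odd order has
  trivial centre;
* `noOddExt_U4`.
-/

set_option autoImplicit false
set_option linter.unusedSectionVars false

namespace Cfsg.Agent.H294.MulU4

open Subgroup
open Cfsg.Agent.TitsThree.B2Pkg Cfsg.Agent.TitsThree.RankTwoIdentB2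
  Cfsg.Agent.TitsThree.CoreB2 Cfsg.Agent.TitsThree.RankTwoIdx Cfsg.Agent.TitsThree.RankTwoRGD
  Cfsg.Agent.TitsThree.StdData
open Cfsg.Agent.StdRank2.OddLift Cfsg.Agent.StdRank2.B2Lift Cfsg.Agent.StdRank2.B2Std
open Cfsg.Agent.StdRank2.B2Torus Cfsg.Agent.StdRank2.B2Conn
open Cfsg.Agent.H293.StdOdd

universe u v

/-! ### The rank one lemma -/

section rank

variable {K : Type*} [Field K] [Finite K] [CharP K 2] {A : Type*} [Group A] {n : K → A}

/-- **The torus of a rank one group in characteristic two.** -/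
theorem torus_mul (hn2 : ∀ s, s ≠ 0 → n s * n s = 1)
    (hconj : ∀ s t, s ≠ 0 → t ≠ 0 → (n s * n 1) * n t * (n s * n 1)⁻¹ = n (s * s * t))
    (hc : ∀ s t, s ≠ 0 → t ≠ 0 → (n s * n 1) * (n t * n 1) * (n (s * t) * n 1)⁻¹ ∈ center A) :
    ∀ s t, s ≠ 0 → t ≠ 0 → n (s * t) * n 1 = (n s * n 1) * (n t * n 1) := by
  have := Fintype.ofFinite K
  obtain ⟨h, hh⟩ : ∃ h : K → A, ∀ s, h s = n s * n 1 := ⟨_, fun _ => rfl⟩
  have h11 : n 1 * n 1 = 1 := hn2 1 one_ne_zero
  have h1 : h 1 = 1 := by rw [hh, h11]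
  have hc' : ∀ s t, s ≠ 0 → t ≠ 0 → h s * h t * (h (s * t))⁻¹ ∈ center A := fun s t hs ht => by
    rw [hh, hh, hh]; exact hc s t hs ht
  have hcj : ∀ s t, s ≠ 0 → t ≠ 0 → h s * n t * (h s)⁻¹ = n (s * s * t) := fun s t hs ht => by
    rw [hh]; exact hconj s t hs ht
  have hni : ∀ s, s ≠ 0 → (n s)⁻¹ = n s := fun s hs => inv_eq_of_mul_eq_one_right (hn2 s hs)
  -- (2)
  have e2 : ∀ s, s ≠ 0 → h (s * s) = h s * h s := by
    intro s hs
    have e := hcj s 1 hs one_ne_zero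
    rw [mul_one] at e
    rw [hh (s * s), ← e, hh s, mul_inv_rev, hni s hs, hni 1 one_ne_zero]
    calc n s * n 1 * n 1 * (n 1 * n s) * n 1 = n s * (n 1 * n 1) * (n 1 * n s) * n 1 := by group
      _ = n s * n 1 * (n s * n 1) := by rw [h11]; group
  -- (3)
  have e3 : ∀ s t, s ≠ 0 → t ≠ 0 → h (s * s * t) = h s * h t * h s := by
    intro s t hs ht
    have e : h s * h t * (h s)⁻¹ = h (s * s * t) * (h (s * s))⁻¹ := by
      have k1 := hcj s t hs ht
      have k2 := hcj s 1 hs one_ne_zero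
      rw [mul_one] at k2
      have k3 : h t = n t * (n 1)⁻¹ := by rw [hh, hni 1 one_ne_zero]
      rw [hh (s * s * t), hh (s * s), ← k1, ← k2, k3]
      group
    rw [e2 s hs] at e
    calc h (s * s * t) = (h (s * s * t) * (h s * h s)⁻¹) * (h s * h s) := by group
      _ = (h s * h t * (h s)⁻¹) * (h s * h s) := by rw [e]
      _ = h s * h t * h s := by group
  -- commutativity
  have e4 : ∀ s t, s ≠ 0 → t ≠ 0 → h s * h t = h t * h s := by
    obtain ⟨g, hg⟩ := IsCyclic.exists_generator (α := Kˣ)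
    have k1 : ∀ i : ℕ, ∃ z ∈ center A, h ((g : K) ^ i) = h (g : K) ^ i * z := by
      intro i
      induction i with
      | zero => exact ⟨1, one_mem _, by rw [pow_zero, pow_zero, h1, one_mul]⟩
      | succ i ih =>
        obtain ⟨z, hz, e⟩ := ih
        have k2 := hc' ((g : K) ^ i) (g : K) (pow_ne_zero _ g.ne_zero) g.ne_zero
        refine ⟨z * (h ((g : K) ^ i) * h (g : K) * (h ((g : K) ^ i * g))⁻¹)⁻¹, mul_mem hz (inv_mem k2), ?_⟩
        have k3 := mem_center_iff.1 hz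
        rw [pow_succ (g : K), pow_succ (h (g : K))]
        set c := h ((g : K) ^ i) * h (g : K) * (h ((g : K) ^ i * g))⁻¹ with hcdef
        have k4 : h ((g : K) ^ i * g) = c⁻¹ * (h ((g : K) ^ i) * h (g : K)) := by rw [hcdef]; group
        have k5 := mem_center_iff.1 (inv_mem k2)
        rw [k4, ← k5, e]
        calc h (g : K) ^ i * z * h (g : K) * c⁻¹ = h (g : K) ^ i * (z * h (g : K)) * c⁻¹ := by group
          _ = h (g : K) ^ i * (h (g : K) * z) * c⁻¹ := by rw [k3]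
          _ = h (g : K) ^ i * h (g : K) * (z * c⁻¹) := by group
    intro s t hs ht
    obtain ⟨i, hi⟩ := mem_powers_iff_mem_zpowers.2 (hg (Units.mk0 s hs))
    obtain ⟨j, hj⟩ := mem_powers_iff_mem_zpowers.2 (hg (Units.mk0 t ht))
    have hi' : (g : K) ^ i = s := by
      have := congrArg (fun y : Kˣ => (y : K)) hi
      simpa using this
    have hj' : (g : K) ^ j = t := by
      have := congrArg (fun y : Kˣ => (y : K)) hj
      simpa using this
    obtain ⟨z, hz, e⟩ := k1 i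
    obtain ⟨y, hy, e'⟩ := k1 j
    rw [← hi', ← hj', e, e']
    have k3 := mem_center_iff.1 hz
    have k4 := mem_center_iff.1 hy
    calc h (g : K) ^ i * z * (h (g : K) ^ j * y) = h (g : K) ^ i * (z * (h (g : K) ^ j * y)) := by group
      _ = h (g : K) ^ i * ((h (g : K) ^ j * y) * z) := by rw [k3]
      _ = h (g : K) ^ (i + j) * (y * z) := by rw [pow_add]; group
      _ = h (g : K) ^ (j + i) * (y * z) := by rw [add_comm]
      _ = h (g : K) ^ j * (h (g : K) ^ i * y) * z := by rw [pow_add]; group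
      _ = h (g : K) ^ j * (y * h (g : K) ^ i) * z := by rw [k4]
      _ = h (g : K) ^ j * y * (h (g : K) ^ i * z) := by group
  intro r t hr ht
  rw [← hh, ← hh, ← hh]
  obtain ⟨s, rfl⟩ : ∃ s, s * s = r := by
    have : Function.Surjective (frobenius K 2) := (Finite.injective_iff_surjective).1 (frobenius K 2).injective
    obtain ⟨s, hs⟩ := this r
    exact ⟨s, by rw [← hs, frobenius_def, pow_two]⟩
  have hs : s ≠ 0 := fun e => hr (by rw [e, mul_zero])
  rw [e3 s t hs ht, e2 s hs, mul_assoc, ← e4 s t hs ht, ← mul_assoc]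

end rank

/-! ### The torus of a package of type `U₄` -/

section U4

open Cfsg.Agent.StdRank2.UFour

variable {F : Type v} [Field F] [Finite F] [CharP F 2] {B : Bar F}

theorem T_ext {p q : (stdU0 F B.s B.invol).T} (h : p.c = q.c) : p = q := by
  ext
  exact h

theorem fx (p : (stdU0 F B.s B.invol).T) : B.s p.c = p.c := by
  have h : p.c + B.s p.c = 0 := p.ok
  exact (CharTwo.add_eq_zero.1 h).symm

/-- the element with coordinate `c` -/
def el (c : F) (h : B.s c = c) : (stdU0 F B.s B.invol).T :=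
  ⟨(), c, show c + B.s c = 0 by rw [h, CharTwo.add_self_eq_zero]⟩

theorem mul_self (p : (stdU0 F B.s B.invol).T) : p * p = 1 := T_ext (by
  show p.c + p.c - 0 = 0
  rw [CharTwo.add_self_eq_zero, sub_zero])

variable {A : Type u} [Group A] {m : B2Maps (stdU0 F B.s B.invol) A}

/-- `g` scales the four simple families -/
structure Scl (m : B2Maps (stdU0 F B.s B.invol) A) (g : A) (α γ : F) : Prop where
  a0 : α ≠ 0
  g0 : γ ≠ 0
  fix : B.s γ = γ
  x : ∀ a, g * m.x a * g⁻¹ = m.x (α * a)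
  x' : ∀ a, g * m.x' a * g⁻¹ = m.x' (α⁻¹ * a)
  z : ∀ p q : (stdU0 F B.s B.invol).T, q.c = γ * p.c → g * m.z₂ p * g⁻¹ = m.z₂ q
  z' : ∀ p q : (stdU0 F B.s B.invol).T, q.c = γ⁻¹ * p.c → g * m.z₂' p * g⁻¹ = m.z₂' q

theorem Scl.mul {g k : A} {α γ α' γ' : F} (h : Scl m g α γ) (h' : Scl m k α' γ') : Scl m (g * k) (α * α') (γ * γ') where
  a0 := mul_ne_zero h.a0 h'.a0
  g0 := mul_ne_zero h.g0 h'.g0
  fix := by rw [map_mul, h.fix, h'.fix]
  x a := by
    rw [show g * k * m.x a * (g * k)⁻¹ = g * (k * m.x a * k⁻¹) * g⁻¹ by group, h'.x, h.x, mul_assoc]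
  x' a := by
    rw [show g * k * m.x' a * (g * k)⁻¹ = g * (k * m.x' a * k⁻¹) * g⁻¹ by group, h'.x', h.x', mul_inv, mul_assoc]
  z p q e := by
    have e1 : B.s (γ' * p.c) = γ' * p.c := by rw [map_mul, h'.fix, fx]
    rw [show g * k * m.z₂ p * (g * k)⁻¹ = g * (k * m.z₂ p * k⁻¹) * g⁻¹ by group, h'.z p (el (γ' * p.c) e1) rfl,
      h.z (el (γ' * p.c) e1) q (by rw [e]; exact mul_assoc _ _ _)]
  z' p q e := by
    have e1 : B.s (γ'⁻¹ * p.c) = γ'⁻¹ * p.c := by rw [map_mul, map_inv₀, h'.fix, fx]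
    rw [show g * k * m.z₂' p * (g * k)⁻¹ = g * (k * m.z₂' p * k⁻¹) * g⁻¹ by group, h'.z' p (el (γ'⁻¹ * p.c) e1) rfl,
      h.z' (el (γ'⁻¹ * p.c) e1) q (by rw [e, mul_inv]; exact mul_assoc _ _ _)]

theorem Scl.inv {g : A} {α γ : F} (h : Scl m g α γ) : Scl m g⁻¹ α⁻¹ γ⁻¹ where
  a0 := inv_ne_zero h.a0
  g0 := inv_ne_zero h.g0
  fix := by rw [map_inv₀, h.fix]
  x a := by
    have e := h.x (α⁻¹ * a)
    rw [← mul_assoc, mul_inv_cancel₀ h.a0, one_mul] at e
    rw [← e]; group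
  x' a := by
    have e := h.x' (α⁻¹⁻¹ * a)
    rw [← mul_assoc, mul_inv_cancel₀ (inv_ne_zero h.a0), one_mul] at e
    rw [← e]; group
  z p q e := by
    have e1 := h.z q p (by rw [e, ← mul_assoc, mul_inv_cancel₀ h.g0, one_mul])
    rw [← e1]; group
  z' p q e := by
    have e1 := h.z' q p (by rw [e, ← mul_assoc, mul_inv_cancel₀ (inv_ne_zero h.g0), one_mul])
    rw [← e1]; group

theorem nt_eq (s : F) : nt m s = m.x s * m.x' (-s⁻¹) * m.x s := rfl

theorem Scl.conj_nt {g : A} {α γ : F} (h : Scl m g α γ) (s : F) : g * nt m s * g⁻¹ = nt m (α * s) := by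
  rw [nt_eq, nt_eq]
  rw [show g * (m.x s * m.x' (-s⁻¹) * m.x s) * g⁻¹ = (g * m.x s * g⁻¹) * (g * m.x' (-s⁻¹) * g⁻¹) * (g * m.x s * g⁻¹) by group,
    h.x, h.x']
  congr 3
  rw [mul_inv, mul_neg]

theorem nII_eq (p : (stdU0 F B.s B.invol).T) (h0 : p.c ≠ 0) : m.nII p =
    m.z₂' (el p.c⁻¹ (by rw [map_inv₀, fx])) * m.z₂ p * m.z₂' (el p.c⁻¹ (by rw [map_inv₀, fx])) := by
  have e1 : (stdU0 F B.s B.invol).sc (-((stdU0 F B.s B.invol).σ p.c)⁻¹) p = el p.c⁻¹ (by rw [map_inv₀, fx]) := by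
    apply T_ext
    show -(B.s p.c)⁻¹ * B.s (-(B.s p.c)⁻¹) * p.c = p.c⁻¹
    rw [fx, map_neg, map_inv₀, fx]
    field_simp
  have e2 : (stdU0 F B.s B.invol).sc (-((stdU0 F B.s B.invol).ε * p.c⁻¹)) p = el p.c⁻¹ (by rw [map_inv₀, fx]) := by
    apply T_ext
    show -(1 * p.c⁻¹) * B.s (-(1 * p.c⁻¹)) * p.c = p.c⁻¹
    rw [map_neg, one_mul, map_inv₀, fx]
    field_simp
  unfold B2Maps.nII
  rw [e1, e2]

theorem Scl.conj_nII {g : A} {α γ : F} (h : Scl m g α γ) {p q : (stdU0 F B.s B.invol).T} (h0 : p.c ≠ 0) (e : q.c = γ * p.c) :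
    g * m.nII p * g⁻¹ = m.nII q := by
  have hq0 : q.c ≠ 0 := by rw [e]; exact mul_ne_zero h.g0 h0
  rw [nII_eq p h0, nII_eq q hq0]
  set a := m.z₂' (el p.c⁻¹ (by rw [map_inv₀, fx])) with ha
  rw [show g * (a * m.z₂ p * a) * g⁻¹ = (g * a * g⁻¹) * (g * m.z₂ p * g⁻¹) * (g * a * g⁻¹) by group, ha,
    h.z p q e, h.z' _ (el q.c⁻¹ (by rw [map_inv₀, fx])) (by
      show q.c⁻¹ = γ⁻¹ * p.c⁻¹
      rw [e, mul_inv])]

variable (S : Std (stdU0 F B.s B.invol) A)

theorem nt_sq (s : F) : nt S.m s * nt S.m s = 1 := by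
  have h := nt_neg S.rel s
  rw [CharTwo.neg_eq] at h
  exact mul_eq_one_iff_eq_inv.2 h

theorem z_sq (p : (stdU0 F B.s B.invol).T) : S.m.z₂ p * S.m.z₂ p = 1 := by
  have h1 : S.m.z₂ 1 = 1 := by
    have := S.rel.z₂_mul 1 1
    rw [one_mul] at this
    exact left_eq_mul.1 this
  rw [← S.rel.z₂_mul, mul_self, h1]

theorem z'_sq (p : (stdU0 F B.s B.invol).T) : S.m.z₂' p * S.m.z₂' p = 1 := by
  have h1 : S.m.z₂' 1 = 1 := by
    have := S.rel.z₂'_mul 1 1
    rw [one_mul] at this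
    exact left_eq_mul.1 this
  rw [← S.rel.z₂'_mul, mul_self, h1]

theorem nII_sq {p : (stdU0 F B.s B.invol).T} (hp : p.c ≠ 0) : S.m.nII p * S.m.nII p = 1 := by
  rw [nII_eq p hp]
  set a := S.m.z₂' (el p.c⁻¹ (by rw [map_inv₀, fx])) with ha
  have h1 : a * a = 1 := z'_sq S _
  have h2 := z_sq S p
  calc a * S.m.z₂ p * a * (a * S.m.z₂ p * a) = a * S.m.z₂ p * (a * a) * S.m.z₂ p * a := by group
    _ = a * (S.m.z₂ p * S.m.z₂ p) * a := by rw [h1]; group
    _ = 1 := by rw [h2, mul_one, h1]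

theorem hI_eq (s : F) : hI S.m s = nt S.m s * nt S.m 1 := by
  unfold hI
  rw [inv_eq_of_mul_eq_one_right (nt_sq S 1)]

theorem hII_eq {p q : (stdU0 F B.s B.invol).T} (hq : q.c ≠ 0) : hII S.m p q = S.m.nII p * S.m.nII q := by
  unfold hII
  rw [inv_eq_of_mul_eq_one_right (nII_sq S hq)]

theorem scl_hI {s : F} (hs : s ≠ 0) : Scl S.m (nt S.m s * nt S.m 1) (s * s) ((s * B.s s)⁻¹) where
  a0 := mul_ne_zero hs hs
  g0 := inv_ne_zero (mul_ne_zero hs ((map_ne_zero _).2 hs))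
  fix := by rw [map_inv₀, map_mul, B.invol, mul_comm]
  x a := by rw [← hI_eq]; exact hI_x S.rel S.hp₀ hs a
  x' a := by rw [← hI_eq, hI_x' S.rel S.hp₀ hs a, mul_inv]
  z p q e := by
    rw [← hI_eq, hI_z₂ S.rel hs p]
    congr 1
    apply T_ext
    show s⁻¹ * B.s s⁻¹ * p.c = q.c
    rw [e, map_inv₀, mul_inv]
  z' p q e := by
    rw [← hI_eq, hI_z₂' S.rel S.hp₀ hs p]
    congr 1
    apply T_ext
    show B.s s * B.s (B.s s) * p.c = q.c
    rw [e, inv_inv, B.invol, mul_comm (B.s s)]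

theorem scl_hII {p q : (stdU0 F B.s B.invol).T} (hp : p.c ≠ 0) (hq : q.c ≠ 0) :
    Scl S.m (S.m.nII p * S.m.nII q) (p.c⁻¹ * q.c) ((p.c * q.c⁻¹) * (p.c * q.c⁻¹)) where
  a0 := mul_ne_zero (inv_ne_zero hp) hq
  g0 := mul_ne_zero (mul_ne_zero hp (inv_ne_zero hq)) (mul_ne_zero hp (inv_ne_zero hq))
  fix := by simp only [map_mul, map_inv₀, fx]
  x a := by rw [← hII_eq S hq]; exact hII_x S.rel hp hq a
  x' a := by rw [← hII_eq S hq, hII_x' S.rel hp hq a, mul_inv, inv_inv]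
  z r q' e := by
    rw [← hII_eq S hq, hII_z₂ S.rel hp hq r]
    congr 1
    apply T_ext
    show p.c * q.c⁻¹ * B.s (p.c * q.c⁻¹) * r.c = q'.c
    rw [e, map_mul, map_inv₀, fx, fx]
  z' r q' e := by
    rw [← hII_eq S hq, hII_z₂' S.rel hp hq r]
    congr 1
    apply T_ext
    show (B.s p.c)⁻¹ * B.s q.c * B.s ((B.s p.c)⁻¹ * B.s q.c) * r.c = q'.c
    rw [e, map_mul, map_inv₀, fx, fx, fx, fx]
    simp only [mul_inv, inv_inv]

theorem mem_center_of_scl {g : A} (h : Scl S.m g 1 1) : g ∈ center A := by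
  refine Std.mem_center S (fun a => ?_) (fun a => ?_) (fun a => ?_) (fun a => ?_)
  · rw [h.x, one_mul]
  · rw [h.x', inv_one, one_mul]
  · exact h.z a a (by rw [one_mul])
  · exact h.z' a a (by rw [inv_one, one_mul])

theorem mulI (s t : F) (hs : s ≠ 0) (ht : t ≠ 0) :
    nt S.m (s * t) * nt S.m 1 = (nt S.m s * nt S.m 1) * (nt S.m t * nt S.m 1) := by
  refine torus_mul (n := nt S.m) (fun s _ => nt_sq S s) (fun s t hs ht => (scl_hI S hs).conj_nt t) (fun s t hs ht => ?_) s t hs ht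
  apply mem_center_of_scl S
  have h := ((scl_hI S hs).mul (scl_hI S ht)).mul (scl_hI S (mul_ne_zero hs ht)).inv
  have hs' : B.s s ≠ 0 := (map_ne_zero _).2 hs
  have ht' : B.s t ≠ 0 := (map_ne_zero _).2 ht
  have e1 : s * s * (t * t) * (s * t * (s * t))⁻¹ = 1 := by field_simp
  have e2 : (s * B.s s)⁻¹ * (t * B.s t)⁻¹ * (s * t * B.s (s * t))⁻¹⁻¹ = 1 := by
    rw [map_mul]; field_simp
  rwa [e1, e2] at h

/-- the type II torus -/
noncomputable def nk (c : B.K) : A := S.m.nII (el (c : F) c.2)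

theorem mulII (s t : B.K) (hs : s ≠ 0) (ht : t ≠ 0) : nk S (s * t) * nk S 1 = (nk S s * nk S 1) * (nk S t * nk S 1) := by
  have hne : ∀ c : B.K, c ≠ 0 → (c : F) ≠ 0 := fun c hc e => hc (Subtype.ext e)
  have hscl : ∀ c : B.K, c ≠ 0 → Scl S.m (nk S c * nk S 1) ((c : F)⁻¹) ((c : F) * c) := by
    intro c hc
    have h := scl_hII S (p := el (c : F) c.2) (q := el ((1 : B.K) : F) (1 : B.K).2) (hne c hc) (hne 1 one_ne_zero)
    have e1 : (el (c : F) c.2 : (stdU0 F B.s B.invol).T).c⁻¹ * (el ((1 : B.K) : F) (1 : B.K).2 : (stdU0 F B.s B.invol).T).c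
        = (c : F)⁻¹ := by
      show (c : F)⁻¹ * ((1 : B.K) : F) = (c : F)⁻¹
      rw [show ((1 : B.K) : F) = 1 from rfl, mul_one]
    have e2 : (el (c : F) c.2 : (stdU0 F B.s B.invol).T).c * ((el ((1 : B.K) : F) (1 : B.K).2 : (stdU0 F B.s B.invol).T).c)⁻¹
        = (c : F) := by
      show (c : F) * (((1 : B.K) : F))⁻¹ = (c : F)
      rw [show ((1 : B.K) : F) = 1 from rfl, inv_one, mul_one]
    rw [e1, e2] at h
    exact h
  refine torus_mul (n := nk S) (fun s hs => nII_sq S (hne s hs)) (fun s t hs ht => ?_) (fun s t hs ht => ?_) s t hs ht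
  · exact (hscl s hs).conj_nII (hne t ht) (by show ((s * s * t : B.K) : F) = s * s * t; push_cast; ring)
  · apply mem_center_of_scl S
    have h := ((hscl s hs).mul (hscl t ht)).mul (hscl (s * t) (mul_ne_zero hs ht)).inv
    have hs' := hne s hs
    have ht' := hne t ht
    have e1 : (s : F)⁻¹ * (t : F)⁻¹ * (((s * t : B.K) : F)⁻¹)⁻¹ = 1 := by push_cast; field_simp
    have e2 : (s : F) * s * (t * t) * (((s * t : B.K) : F) * ((s * t : B.K) : F))⁻¹ = 1 := by push_cast; field_simp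
    rwa [e1, e2] at h

theorem scl_k {c : B.K} (hc : c ≠ 0) : Scl S.m (nk S c * nk S 1) ((c : F)⁻¹) ((c : F) * c) := by
  have hne : ∀ c : B.K, c ≠ 0 → (c : F) ≠ 0 := fun c hc e => hc (Subtype.ext e)
  have h := scl_hII S (p := el (c : F) c.2) (q := el ((1 : B.K) : F) (1 : B.K).2) (hne c hc) (hne 1 one_ne_zero)
  have e1 : (el (c : F) c.2 : (stdU0 F B.s B.invol).T).c⁻¹ * (el ((1 : B.K) : F) (1 : B.K).2 : (stdU0 F B.s B.invol).T).c
      = (c : F)⁻¹ := by
    show (c : F)⁻¹ * ((1 : B.K) : F) = (c : F)⁻¹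
    rw [show ((1 : B.K) : F) = 1 from rfl, mul_one]
  have e2 : (el (c : F) c.2 : (stdU0 F B.s B.invol).T).c * ((el ((1 : B.K) : F) (1 : B.K).2 : (stdU0 F B.s B.invol).T).c)⁻¹
      = (c : F) := by
    show (c : F) * (((1 : B.K) : F))⁻¹ = (c : F)
    rw [show ((1 : B.K) : F) = 1 from rfl, inv_one, mul_one]
  rw [e1, e2] at h
  exact h

theorem commI {s t : F} (hs : s ≠ 0) (ht : t ≠ 0) :
    (nt S.m s * nt S.m 1) * (nt S.m t * nt S.m 1) = (nt S.m t * nt S.m 1) * (nt S.m s * nt S.m 1) := by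
  rw [← mulI S s t hs ht, ← mulI S t s ht hs, mul_comm]

theorem commII {s : F} {c : B.K} (hs : s ≠ 0) (hc : c ≠ 0) :
    (nk S c * nk S 1) * (nt S.m s * nt S.m 1) = (nt S.m s * nt S.m 1) * (nk S c * nk S 1) := by
  have h := scl_k S hc
  set g := nk S c * nk S 1 with hg
  set α := (c : F)⁻¹ with hα
  have h1 : g * (nt S.m s * nt S.m 1) * g⁻¹ = nt S.m (α * s) * nt S.m α := by
    rw [show g * (nt S.m s * nt S.m 1) * g⁻¹ = (g * nt S.m s * g⁻¹) * (g * nt S.m 1 * g⁻¹) by group, h.conj_nt, h.conj_nt,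
      mul_one]
  have h2 : nt S.m (α * s) * nt S.m α = nt S.m s * nt S.m 1 := by
    have k1 := mulI S s α hs h.a0
    rw [mul_comm s α] at k1
    have k2 := nt_sq S α
    have k3 := nt_sq S 1
    calc nt S.m (α * s) * nt S.m α = (nt S.m (α * s) * nt S.m 1) * (nt S.m 1 * nt S.m α) * 1 := by
          rw [mul_one, show nt S.m (α * s) * nt S.m 1 * (nt S.m 1 * nt S.m α)
            = nt S.m (α * s) * (nt S.m 1 * nt S.m 1) * nt S.m α by group, k3, mul_one]
      _ = (nt S.m s * nt S.m 1) * (nt S.m α * nt S.m 1) * (nt S.m 1 * nt S.m α) * 1 := by rw [k1]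
      _ = (nt S.m s * nt S.m 1) * (nt S.m α * (nt S.m 1 * nt S.m 1) * nt S.m α) := by group
      _ = nt S.m s * nt S.m 1 := by rw [k3, mul_one, k2, mul_one]
  rw [h2] at h1
  exact mul_inv_eq_iff_eq_mul.1 h1

/-- the elements of the torus -/
theorem exists_of_mem_H {g : A} (hg : g ∈ S.H) : ∃ s : F, s ≠ 0 ∧ ∃ c : B.K, c ≠ 0 ∧
    g = (nt S.m s * nt S.m 1) * (nk S c * nk S 1) := by
  have hne : ∀ c : B.K, c ≠ 0 → (c : F) ≠ 0 := fun c hc e => hc (Subtype.ext e)
  have hI1 : nt S.m 1 * nt S.m 1 = 1 := nt_sq S 1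
  have hk1 : nk S 1 * nk S 1 = 1 := nII_sq S (hne 1 one_ne_zero)
  -- inverses
  have invI : ∀ s : F, s ≠ 0 → (nt S.m s * nt S.m 1)⁻¹ = nt S.m s⁻¹ * nt S.m 1 := by
    intro s hs
    rw [inv_eq_iff_mul_eq_one, ← mulI S s s⁻¹ hs (inv_ne_zero hs), mul_inv_cancel₀ hs, hI1]
  have invk : ∀ c : B.K, c ≠ 0 → (nk S c * nk S 1)⁻¹ = nk S c⁻¹ * nk S 1 := by
    intro c hc
    rw [inv_eq_iff_mul_eq_one, ← mulII S c c⁻¹ hc (inv_ne_zero hc), mul_inv_cancel₀ hc, hk1]
  refine Subgroup.closure_induction (p := fun g _ => ∃ s : F, s ≠ 0 ∧ ∃ c : B.K, c ≠ 0 ∧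
    g = (nt S.m s * nt S.m 1) * (nk S c * nk S 1)) ?_ ?_ ?_ ?_ hg
  · rintro g (⟨s, t, hs, ht, rfl⟩ | ⟨p, q, hp, hq, rfl⟩)
    · refine ⟨s * t⁻¹, mul_ne_zero hs (inv_ne_zero ht), 1, one_ne_zero, ?_⟩
      rw [hk1, mul_one, mulI S s t⁻¹ hs (inv_ne_zero ht), ← invI t ht, mul_inv_rev]
      calc nt S.m s * (nt S.m t)⁻¹ = nt S.m s * (nt S.m 1 * (nt S.m 1)⁻¹) * (nt S.m t)⁻¹ := by group
        _ = _ := by group
    · let cp : B.K := ⟨p.c, fx p⟩
      let cq : B.K := ⟨q.c, fx q⟩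
      have hp' : nk S cp = S.m.nII p := by
        unfold nk
        congr 1
      have hq' : nk S cq = S.m.nII q := by
        unfold nk
        congr 1
      have hcp : cp ≠ 0 := fun e => hp (congrArg Subtype.val e)
      have hcq : cq ≠ 0 := fun e => hq (congrArg Subtype.val e)
      refine ⟨1, one_ne_zero, cp * cq⁻¹, mul_ne_zero hcp (inv_ne_zero hcq), ?_⟩
      rw [hI1, one_mul, mulII S cp cq⁻¹ hcp (inv_ne_zero hcq), ← invk cq hcq, hp', hq', mul_inv_rev]
      group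
  · exact ⟨1, one_ne_zero, 1, one_ne_zero, by rw [hI1, hk1, one_mul]⟩
  · rintro g k - - ⟨s, hs, c, hc, rfl⟩ ⟨t, ht, d, hd, rfl⟩
    refine ⟨s * t, mul_ne_zero hs ht, c * d, mul_ne_zero hc hd, ?_⟩
    rw [mulI S s t hs ht, mulII S c d hc hd]
    have h1 := commII S ht hc
    set a := nt S.m s * nt S.m 1
    set b := nt S.m t * nt S.m 1
    set e := nk S c * nk S 1
    set f := nk S d * nk S 1
    calc a * e * (b * f) = a * (e * b) * f := by group
      _ = a * (b * e) * f := by rw [h1]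
      _ = a * b * (e * f) := by group
  · rintro g - ⟨s, hs, c, hc, rfl⟩
    refine ⟨s⁻¹, inv_ne_zero hs, c⁻¹, inv_ne_zero hc, ?_⟩
    rw [mul_inv_rev, invI s hs, invk c hc]
    exact commII S (inv_ne_zero hs) (inv_ne_zero hc)

include S in
/-- **A group with a package of type `U₄`, characteristic two, and a centre of odd order has a trivial centre.** -/
theorem center_eq_bot [Finite A] (hZ : Odd (Nat.card (center A))) : center A = ⊥ := by
  have hSc := scal_U0 (F := F) B.s B.invol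
  rw [eq_bot_iff]
  intro z hz
  rw [mem_bot]
  have hne : ∀ c : B.K, c ≠ 0 → (c : F) ≠ 0 := fun c hc e => hc (Subtype.ext e)
  have hfT : Finite (stdU0 F B.s B.invol).T := Finite.of_injective (fun p => p.c) fun p q h => T_ext h
  -- `z` is in the torus
  have h1 : z ∈ S.U ⊔ S.H := by
    rw [← Std.normalizer_U S]
    exact Subgroup.center_le_normalizer _ hz
  have hnU : S.H ≤ normalizer (S.U : Set A) := by rw [Std.normalizer_U S]; exact le_sup_right
  have h2 : z ∈ S.H := by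
    rw [← SetLike.mem_coe, Subgroup.coe_mul_of_right_le_normalizer_left _ _ hnU] at h1
    obtain ⟨u, hu, k, hk, hzuk⟩ := h1
    have hzuk : u * k = z := hzuk
    have hzc := mem_center_iff.1 hz
    have e1 : u = z * k⁻¹ := by rw [← hzuk]; group
    have hodd := Std.odd_card_H S hSc hZ
    have e2 : u ^ (Nat.card (center A) * Nat.card S.H) = 1 := by
      have hcm : Commute z k⁻¹ := (hzc k⁻¹).symm
      rw [e1, hcm.mul_pow, pow_mul, pow_mul' k⁻¹]
      have k1 : z ^ Nat.card (center A) = 1 := congrArg Subtype.val (pow_card_eq_one' (x := (⟨z, hz⟩ : center A)))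
      have k2 : k⁻¹ ^ Nat.card S.H = 1 := congrArg Subtype.val (pow_card_eq_one' (x := (⟨k⁻¹, inv_mem hk⟩ : S.H)))
      rw [k1, k2, one_pow, one_pow, one_mul]
    obtain ⟨n, hn⟩ := isTwo_of_mem_UU S.rel (show u ∈ UU S.m from hu)
    have e3 : orderOf u ∣ 1 := by
      have k1 := orderOf_dvd_of_pow_eq_one e2
      have k2 := orderOf_dvd_of_pow_eq_one hn
      have k3 : Nat.Coprime (2 ^ n) (Nat.card (center A) * Nat.card S.H) :=
        Nat.Coprime.pow_left n ((Nat.coprime_two_left).2 (hZ.mul hodd))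
      rw [← k3]
      exact Nat.dvd_gcd k2 k1
    have e4 : u = 1 := orderOf_eq_one_iff.1 (Nat.dvd_one.1 e3)
    rw [← hzuk, e4, one_mul]
    exact hk
  obtain ⟨s, hs, c, hc, rfl⟩ := exists_of_mem_H S h2
  have h3 := (scl_hI S hs).mul (scl_k S hc)
  set g := (nt S.m s * nt S.m 1) * (nk S c * nk S 1) with hg
  have hgc := mem_center_iff.1 hz
  -- action on `x`
  have h4 : s * s = c := by
    have k1 := h3.x 1
    rw [← hgc (S.m.x 1), mul_inv_cancel_right] at k1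
    have k2 := S.x_injective k1
    rw [mul_one] at k2
    have := hne c hc
    field_simp at k2
    rw [pow_two] at k2
    exact k2.symm
  -- action on `z₂`
  have hss : B.s s = s := by
    have k1 : B.s (s * s) = s * s := by rw [h4]; exact c.2
    rw [map_mul] at k1
    exact (frobenius F 2).injective (by rw [frobenius_def, frobenius_def, pow_two, pow_two]; exact k1)
  have h5 : s = 1 := by
    have e0 : B.s ((s * B.s s)⁻¹ * ((c : F) * c)) = (s * B.s s)⁻¹ * ((c : F) * c) := h3.fix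
    have k1 := h3.z (el 1 (map_one _)) (el _ e0) (by show _ = _ * (1 : F); rw [mul_one]; rfl)
    rw [← hgc (S.m.z₂ _), mul_inv_cancel_right] at k1
    have k2 := congrArg PQDatum.T.c (S.z₂_injective k1)
    have k3 : (1 : F) = (s * B.s s)⁻¹ * ((c : F) * c) := k2
    rw [hss, ← h4] at k3
    have k4 : s * s = 1 * 1 := by
      field_simp at k3
      rw [one_mul, ← pow_two]
      exact k3.symm
    exact (frobenius F 2).injective (by rw [frobenius_def, frobenius_def, pow_two, pow_two]; exact k4)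
  have h6 : c = 1 := by
    apply Subtype.ext
    rw [← h4, h5, one_mul]
    rfl
  rw [hg, h5, h6, nt_sq, one_mul]
  exact nII_sq S (hne 1 one_ne_zero)

end U4

/-- **`U₄(q)`, `q` even.** -/
theorem noOddExt_U4 {F : Type v} [Field F] [Fintype F] [CharP F 2] {q : ℕ} (hF : Fintype.card F = q ^ 2)
    (hs : IsSimpleGroup (Cfsg.PSU 4 F q)) (hnc : ¬ IsMulCommutative (Cfsg.PSU 4 F q)) :
    NoOddExt.{u} (Cfsg.PSU 4 F q) := by
  intro X _ _ hp f hf hc ho
  have hK : center (Cfsg.PSU 4 F q) = ⊥ := Cfsg.Agent.H293.G2Odd.center_eq_bot hs hnc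
  have h1 : center X = f.ker := by
    rw [Cfsg.Agent.H293.G2Odd.center_eq_comap hp hf hc, hK]
    rfl
  obtain ⟨e⟩ := Cfsg.Agent.H293.G2Odd.nonempty_quot_center hp hf hc
  obtain ⟨S⟩ := exists_U4 hF hp (by rw [h1]; exact ho) (e.trans (Cfsg.Agent.H293.G2Odd.quotBot hK))
  have h2 := center_eq_bot S (by rw [h1]; exact ho)
  exact (MonoidHom.ker_eq_bot_iff f).1 (by rw [← h1]; exact h2)

end Cfsg.Agent.H294.MulU4
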