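import Cfsg.Agent.H334.Sp4.TIso
import Cfsg.Agent.H334.Sp4.Cent2
import Cfsg.Agent.SylowSp4.Recog
import Cfsg.Agent.H815.RankL4Inst
/-!
# `U₄(2)` is not a subgroup of `PSp₄(2^f)` (helper294)

The Sylow 3-subgroups of `PSp₄(K)`, `K` of characteristic two, are abelian.
-/

set_option autoImplicit false
set_option linter.unusedSectionVars false

namespace Cfsg.Agent.H294.SpThree

open Subgroup Cfsg Cfsg.Agent.H334.Sp4 Cfsg.Agent.H339 Cfsg.Agent.H334.Symp Cfsg.Agent.H334.Symp.El

universe u v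

section PSp

variable {K : Type*} [Field K]

/-- 3-subgroups of `SL(2,K)` are abelian -/
theorem sl_three [Finite K] (h3 : (2 : K) = 0) {R : Subgroup (Matrix.SpecialLinearGroup (Fin 2) K)} (hR : IsPGroup 3 R) :
    ∀ x ∈ R, ∀ y ∈ R, x * y = y * x := by
  have : Fact (Nat.Prime 3) := ⟨Nat.prime_three⟩
  intro x hx y hy
  by_contra hne
  have hnt : Nontrivial R := ⟨⟨⟨x, hx⟩, ⟨y, hy⟩, fun h => hne (by rw [show x = y from congrArg Subtype.val h])⟩⟩
  have hc := hR.center_nontrivial
  obtain ⟨⟨z, hz⟩, hz1⟩ := exists_ne (1 : Subgroup.center R)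
  have hzc : ∀ y (hy : y ∈ R), (z : Matrix.SpecialLinearGroup (Fin 2) K) * y = y * z := fun y hy =>
    (congrArg Subtype.val (mem_center_iff.1 hz ⟨y, hy⟩)).symm
  have hz1' : (z : Matrix.SpecialLinearGroup (Fin 2) K) ≠ 1 := fun h => hz1 (Subtype.ext (Subtype.ext h))
  rcases sl_cent (hzc x hx) (hzc y hy) hne with h | h
  · exact hz1' h
  · obtain ⟨n, hn⟩ := hR z
    have h1 : (z : Matrix.SpecialLinearGroup (Fin 2) K) ^ 3 ^ n = 1 := congrArg Subtype.val hn
    rw [h] at h1
    have h2 : Odd (3 ^ n) := Odd.pow (by decide)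
    rw [h2.neg_one_pow] at h1
    exact hz1' (h.trans h1)

theorem card_PSp_even [Fintype K] (hF : Even (Fintype.card K)) :
    Nat.card (Cfsg.PSp 2 K) =
      Fintype.card K ^ 4 * ((Fintype.card K ^ 2 - 1) * (Fintype.card K ^ 4 - 1)) := by
  have h := Subgroup.card_eq_card_quotient_mul_card_subgroup (Subgroup.center (Matrix.symplecticGroup (Fin 2) K))
  rw [LieClassical.SympCenter.card_center (by norm_num : 1 ≤ 2), LieClassical.SympCount.card_symplecticGroup] at h
  have h2 : Nat.gcd 2 (Fintype.card K - 1) = 1 := by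
    have h1 : 1 < Fintype.card K := Fintype.one_lt_card
    have h3 : Odd (Fintype.card K - 1) := Nat.Even.sub_odd h1.le hF odd_one
    exact (Nat.coprime_two_left).2 h3
  rw [h2, Finset.prod_range_succ, Finset.prod_range_succ, Finset.prod_range_zero, one_mul, mul_one] at h
  exact h.symm

/-- the Sylow 3-subgroups of `PSp(4,K)`, `char K = 2`, are abelian -/
theorem psp_three_even [Fintype K] [CharP K 2] :
    ∃ R : Sylow 3 (Cfsg.PSp 2 K), ∀ x ∈ (R : Subgroup (Cfsg.PSp 2 K)), ∀ y ∈ (R : Subgroup (Cfsg.PSp 2 K)), x * y = y * x := by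
  classical
  have h3p : Fact (Nat.Prime 3) := ⟨Nat.prime_three⟩
  have h2 : (2 : K) = 0 := by exact_mod_cast CharP.cast_eq_zero K 2
  have heven : Even (Fintype.card K) := by
    obtain ⟨n, -, h⟩ := FiniteField.card K 2
    rw [h]
    exact Nat.even_pow.2 ⟨even_two, n.pos.ne'⟩
  have h3 : ¬ 3 ∣ Fintype.card K := by
    obtain ⟨n, -, h⟩ := FiniteField.card K 2
    rw [h]
    intro h'
    exact absurd (Nat.prime_three.dvd_of_dvd_pow h') (by norm_num)
  have T : Sylow 3 (Matrix.SpecialLinearGroup (Fin 2) K) := default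
  have hTab := sl_three h2 T.isPGroup'
  let Φ : Matrix.SpecialLinearGroup (Fin 2) K × Matrix.SpecialLinearGroup (Fin 2) K →* Cfsg.PSp 2 K :=
    { toFun := fun p => (QuotientGroup.mk (Cfsg.Agent.SylowSp4.Recog.emb p.1 p.2) : Cfsg.PSp 2 K)
      map_one' := by
        show (QuotientGroup.mk (Cfsg.Agent.SylowSp4.Recog.emb 1 1) : Cfsg.PSp 2 K) = 1
        rw [Cfsg.Agent.SylowSp4.Recog.emb_one]; rfl
      map_mul' := by
        rintro ⟨a, b⟩ ⟨c, d⟩
        show (QuotientGroup.mk (Cfsg.Agent.SylowSp4.Recog.emb (a * c) (b * d)) : Cfsg.PSp 2 K) = _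
        rw [← Cfsg.Agent.SylowSp4.Recog.emb_mul]; rfl }
  let T2 : Subgroup (Matrix.SpecialLinearGroup (Fin 2) K × Matrix.SpecialLinearGroup (Fin 2) K) :=
    (T : Subgroup (Matrix.SpecialLinearGroup (Fin 2) K)).prod (T : Subgroup (Matrix.SpecialLinearGroup (Fin 2) K))
  have hneg : (-1 : Matrix (Fin 2) (Fin 2) K) = 1 := by
    have h1 : (-1 : K) = 1 := by linear_combination -h2
    ext i j
    fin_cases i <;> fin_cases j <;> simp [h1]
  have hinj : Function.Injective (Φ.comp T2.subtype) := by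
    rw [injective_iff_map_eq_one]
    rintro ⟨⟨A, B⟩, hA, hB⟩ h
    have h1 : Cfsg.Agent.SylowSp4.Recog.emb A B ∈ Subgroup.center (Matrix.symplecticGroup (Fin 2) K) :=
      (QuotientGroup.eq_one_iff _).1 h
    rcases Cfsg.Agent.SylowSp4.Recog.emb_mem_center h1 with ⟨h5, h6⟩ | ⟨h5, h6⟩
    · subst h5; subst h6; rfl
    · rw [hneg] at h5 h6
      obtain rfl : A = 1 := Subtype.ext h5
      obtain rfl : B = 1 := Subtype.ext h6
      rfl
  let R : Subgroup (Cfsg.PSp 2 K) := (Φ.comp T2.subtype).range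
  have hcard : Nat.card R = Nat.card T ^ 2 := by
    rw [Nat.card_congr (MonoidHom.ofInjective hinj).symm.toEquiv, Nat.card_congr (Subgroup.prodEquiv _ _).toEquiv,
      Nat.card_prod, pow_two]
  have hab : ∀ x ∈ R, ∀ y ∈ R, x * y = y * x := by
    rintro _ ⟨⟨⟨A, B⟩, hA, hB⟩, rfl⟩ _ ⟨⟨⟨C, D⟩, hC, hD⟩, rfl⟩
    rw [← map_mul, ← map_mul]
    congr 1
    apply Subtype.ext
    exact Prod.ext (hTab A hA C hC) (hTab B hB D hD)
  obtain ⟨n, hn⟩ := IsPGroup.iff_card.1 T.isPGroup'
  have hRp : IsPGroup 3 R := IsPGroup.of_card (n := n * 2) (by rw [hcard, hn, ← pow_mul])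
  have hidx : ¬ 3 ∣ R.index := by
    intro hdvd
    have h1 := R.card_mul_index
    have h4 := card_PSp_even heven
    have h5 := (T : Subgroup (Matrix.SpecialLinearGroup (Fin 2) K)).card_mul_index
    have h6 := T.not_dvd_index
    rw [Cfsg.Agent.ClassicalGeometry.PSL2Basic.card_SL2] at h5
    rw [← h1, hcard] at h4
    set q := Fintype.card K with hq
    set i := (T : Subgroup (Matrix.SpecialLinearGroup (Fin 2) K)).index with hi
    have hq1 : 1 ≤ q := Fintype.card_pos
    have h7 : q ^ 4 - 1 = (q ^ 2 - 1) * (q ^ 2 + 1) := by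
      have : 1 ≤ q ^ 2 := Nat.one_le_pow _ _ hq1
      zify [this, Nat.one_le_pow 4 q hq1]
      ring
    have h8 : Nat.card T ^ 2 * R.index = Nat.card T ^ 2 * (q ^ 2 * i ^ 2 * (q ^ 2 + 1)) := by
      have e1 : q ^ 4 * ((q ^ 2 - 1) * (q ^ 4 - 1)) = q ^ 2 * (q * (q ^ 2 - 1)) ^ 2 * (q ^ 2 + 1) := by
        rw [h7]; ring
      rw [e1, ← h5] at h4
      linear_combination h4
    have hTpos : 0 < Nat.card T ^ 2 := by rw [hn]; positivity
    have h9 := Nat.eq_of_mul_eq_mul_left hTpos h8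
    have h10 : 3 ∣ q ^ 2 * i ^ 2 * (q ^ 2 + 1) := by
      rw [← h9]
      exact hdvd
    rcases (Nat.Prime.dvd_mul Nat.prime_three).1 h10 with h11 | h11
    · rcases (Nat.Prime.dvd_mul Nat.prime_three).1 h11 with h12 | h12
      · exact h3 (Nat.prime_three.dvd_of_dvd_pow h12)
      · exact h6 (Nat.prime_three.dvd_of_dvd_pow h12)
    · have h12 : q % 3 = 1 ∨ q % 3 = 2 := by omega
      have h13 : (q ^ 2 + 1) % 3 = 2 := by
        rcases h12 with h | h <;> rw [Nat.add_mod, Nat.pow_mod, h]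
      omega
  exact ⟨hRp.toSylow hidx, hab⟩

end PSp

/-! ### Heisenberg configurations -/

theorem comm_of_heis {M : Type*} [Group M] [Finite M] {R : Sylow 3 M}
    (hR : ∀ x ∈ (R : Subgroup M), ∀ y ∈ (R : Subgroup M), x * y = y * x) {a b z : M} (ha : a ^ 3 = 1) (hb : b ^ 3 = 1)
    (hz : z ^ 3 = 1) (hab : a * b = z * (b * a)) (hza : z * a = a * z) (hzb : z * b = b * z) : z = 1 := by
  have h3p : Fact (Nat.Prime 3) := ⟨Nat.prime_three⟩
  have hp : ∀ x : M, x ^ 3 = 1 → IsPGroup 3 (zpowers x) := by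
    intro x hx
    rcases (Nat.dvd_prime Nat.prime_three).1 (orderOf_dvd_of_pow_eq_one hx) with h | h
    · exact IsPGroup.of_card (n := 0) (by rw [Nat.card_zpowers, h, pow_zero])
    · exact IsPGroup.of_card (n := 1) (by rw [Nat.card_zpowers, h, pow_one])
  have h1 : IsPGroup 3 ↥(zpowers a ⊔ zpowers z) := by
    refine (hp a ha).to_sup_of_normal_right' (hp z hz) ?_
    rw [zpowers_le, mem_normalizer_iff]
    intro h
    rw [show a * h * a⁻¹ ∈ zpowers z ↔ h ∈ zpowers z from ?_]
    constructor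
    · intro h1
      obtain ⟨k, hk⟩ := mem_zpowers_iff.1 h1
      refine mem_zpowers_iff.2 ⟨k, ?_⟩
      have hc : Commute a (z ^ k) := (show Commute a z from hza.symm).zpow_right k
      have : h = a⁻¹ * z ^ k * a := by rw [hk]; group
      rw [this, mul_assoc, ← hc.eq]
      group
    · intro h1
      obtain ⟨k, hk⟩ := mem_zpowers_iff.1 h1
      refine mem_zpowers_iff.2 ⟨k, ?_⟩
      have hc : Commute a (z ^ k) := (show Commute a z from hza.symm).zpow_right k
      rw [← hk, hc.eq]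
      group
  have h2 : IsPGroup 3 ↥(zpowers b ⊔ (zpowers a ⊔ zpowers z)) := by
    refine (hp b hb).to_sup_of_normal_right' h1 ?_
    rw [zpowers_le]
    have hbn : ∀ y ∈ zpowers a ⊔ zpowers z, b * y * b⁻¹ ∈ zpowers a ⊔ zpowers z := by
      have hle : zpowers a ⊔ zpowers z ≤ (zpowers a ⊔ zpowers z).comap (MulAut.conj b).toMonoidHom := by
        rw [sup_le_iff, zpowers_le, zpowers_le]
        constructor
        · show b * a * b⁻¹ ∈ zpowers a ⊔ zpowers z
          have e : b * a * b⁻¹ = z⁻¹ * a := by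
            rw [mul_inv_eq_iff_eq_mul, mul_assoc, hab]; group
          rw [e]
          exact mul_mem (inv_mem (mem_sup_right (mem_zpowers z))) (mem_sup_left (mem_zpowers a))
        · show b * z * b⁻¹ ∈ zpowers a ⊔ zpowers z
          have e : b * z * b⁻¹ = z := by rw [← hzb]; group
          rw [e]
          exact mem_sup_right (mem_zpowers z)
      intro y hy
      exact hle hy
    exact mem_normalizer_fintype hbn
  obtain ⟨Q, hQ⟩ := h2.exists_le_sylow
  obtain ⟨g, hg⟩ := MulAction.exists_smul_eq M R Q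
  have hQR : ∀ x ∈ (Q : Subgroup M), ∀ y ∈ (Q : Subgroup M), x * y = y * x := by
    intro x hx y hy
    rw [← hg, Sylow.coe_subgroup_smul] at hx hy
    obtain ⟨x', hx', rfl⟩ := hx
    obtain ⟨y', hy', rfl⟩ := hy
    have := hR x' hx' y' hy'
    show (g * x' * g⁻¹) * (g * y' * g⁻¹) = (g * y' * g⁻¹) * (g * x' * g⁻¹)
    calc (g * x' * g⁻¹) * (g * y' * g⁻¹) = g * (x' * y') * g⁻¹ := by group
      _ = g * (y' * x') * g⁻¹ := by rw [this]
      _ = _ := by group
  have h3 := hQR a (hQ (mem_sup_right (mem_sup_left (mem_zpowers a)))) b (hQ (mem_sup_left (mem_zpowers b)))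
  rw [hab] at h3
  exact mul_eq_right.1 h3

section SU

open Matrix

variable {F : Type*} [Field F] [Fintype F]

/-- a diagonal matrix -/
def da (w : F) : Matrix (Fin 4) (Fin 4) F := diagonal ![1, w, w * w, 1]
/-- a permutation matrix -/
def pb (F : Type*) [Field F] : Matrix (Fin 4) (Fin 4) F := !![0, 0, 1, 0; 1, 0, 0, 0; 0, 1, 0, 0; 0, 0, 0, 1]
/-- the commutator -/
def dz (w : F) : Matrix (Fin 4) (Fin 4) F := diagonal ![w, w, w, 1]

theorem ab_eq {w : F} (hw : w * w * w = 1) : da w * pb F = dz w * (pb F * da w) := by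
  ext i j
  rw [da, dz, diagonal_mul, diagonal_mul, mul_diagonal]
  fin_cases i <;> fin_cases j <;> simp [pb, ← mul_assoc, hw]

theorem zb_eq {w : F} : dz w * pb F = pb F * dz w := by
  ext i j
  rw [dz, diagonal_mul, mul_diagonal]
  fin_cases i <;> fin_cases j <;> simp [pb]

theorem za_eq {w : F} : dz w * da w = da w * dz w := by
  rw [dz, da, diagonal_mul_diagonal, diagonal_mul_diagonal]
  congr 1
  ext i
  rw [mul_comm]

theorem pb_cube : pb F * pb F * pb F = 1 := by
  ext i j
  fin_cases i <;> fin_cases j <;> simp [pb, mul_apply, Fin.sum_univ_four]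

theorem da_cube {w : F} (hw : w * w * w = 1) : da w * da w * da w = 1 := by
  rw [da, diagonal_mul_diagonal, diagonal_mul_diagonal, ← diagonal_one]
  congr 1
  ext i
  fin_cases i <;> simp [hw]
  linear_combination (w * w * w + 1) * hw

theorem dz_cube {w : F} (hw : w * w * w = 1) : dz w * dz w * dz w = 1 := by
  rw [dz, diagonal_mul_diagonal, diagonal_mul_diagonal, ← diagonal_one]
  congr 1
  ext i
  fin_cases i <;> simp [hw]

theorem det_da {w : F} (hw : w * w * w = 1) : (da w).det = 1 := by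
  rw [da, det_diagonal, Fin.prod_univ_four]
  simp [← mul_assoc, hw]

theorem det_dz {w : F} (hw : w * w * w = 1) : (dz w).det = 1 := by
  rw [dz, det_diagonal, Fin.prod_univ_four]
  simp [hw]

theorem det_pb : (pb F).det = 1 := by
  simp [pb, det_succ_row_zero, Fin.sum_univ_succ, Fin.succAbove]

/-- **A Heisenberg group in `PSU₄(2)`.** -/
theorem exists_heis (hF : Fintype.card F = 4) : ∃ a b z : PSU 4 F 2, a ^ 3 = 1 ∧ b ^ 3 = 1 ∧ z ^ 3 = 1 ∧ z ≠ 1 ∧
    a * b = z * (b * a) ∧ z * a = a * z ∧ z * b = b * z := by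
  classical
  have hF2 : Fintype.card F = 2 ^ 2 := by rw [hF]; norm_num
  obtain ⟨w, hw0, hw1⟩ : ∃ w : F, w ≠ 0 ∧ w ≠ 1 := by
    by_contra hcon
    push Not at hcon
    have h1 : (Finset.univ : Finset F) ⊆ {0, 1} := by
      intro x _
      rw [Finset.mem_insert, Finset.mem_singleton]
      by_cases h : x = 0
      · exact Or.inl h
      · exact Or.inr (hcon x h)
    have h2 := Finset.card_le_card h1
    rw [Finset.card_univ, hF] at h2
    have h3 : ({0, 1} : Finset F).card ≤ 2 := Finset.card_le_two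
    omega
  have hw : w * w * w = 1 := by
    have h := FiniteField.pow_card_sub_one_eq_one w hw0
    rw [hF] at h
    rw [← h]; ring
  have key : ∀ (M : Matrix (Fin 4) (Fin 4) F) (hM : M.det = 1), Mᵀ * M.map (fun x => x ^ 2) = 1 →
      (⟨M, hM⟩ : SpecialLinearGroup (Fin 4) F) ∈ SU 4 F 2 := by
    intro M hM h
    exact (Cfsg.Agent.H815.RankL4.mem_SU_iff' hF2 ⟨M, hM⟩).2 h
  have ma := key (da w) (det_da hw) (by
    rw [da, diagonal_transpose, diagonal_map (by norm_num), diagonal_mul_diagonal, ← diagonal_one]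
    congr 1
    ext i
    fin_cases i <;> simp
    · linear_combination hw
    · linear_combination (w * w * w + 1) * hw)
  have mz := key (dz w) (det_dz hw) (by
    rw [dz, diagonal_transpose, diagonal_map (by norm_num), diagonal_mul_diagonal, ← diagonal_one]
    congr 1
    ext i
    fin_cases i <;> simp <;> linear_combination hw)
  have mb := key (pb F) det_pb (by
    ext i j
    fin_cases i <;> fin_cases j <;> simp [pb, mul_apply, Fin.sum_univ_four])
  let A : SU 4 F 2 := ⟨_, ma⟩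
  let B : SU 4 F 2 := ⟨_, mb⟩
  let Z : SU 4 F 2 := ⟨_, mz⟩
  let π : SU 4 F 2 →* PSU 4 F 2 := QuotientGroup.mk' _
  have cube : ∀ X : SU 4 F 2, X.1.1 * X.1.1 * X.1.1 = 1 → π X ^ 3 = 1 := by
    intro X hX
    rw [← map_pow]
    have h : X ^ 3 = 1 := by
      apply Subtype.ext
      apply Subtype.ext
      rw [pow_succ, pow_two]
      exact hX
    rw [h, map_one]
  refine ⟨π A, π B, π Z, cube A (da_cube hw), cube B pb_cube, cube Z (dz_cube hw), ?_, ?_, ?_, ?_⟩
  · intro h
    have h1 : Z ∈ Subgroup.center (SU 4 F 2) := (QuotientGroup.eq_one_iff Z).1 h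
    rw [LieClassical.SUBasic.mem_center_SU_iff hF2 (by norm_num)] at h1
    obtain ⟨c, hc, hc', h2⟩ := h1
    have h3 : dz w = diagonal (fun _ => c) := congrArg (fun X : SU 4 F 2 => X.1.1) h2
    have h4 := congrFun (diagonal_injective h3) 0
    have h5 := congrFun (diagonal_injective h3) 3
    exact hw1 (h4.trans h5.symm)
  · rw [← map_mul, ← map_mul, ← map_mul]
    congr 1
    exact Subtype.ext (Subtype.ext (ab_eq hw))
  · rw [← map_mul, ← map_mul]
    congr 1
    exact Subtype.ext (Subtype.ext za_eq)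
  · rw [← map_mul, ← map_mul]
    congr 1
    exact Subtype.ext (Subtype.ext zb_eq)

/-- **`U₄(2)` is not a subgroup of `PSp₄(2^f)`.** -/
theorem no_u4 (hF : Fintype.card F = 4) {K : Type*} [Field K] [Fintype K] [CharP K 2] {A : Type*} [Group A]
    (e : A ≃* PSU 4 F 2) (f : A →* PSp 2 K) (hf : Function.Injective f) : False := by
  obtain ⟨R, hR⟩ := psp_three_even (K := K)
  obtain ⟨a, b, z, ha, hb, hz, hz1, hab, hza, hzb⟩ := exists_heis hF
  have hfin : Finite (PSp 2 K) := Finite.of_surjective _ (QuotientGroup.mk'_surjective _)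
  let g : PSU 4 F 2 →* PSp 2 K := f.comp e.symm.toMonoidHom
  have hg : Function.Injective g := hf.comp e.symm.injective
  apply hz1
  apply hg
  rw [map_one]
  refine comm_of_heis hR (a := g a) (b := g b) ?_ ?_ ?_ ?_ ?_ ?_
  · rw [← map_pow, ha, map_one]
  · rw [← map_pow, hb, map_one]
  · rw [← map_pow, hz, map_one]
  · rw [← map_mul, hab, map_mul, map_mul]
  · rw [← map_mul, hza, map_mul]
  · rw [← map_mul, hzb, map_mul]

end SU

end Cfsg.Agent.H294.SpThree
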