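import Cfsg.Agent.H294.U42Mat

/-!
# The elementary abelian subgroup `E` of order 16 of `SU₄(2)` (helper294)
-/

set_option autoImplicit false
set_option linter.unusedSectionVars false

namespace Cfsg.Agent.H294.U42

open Matrix Cfsg Cfsg.Agent.Lib.FieldFour
open Cfsg.Agent.LieClassical.HermBasic Cfsg.Agent.LieClassical.HermSiegel

/-! ### finite checks -/

/-- the Hermitian matrix of `b₁` -/
def H1 : M2 := !![0,1;1,0]
/-- see the head of the file -/
def H2 : M2 := !![0,.w;.v,0]
/-- see the head of the file -/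
def H3 : M2 := !![1,1;1,0]
/-- see the head of the file -/
def H4 : M2 := !![0,1;1,1]
/-- see the head of the file -/
def y : M2 := !![0,1;1,1]
/-- see the head of the file -/
def y' : M2 := !![1,1;1,0]

/-- 2×2 matrices by entries -/
def m (a b c d : F4) : M2 := !![a,b;c,d]

theorem eta (g : M2) : g = m (g 0 0) (g 0 1) (g 1 0) (g 1 1) := Matrix.eta_fin_two g

theorem H1H1 : H1 * H1 = 1 := by decide +kernel

theorem checkA : ∀ a b c d : F4, m a b c d * H1 * S (m a b c d) = H1 → m a b c d * m a b c d = 1 →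
    (m a b c d * (y * m a b c d * y')) * (m a b c d * (y * m a b c d * y')) = 1 → m a b c d = 1 := by
  decide +kernel

theorem checkB : ∀ a b c d : F4, m a b c d * H1 * S (m a b c d) = H1 →
    (m a b c d * m a b c d * m a b c d) * (m a b c d * m a b c d * m a b c d) = 1 := by
  decide +kernel

theorem checkC : ∀ l : F4, l ≠ 0 → ((Finset.univ : Finset (F4 × F4 × F4)).filter
    (fun t => fr t.1 = t.1 ∧ fr t.2.2 = t.2.2 ∧
      m 1 l 0 1 * m t.1 t.2.1 (fr t.2.1) t.2.2 * S (m 1 l 0 1) = m t.1 t.2.1 (fr t.2.1) t.2.2)).card ≤ 4 := by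
  decide +kernel

theorem checkD : ∀ a b c d : F4, m a b c d * H1 * S (m a b c d) = H1 → m a b c d * m a b c d = 1 → m a b c d ≠ 1 →
    ∀ a' b' c' d' : F4, m a' b' c' d' * H1 * S (m a' b' c' d') = H1 → m a' b' c' d' * m a' b' c' d' = 1 →
    m a' b' c' d' ≠ 1 →
    (m a b c d * m a' b' c' d') * (m a b c d * m a' b' c' d') = 1 → m a b c d * m a' b' c' d' = 1 := by
  decide +kernel

/-! ### elements -/

/-- Levi elements of order 2 -/
def lev (g : M2) (h : g * g = 1) : G := mk (lm g (S g)) (lm_unit (by rw [← S_mul, h, S_one])) (det_of_sq (by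
  have e : S g * S g = 1 := by rw [← S_mul, h, S_one]
  rw [lm, Matrix.add_mul, Matrix.mul_add, Matrix.mul_add]
  have a1 : ii * g * jS * (ii * g * jS) = ii * jS := by
    rw [show ii * g * jS * (ii * g * jS) = ii * (g * (jS * ii) * g) * jS by simp only [Matrix.mul_assoc], jSi,
      mul_one, h, Matrix.mul_one]
  have a2 : ii * g * jS * (jj * S g * pp) = 0 := by
    rw [show ii * g * jS * (jj * S g * pp) = ii * g * (jS * jj) * S g * pp by simp only [Matrix.mul_assoc], jSj]
    simp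
  have a3 : jj * S g * pp * (ii * g * jS) = 0 := by
    rw [show jj * S g * pp * (ii * g * jS) = jj * S g * (pp * ii) * g * jS by simp only [Matrix.mul_assoc], pi]
    simp
  have a4 : jj * S g * pp * (jj * S g * pp) = jj * pp := by
    rw [show jj * S g * pp * (jj * S g * pp) = jj * (S g * (pp * jj) * S g) * pp by simp only [Matrix.mul_assoc], pj,
      mul_one, e, Matrix.mul_one]
  rw [a1, a2, a3, a4, zero_add, add_zero]
  exact ijS))

theorem acts_lev (g : M2) (h : g * g = 1) : Acts (lev g h) g := lm_i g (S g)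

/-- the elements of `E` -/
def eG (H : M2) (h : S H = H) : G := mk (em H) (by rw [S_em, h, em_sq]) (det_of_sq (em_sq H))

theorem mat_eG (H : M2) (h : S H = H) : mat (eG H h) = em H := rfl

/-- the elementary abelian group of order 16 -/
def EE : Subgroup G where
  carrier := {x | Acts x 1}
  one_mem' := Acts.one
  mul_mem' := fun {a b} ha hb => by
    have := Acts.mul ha hb
    rwa [mul_one] at this
  inv_mem' := fun {a} ha => by
    obtain ⟨g', h1, h2, -⟩ := Acts.inv ha
    rw [mul_one] at h2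
    subst h2
    exact h1

theorem mem_EE {x : G} : x ∈ EE ↔ Acts x 1 := Iff.rfl

theorem mem_EE' {x : G} : x ∈ EE ↔ ∃ M : M2, S M = M ∧ mat x = em M :=
  ⟨fun h => eq_em h, fun ⟨_, _, h⟩ => acts_em h⟩

theorem EE_sq {x : G} (hx : x ∈ EE) : x * x = 1 := by
  obtain ⟨M, -, h⟩ := mem_EE'.1 hx
  apply mat_injective
  rw [mat_mul, h, em_sq, mat_one]

theorem EE_comm {x z : G} (hx : x ∈ EE) (hz : z ∈ EE) : x * z = z * x := by
  obtain ⟨M, -, h⟩ := mem_EE'.1 hx
  obtain ⟨N, -, h'⟩ := mem_EE'.1 hz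
  apply mat_injective
  rw [mat_mul, mat_mul, h, h', em_mul, em_mul, add_comm]

/-- Hermitian matrices -/
abbrev Hm := {t : F4 × F4 × F4 // fr t.1 = t.1 ∧ fr t.2.2 = t.2.2}

/-- see the head of the file -/
def hm (t : F4 × F4 × F4) : M2 := m t.1 t.2.1 (fr t.2.1) t.2.2

theorem S_hm (t : Hm) : S (hm t.1) = hm t.1 := by
  obtain ⟨⟨a, b, c⟩, h1, h2⟩ := t
  ext i k
  fin_cases i <;> fin_cases k
  · exact h1
  · exact fr_fr b
  · rfl
  · exact h2

theorem hm_inj {s t : F4 × F4 × F4} (h : hm s = hm t) : s = t := by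
  have h1 := congrFun (congrFun h 0) 0
  have h2 := congrFun (congrFun h 0) 1
  have h3 := congrFun (congrFun h 1) 1
  exact Prod.ext h1 (Prod.ext h2 h3)

theorem hm_surj {M : M2} (h : S M = M) : ∃ t : Hm, hm t.1 = M := by
  have e : ∀ i k, fr (M k i) = M i k := fun i k => congrFun (congrFun h i) k
  refine ⟨⟨(M 0 0, M 0 1, M 1 1), e 0 0, e 1 1⟩, ?_⟩
  ext i k
  fin_cases i <;> fin_cases k
  · rfl
  · rfl
  · exact e 1 0
  · rfl

/-- parametrization of `E` -/
noncomputable def toE : Hm ≃ EE := Equiv.ofBijective (fun t => ⟨eG (hm t.1) (S_hm t), mem_EE'.2 ⟨_, S_hm t, rfl⟩⟩) (by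
  constructor
  · intro s t h
    have h1 : em (hm s.1) = em (hm t.1) := congrArg (fun z : EE => mat (z : G)) h
    exact Subtype.ext (hm_inj (em_inj h1))
  · rintro ⟨x, hx⟩
    obtain ⟨M, hM, h⟩ := mem_EE'.1 hx
    obtain ⟨t, rfl⟩ := hm_surj hM
    exact ⟨t, Subtype.ext (mat_injective h.symm)⟩)

theorem card_EE : Nat.card EE = 16 := by
  rw [← Nat.card_congr toE, Nat.card_eq_fintype_card]
  decide +kernel

instance : Finite G := by unfold G; infer_instance

/-- `b₁` -/
def b1 : G := eG H1 (by decide +kernel)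

theorem mat_b1 : mat b1 = em H1 := rfl

theorem comm_b1 {x : G} (h : x * b1 = b1 * x) : ∃ g, Acts x g ∧ g * H1 * S g = H1 := by
  apply acts_of_comm H1H1
  rw [← mat_b1, ← mat_mul, ← mat_mul, h]

theorem Acts.comm_b1 {x : G} {g : M2} (h : Acts x g) (hg : g * H1 * S g = H1) : x * b1 = b1 * x := by
  have h1 := h.conj H1
  rw [hg, ← mat_b1, ← mat_mul, ← mat_mul] at h1
  exact mul_inv_eq_iff_eq_mul.1 (mat_injective h1)

/-- the two generators of a group `S₃` -/
def s2 : M2 := !![0,1;1,0]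
/-- see the head of the file -/
def t2 : M2 := !![1,1;0,1]

/-- an element of order three commuting with `b₁` -/
def yG : G := lev s2 (by decide +kernel) * lev t2 (by decide +kernel)

theorem acts_yG : Acts yG y := by
  have h := (acts_lev s2 (by decide +kernel)).mul (acts_lev t2 (by decide +kernel))
  rwa [show s2 * t2 = y by decide +kernel] at h

theorem acts_yG_inv : Acts yG⁻¹ y' := by
  obtain ⟨g', h1, h2, -⟩ := acts_yG.inv
  have e : y * y' = 1 := by decide +kernel
  have : g' = y' := by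
    calc g' = g' * (y * y') := by rw [e, mul_one]
      _ = y' := by rw [← mul_assoc, h2, one_mul]
  rwa [this] at h1

theorem yG_comm : yG * b1 = b1 * yG := acts_yG.comm_b1 (by decide +kernel)

theorem sq_one {x : G} {g : M2} (h : Acts x g) (hg : g * H1 * S g = H1) {k : ℕ} (hx : x ^ 2 ^ k = 1) : g * g = 1 := by
  have h1 : g ^ 2 ^ k = 1 := by
    have := h.pow (2 ^ k)
    rw [hx] at this
    exact this.unique Acts.one
  have h2 : g ^ 6 = 1 := by
    have h3 := checkB (g 0 0) (g 0 1) (g 1 0) (g 1 1)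
    rw [← eta g] at h3
    rw [← h3 hg]
    simp only [pow_succ, pow_zero, one_mul, mul_assoc]
  have h3 : orderOf g ∣ 2 := by
    have a1 := orderOf_dvd_of_pow_eq_one h1
    have a2 := orderOf_dvd_of_pow_eq_one h2
    have a3 : orderOf g ∣ 4 := by
      rcases Nat.eq_zero_or_pos k with rfl | hk
      · exact a1.trans (by norm_num)
      · obtain ⟨i, -, hi⟩ := (Nat.dvd_prime_pow Nat.prime_two).1 a1
        rw [hi] at a2 ⊢
        by_cases h4 : 2 ≤ i
        · exfalso
          have := (pow_dvd_pow 2 h4).trans a2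
          norm_num at this
        · exact pow_dvd_pow 2 (by omega : i ≤ 2)
    have a4 := Nat.dvd_gcd a2 a3
    norm_num at a4
    exact a4
  have h4 := orderOf_dvd_iff_pow_eq_one.1 h3
  rwa [pow_two] at h4

/-- **A 2-subgroup normalized by `C(b₁)` and commuting with `b₁` lies in `E`.** -/
theorem R_le {R : Subgroup G} (hR : IsPGroup 2 R) (hc : ∀ r ∈ R, r * b1 = b1 * r)
    (hn : ∀ g, g * b1 = b1 * g → ∀ r ∈ R, g * r * g⁻¹ ∈ R) : R ≤ EE := by
  intro r hr
  obtain ⟨g, hg, hgH⟩ := comm_b1 (hc r hr)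
  have hpow : ∀ r ∈ R, ∃ k : ℕ, r ^ 2 ^ k = 1 := by
    intro r hr
    obtain ⟨k, hk⟩ := hR ⟨r, hr⟩
    exact ⟨k, congrArg Subtype.val hk⟩
  obtain ⟨k, hk⟩ := hpow r hr
  have h1 := sq_one hg hgH hk
  have h2 : r * (yG * r * yG⁻¹) ∈ R := R.mul_mem hr (hn yG yG_comm r hr)
  have h3 : Acts (r * (yG * r * yG⁻¹)) (g * (y * g * y')) := hg.mul ((acts_yG.mul hg).mul acts_yG_inv)
  obtain ⟨g', hg', hgH'⟩ := comm_b1 (hc _ h2)
  have h4 := hg'.unique h3
  subst h4
  obtain ⟨k', hk'⟩ := hpow _ h2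
  have h5 := sq_one hg' hgH' hk'
  have h6 := checkA (g 0 0) (g 0 1) (g 1 0) (g 1 1)
  rw [← eta g] at h6
  rw [h6 hgH h1 h5] at hg
  exact hg

theorem card_le_of_EE {R : Subgroup G} (h : R ≤ EE) (hc : 16 ≤ Nat.card R) : EE ≤ R := by
  have h1 : R = EE := by
    apply SetLike.coe_injective
    apply Set.eq_of_subset_of_ncard_le h _ (Set.toFinite _)
    rw [← Nat.card_coe_set_eq, ← Nat.card_coe_set_eq]
    change Nat.card EE ≤ Nat.card R
    rw [card_EE]
    exact hc
  rw [h1]

/-- **A 2-subgroup commuting with `b₁` has order at most 32.** -/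
theorem card_two_le {T : Subgroup G} (hT : IsPGroup 2 T) (hc : ∀ r ∈ T, r * b1 = b1 * r) : Nat.card T ≤ 32 := by
  have hpow : ∀ r ∈ T, ∃ k : ℕ, r ^ 2 ^ k = 1 := by
    intro r hr
    obtain ⟨k, hk⟩ := hT ⟨r, hr⟩
    exact ⟨k, congrArg Subtype.val hk⟩
  set D := EE.subgroupOf T with hD
  have hDc : Nat.card D ≤ 16 := by
    rw [← card_EE]
    exact Nat.card_le_card_of_injective (fun x : D => (⟨((x : T) : G), x.2⟩ : EE)) (by
      intro a b h
      have h1 : ((a : T) : G) = ((b : T) : G) := congrArg (fun z : EE => (z : G)) h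
      exact Subtype.ext (Subtype.ext h1))
  have hmem : ∀ a b : T, a ∉ D → b ∉ D → b * a ∈ D := by
    intro a b ha hb
    obtain ⟨g, hg, hgH⟩ := comm_b1 (hc a a.2)
    obtain ⟨h, hh, hhH⟩ := comm_b1 (hc b b.2)
    obtain ⟨k, hk⟩ := hpow a a.2
    obtain ⟨l, hl⟩ := hpow b b.2
    obtain ⟨n, hn⟩ := hpow (b * a) (T.mul_mem b.2 a.2)
    have g1 := sq_one hg hgH hk
    have h1 := sq_one hh hhH hl
    have hhg := hh.mul hg
    obtain ⟨g', hg', hgH'⟩ := comm_b1 (hc (b * a) (T.mul_mem b.2 a.2))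
    have e := hg'.unique hhg
    subst e
    have n1 := sq_one hg' hgH' hn
    have gne : g ≠ 1 := by
      rintro rfl
      exact ha (Subgroup.mem_subgroupOf.2 hg)
    have hne : h ≠ 1 := by
      rintro rfl
      exact hb (Subgroup.mem_subgroupOf.2 hh)
    have h6 := checkD (h 0 0) (h 0 1) (h 1 0) (h 1 1)
    rw [← eta h] at h6
    have h7 := h6 hhH h1 hne (g 0 0) (g 0 1) (g 1 0) (g 1 1)
    rw [← eta g] at h7
    have h8 := h7 hgH g1 gne n1
    rw [h8] at hg'
    exact Subgroup.mem_subgroupOf.2 hg'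
  by_cases htop : D = ⊤
  · have h1 : Nat.card T = Nat.card D := by rw [htop, Subgroup.card_top]
    omega
  · obtain ⟨a, ha⟩ : ∃ a : T, a ∉ D := by
      by_contra h
      push Not at h
      exact htop (eq_top_iff.2 fun x _ => h x)
    have h2 : D.index = 2 := by
      rw [Subgroup.index_eq_two_iff]
      refine ⟨a, fun b => ?_⟩
      by_cases hb : b ∈ D
      · right
        refine ⟨hb, fun h => ha ?_⟩
        have := D.mul_mem (D.inv_mem hb) h
        rwa [inv_mul_cancel_left] at this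
      · left
        exact ⟨hmem a b ha hb, hb⟩
    rw [← D.card_mul_index, h2]
    omega

end Cfsg.Agent.H294.U42
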