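import Cfsg.Agent.H294.UFix
import Cfsg.Agent.Lib.FieldFour
import Cfsg.Agent.LieClassical.FieldTransfer

/-!
# Matrices for `SU₄(2)` (helper294)

The stabilizer of the totally isotropic subspace `W = ⟨(1,1,0,0), (0,0,1,1)⟩`.
-/

set_option autoImplicit false
set_option linter.unusedSectionVars false

namespace Cfsg.Agent.H294.U42

open Matrix Cfsg Cfsg.Agent.Lib.FieldFour
open Cfsg.Agent.LieClassical.HermBasic Cfsg.Agent.LieClassical.HermSiegel

/-- 2×2 matrices -/
abbrev M2 := Matrix (Fin 2) (Fin 2) F4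
/-- 4×4 matrices -/
abbrev M4 := Matrix (Fin 4) (Fin 4) F4

/-- the Frobenius automorphism -/
def fr : F4 →+* F4 where
  toFun a := a * a
  map_one' := by decide
  map_mul' := by decide
  map_zero' := by decide
  map_add' := by decide

theorem fr_apply (a : F4) : fr a = a * a := rfl
theorem fr_fr : ∀ a : F4, fr (fr a) = a := by decide

/-- conjugate transpose -/
def S {m n : Type*} (x : Matrix m n F4) : Matrix n m F4 := (x.map fr)ᵀ

section
variable {m n k : Type*} [Fintype m] [Fintype n] [Fintype k]

theorem S_mul (x : Matrix m n F4) (y : Matrix n k F4) : S (x * y) = S y * S x := by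
  rw [S, Matrix.map_mul, transpose_mul]; rfl

theorem S_add (x y : Matrix m n F4) : S (x + y) = S x + S y := by
  rw [S, Matrix.map_add _ (map_add fr), transpose_add]; rfl

theorem S_S (x : Matrix m n F4) : S (S x) = x := by
  ext a b
  exact fr_fr _

theorem S_one [DecidableEq n] : S (1 : Matrix n n F4) = 1 := by
  rw [S, Matrix.map_one _ (map_zero fr) (map_one fr), transpose_one]

end

/-- see the head of the file -/
def ii : Matrix (Fin 4) (Fin 2) F4 := !![1,0;1,0;0,1;0,1]
/-- see the head of the file -/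
def pp : Matrix (Fin 2) (Fin 4) F4 := !![1,1,0,0;0,0,1,1]
/-- see the head of the file -/
def ll : Matrix (Fin 2) (Fin 4) F4 := !![0,1,0,0;0,0,0,1]
/-- see the head of the file -/
def rr : Matrix (Fin 4) (Fin 2) F4 := !![1,0;0,0;0,1;0,0]
/-- see the head of the file -/
def jj : Matrix (Fin 4) (Fin 2) F4 := !![.w,0;.v,0;0,.w;0,.v]
/-- see the head of the file -/
def jS : Matrix (Fin 2) (Fin 4) F4 := !![.v,.w,0,0;0,0,.v,.w]

theorem pi : pp * ii = 0 := by decide +kernel
theorem li : ll * ii = 1 := by decide +kernel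
theorem pr1 : pp * rr = 1 := by decide +kernel
theorem lr : ll * rr = 0 := by decide +kernel
theorem ilrp : ii * ll + rr * pp = 1 := by decide +kernel
theorem Si : S ii = pp := by decide +kernel
theorem Sp : S pp = ii := by decide +kernel
theorem Sj : S jj = jS := by decide +kernel
theorem SjS : S jS = jj := by decide +kernel
theorem pj : pp * jj = 1 := by decide +kernel
theorem jSi : jS * ii = 1 := by decide +kernel
theorem jSj : jS * jj = 0 := by decide +kernel
theorem ijS : ii * jS + jj * pp = 1 := by decide +kernel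

/-- elements of the unipotent radical -/
def em (H : M2) : M4 := 1 + ii * H * pp

theorem em_mul (H K : M2) : em H * em K = em (H + K) := by
  have h : ii * H * pp * (ii * K * pp) = 0 := by
    rw [show ii * H * pp * (ii * K * pp) = ii * H * (pp * ii) * K * pp by simp only [Matrix.mul_assoc], pi]
    simp
  rw [em, em, em, add_mul, one_mul, mul_add, h, mul_one, add_zero, Matrix.mul_add, Matrix.add_mul]
  abel

theorem em_zero : em 0 = 1 := by
  rw [em]; simp

theorem add_self (H : M2) : H + H = 0 := by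
  ext a b
  exact (by decide : ∀ x : F4, x + x = 0) _

theorem em_sq (H : M2) : em H * em H = 1 := by rw [em_mul, add_self, em_zero]

theorem S_em (H : M2) : S (em H) = em (S H) := by
  rw [em, em, S_add, S_one, S_mul, S_mul, Si, Sp, Matrix.mul_assoc]

theorem em_inj {H K : M2} (h : em H = em K) : H = K := by
  have h1 : ll * em H * rr = ll * em K * rr := by rw [h]
  have key : ∀ H : M2, ll * em H * rr = H := by
    intro H
    rw [em, Matrix.mul_add, Matrix.add_mul, Matrix.mul_one, lr, zero_add]
    calc ll * (ii * H * pp) * rr = (ll * ii) * H * (pp * rr) := by simp only [Matrix.mul_assoc]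
      _ = H := by rw [li, pr1, one_mul, mul_one]
  rwa [key, key] at h1

theorem det_of_sq {X : M4} (h : X * X = 1) : X.det = 1 := by
  have h1 : X.det * X.det = 1 := by rw [← det_mul, h, det_one]
  exact (by decide : ∀ x : F4, x * x = 1 → x = 1) _ h1

/-- Levi elements; `g' = (S g)⁻¹` -/
def lm (g g' : M2) : M4 := ii * g * jS + jj * g' * pp

theorem lm_i (g g' : M2) : lm g g' * ii = ii * g := by
  rw [lm, Matrix.add_mul]
  rw [show ii * g * jS * ii = ii * g * (jS * ii) by simp only [Matrix.mul_assoc], jSi, Matrix.mul_one,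
    show jj * g' * pp * ii = jj * g' * (pp * ii) by simp only [Matrix.mul_assoc], pi, Matrix.mul_zero, add_zero]

theorem lm_unit {g g' : M2} (h : S g * g' = 1) : S (lm g g') * lm g g' = 1 := by
  have h' : g' * S g = 1 := mul_eq_one_comm.1 h
  have h2 : S g' * g = 1 := by
    have := congrArg S h'
    rwa [S_mul, S_S, S_one, mul_eq_one_comm] at this
  have h3 : g * S g' = 1 := mul_eq_one_comm.1 h2
  have e1 : S (lm g g') = jj * S g * pp + ii * S g' * jS := by
    rw [lm, S_add, S_mul, S_mul, S_mul, S_mul, Si, SjS, Sp, Sj]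
    simp only [Matrix.mul_assoc]
  rw [e1, lm, Matrix.add_mul, Matrix.mul_add, Matrix.mul_add]
  have a1 : jj * S g * pp * (ii * g * jS) = 0 := by
    rw [show jj * S g * pp * (ii * g * jS) = jj * S g * (pp * ii) * g * jS by simp only [Matrix.mul_assoc], pi]
    simp
  have a2 : jj * S g * pp * (jj * g' * pp) = jj * pp := by
    rw [show jj * S g * pp * (jj * g' * pp) = jj * (S g * (pp * jj) * g') * pp by simp only [Matrix.mul_assoc], pj,
      mul_one, h, Matrix.mul_one]
  have a3 : ii * S g' * jS * (ii * g * jS) = ii * jS := by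
    rw [show ii * S g' * jS * (ii * g * jS) = ii * (S g' * (jS * ii) * g) * jS by simp only [Matrix.mul_assoc], jSi,
      mul_one, h2, Matrix.mul_one]
  have a4 : ii * S g' * jS * (jj * g' * pp) = 0 := by
    rw [show ii * S g' * jS * (jj * g' * pp) = ii * S g' * (jS * jj) * g' * pp by simp only [Matrix.mul_assoc], jSj]
    simp
  rw [a1, a2, a3, a4, zero_add, add_zero, add_comm]
  exact ijS

/-! ### the group -/

/-- the group `SU₄(2)` -/
abbrev G := SU 4 F4 2

theorem fr_sq (a : F4) : a ^ 2 = fr a := pow_two a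

theorem herm_eq (u v : Fin 4 → F4) : hermForm 4 F4 2 u v = u ⬝ᵥ (fun a => fr (v a)) := by
  rw [hermForm, dotProduct]
  exact Finset.sum_congr rfl fun _ _ => by rw [fr_sq]

theorem fr_mulVec (X : M4) (u : Fin 4 → F4) : (fun a => fr ((X *ᵥ u) a)) = (X.map fr) *ᵥ (fun a => fr (u a)) := by
  ext a
  rw [mulVec, mulVec, dotProduct, dotProduct, map_sum]
  exact Finset.sum_congr rfl fun _ _ => by rw [map_mul, map_apply]

theorem unit (x : G) : S (mat x) * mat x = 1 := by
  have h : ∀ u v : Fin 4 → F4, u ⬝ᵥ (((mat x)ᵀ * (mat x).map fr) *ᵥ v) = u ⬝ᵥ v := by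
    intro u v
    have h1 := x.2 u (fun a => fr (v a))
    change hermForm 4 F4 2 (mat x *ᵥ u) (mat x *ᵥ _) = hermForm 4 F4 2 u _ at h1
    rw [herm_eq, herm_eq, fr_mulVec] at h1
    have h2 : (fun a => fr ((fun a => fr (v a)) a)) = v := funext fun a => fr_fr _
    rw [h2] at h1
    rw [← h1, ← mulVec_mulVec, dotProduct_mulVec, vecMul_transpose]
  have h2 : (mat x)ᵀ * (mat x).map fr = 1 := by
    ext a b
    have h3 := h (Pi.single a 1) (Pi.single b 1)
    rw [single_one_dotProduct, mulVec_single_one, single_one_dotProduct] at h3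
    rw [Matrix.one_apply]
    rw [col_apply] at h3
    rw [h3, Pi.single_apply]
  have h3 := congrArg transpose h2
  rwa [transpose_mul, transpose_one, transpose_transpose] at h3

theorem unit' (x : G) : mat x * S (mat x) = 1 := mul_eq_one_comm.1 (unit x)

theorem mat_inv (x : G) : mat x⁻¹ = S (mat x) := by
  have h : mat x⁻¹ * mat x = 1 := by rw [← mat_mul, inv_mul_cancel, mat_one]
  calc mat x⁻¹ = mat x⁻¹ * (mat x * S (mat x)) := by rw [unit', mul_one]
    _ = S (mat x) := by rw [← mul_assoc, h, one_mul]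

/-- constructor -/
def mk (X : M4) (h : S X * X = 1) (hd : X.det = 1) : G := mkSU X hd (by
  intro u v
  rw [herm_eq, herm_eq, fr_mulVec]
  have h1 : Xᵀ * X.map fr = 1 := by
    have := congrArg transpose h
    rwa [transpose_mul, transpose_one, S, transpose_transpose] at this
  have key : ∀ w : Fin 4 → F4, (X *ᵥ u) ⬝ᵥ (X.map fr *ᵥ w) = u ⬝ᵥ ((Xᵀ * X.map fr) *ᵥ w) := by
    intro w
    rw [← mulVec_mulVec, dotProduct_mulVec u, vecMul_transpose]
  rw [key, h1, one_mulVec])

theorem mat_mk (X : M4) (h : S X * X = 1) (hd : X.det = 1) : mat (mk X h hd) = X := rfl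

/-! ### the stabilizer of `W` -/

/-- `x` acts as `g` on `W` -/
def Acts (x : G) (g : M2) : Prop := mat x * ii = ii * g

theorem Acts.eq {x : G} {g : M2} (h : Acts x g) : ll * mat x * ii = g := by
  rw [Matrix.mul_assoc, h, ← Matrix.mul_assoc, li, one_mul]

theorem Acts.unique {x : G} {g g' : M2} (h : Acts x g) (h' : Acts x g') : g = g' := by
  rw [← h.eq, ← h'.eq]

theorem Acts.one : Acts 1 1 := by
  rw [Acts, mat_one, Matrix.one_mul, Matrix.mul_one]

theorem Acts.mul {x y : G} {g h : M2} (hx : Acts x g) (hy : Acts y h) : Acts (x * y) (g * h) := by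
  rw [Acts, mat_mul, Matrix.mul_assoc, hy, ← Matrix.mul_assoc, hx, Matrix.mul_assoc]

theorem Acts.pow {x : G} {g : M2} (hx : Acts x g) (n : ℕ) : Acts (x ^ n) (g ^ n) := by
  induction n with
  | zero => rw [pow_zero, pow_zero]; exact Acts.one
  | succ n ih => rw [pow_succ, pow_succ]; exact ih.mul hx

/-- the elements of the stabilizer act invertibly -/
theorem Acts.p {x : G} {g : M2} (h : Acts x g) : pp * mat x⁻¹ = S g * pp := by
  have h1 := congrArg S h
  rwa [S_mul, S_mul, Si, ← mat_inv] at h1

theorem Acts.inv {x : G} {g : M2} (h : Acts x g) : ∃ g', Acts x⁻¹ g' ∧ g' * g = 1 ∧ g * g' = 1 := by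
  -- `g` is injective, hence invertible
  obtain ⟨g', hg'⟩ : ∃ g' : M2, g' * g = 1 := by
    refine ⟨ll * mat x⁻¹ * ii, ?_⟩
    calc ll * mat x⁻¹ * ii * g = ll * mat x⁻¹ * (ii * g) := by simp only [Matrix.mul_assoc]
      _ = ll * (mat x⁻¹ * mat x) * ii := by rw [← h]; simp only [Matrix.mul_assoc]
      _ = 1 := by rw [← mat_mul, inv_mul_cancel, mat_one, Matrix.mul_one, li]
  have hg : g * g' = 1 := mul_eq_one_comm.1 hg'
  refine ⟨g', ?_, hg', hg⟩
  calc mat x⁻¹ * ii = mat x⁻¹ * (ii * (g * g')) := by rw [hg, Matrix.mul_one]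
    _ = mat x⁻¹ * (ii * g) * g' := by simp only [Matrix.mul_assoc]
    _ = mat x⁻¹ * mat x * ii * g' := by rw [← h]; simp only [Matrix.mul_assoc]
    _ = ii * g' := by rw [← mat_mul, inv_mul_cancel, mat_one, Matrix.one_mul]

/-- conjugation -/
theorem Acts.conj {x : G} {g : M2} (h : Acts x g) (H : M2) : mat x * em H * mat x⁻¹ = em (g * H * S g) := by
  rw [em, em, Matrix.mul_add, Matrix.add_mul, Matrix.mul_one, ← mat_mul, mul_inv_cancel, mat_one]
  congr 1
  calc mat x * (ii * H * pp) * mat x⁻¹ = (mat x * ii) * H * (pp * mat x⁻¹) := by simp only [Matrix.mul_assoc]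
    _ = ii * g * H * (S g * pp) := by rw [h, h.p]
    _ = _ := by simp only [Matrix.mul_assoc]

/-- the centralizer of `1 + i H p`, `H` invertible -/
theorem acts_of_comm {x : G} {H K : M2} (hK : H * K = 1) (hx : mat x * em H = em H * mat x) :
    ∃ g, Acts x g ∧ g * H * S g = H := by
  have h1 : mat x * (ii * H * pp) = ii * H * pp * mat x := by
    rw [em, Matrix.mul_add, Matrix.add_mul, Matrix.mul_one, Matrix.one_mul] at hx
    exact add_left_cancel hx
  have h2 : mat x * ii = ii * (H * pp * mat x * rr * K) := by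
    calc mat x * ii = mat x * ii * (H * (pp * rr) * K) := by rw [pr1, Matrix.mul_one, hK, Matrix.mul_one]
      _ = mat x * (ii * H * pp) * rr * K := by simp only [Matrix.mul_assoc]
      _ = _ := by rw [h1]; simp only [Matrix.mul_assoc]
  refine ⟨_, h2, ?_⟩
  have h3 := Acts.conj h2 H
  have h4 : mat x * em H * mat x⁻¹ = em H := by
    rw [hx, Matrix.mul_assoc, ← mat_mul, mul_inv_cancel, mat_one, Matrix.mul_one]
  rw [h4] at h3
  exact (em_inj h3).symm

/-- the kernel -/
theorem eq_em {x : G} (h : Acts x 1) : ∃ M : M2, S M = M ∧ mat x = em M := by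
  have h1 : mat x * ii = ii := by rw [h, Matrix.mul_one]
  have h2 : pp * mat x = pp := by
    have h3 := h.p
    rw [S_one, Matrix.one_mul] at h3
    calc pp * mat x = pp * mat x⁻¹ * mat x := by rw [h3]
      _ = pp := by rw [Matrix.mul_assoc, ← mat_mul, inv_mul_cancel, mat_one, Matrix.mul_one]
  have h3 : mat x = em (ll * (mat x - 1) * rr) := by
    have e1 : (mat x - 1) * ii = 0 := by rw [Matrix.sub_mul, h1, Matrix.one_mul, sub_self]
    have e2 : pp * (mat x - 1) = 0 := by rw [Matrix.mul_sub, h2, Matrix.mul_one, sub_self]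
    have e3 : ii * (ll * (mat x - 1) * rr) * pp = mat x - 1 := by
      calc ii * (ll * (mat x - 1) * rr) * pp = (ii * ll) * (mat x - 1) * (rr * pp) := by simp only [Matrix.mul_assoc]
        _ = (ii * ll + rr * pp) * (mat x - 1) * (ii * ll + rr * pp) := by
            have f1 : rr * pp * (mat x - 1) = 0 := by rw [Matrix.mul_assoc, e2, Matrix.mul_zero]
            have f2 : ii * ll * (mat x - 1) * (ii * ll) = 0 := by
              rw [show ii * ll * (mat x - 1) * (ii * ll) = ii * ll * ((mat x - 1) * ii) * ll by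
                simp only [Matrix.mul_assoc], e1]
              simp
            have f3 : (ii * ll + rr * pp) * (mat x - 1) = ii * ll * (mat x - 1) := by
              rw [Matrix.add_mul, f1, add_zero]
            rw [f3, Matrix.mul_add, f2, zero_add]
        _ = mat x - 1 := by rw [ilrp, one_mul, Matrix.mul_one]
    rw [em, e3]
    abel
  obtain ⟨N, hN⟩ : ∃ N, N = ll * (mat x - 1) * rr := ⟨_, rfl⟩
  rw [← hN] at h3
  refine ⟨N, ?_, h3⟩
  have h4 := unit x
  rw [h3, S_em, em_mul] at h4
  have h5 : S N + N = 0 := em_inj (by rw [h4, em_zero])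
  calc S N = S N + (N + N) := by rw [add_self, add_zero]
    _ = (S N + N) + N := by rw [add_assoc]
    _ = N := by rw [h5, zero_add]

theorem acts_em {x : G} {M : M2} (h : mat x = em M) : Acts x 1 := by
  rw [Acts, h, em, Matrix.add_mul, Matrix.one_mul, Matrix.mul_one]
  rw [show ii * M * pp * ii = ii * M * (pp * ii) by simp only [Matrix.mul_assoc], pi, Matrix.mul_zero, add_zero]

end Cfsg.Agent.H294.U42
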