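import Cfsg.Agent.H294.Gen
import Cfsg.Agent.H294.CoreU4
import Cfsg.Agent.H294.MulU4
import Cfsg.Agent.H294.MulSL
import Cfsg.Agent.KFacts.Mult.Unitary
import Cfsg.Agent.LieClassical.FieldTransfer

/-!
# Standard subgroups of type `U₄(q)`, `q ≥ 4` even, whose centralizer has cyclic Sylow 2-subgroups
-/

set_option autoImplicit false

namespace Cfsg.Agent.H294.U4Std

open Cfsg Subgroup Cfsg.Agent.H293.StdOdd Cfsg.Agent.H293.G2Odd Cfsg.Agent.H293.G2Std

open scoped commutatorElement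

universe u v

theorem exists_field (n : ℕ) (hn : 1 ≤ n) : ∃ (E : Type) (_ : Field E) (_ : Fintype E), Fintype.card E = 4 ^ n := by
  let _ : Fintype (GaloisField 2 (2 * n)) := Fintype.ofFinite _
  refine ⟨GaloisField 2 (2 * n), inferInstance, inferInstance, ?_⟩
  rw [← Nat.card_eq_fintype_card, GaloisField.card 2 (2 * n) (by omega), pow_mul]
  norm_num

/-- the quotient of a quasisimple group by its centre is not commutative -/
theorem not_comm_quot {L : Type*} [Group L] (h : IsQuasisimple L) : ¬ IsMulCommutative (L ⧸ center L) := by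
  intro hc
  have hp := h.1.commutator_eq_top
  have := h.2
  have h1 : (⊤ : Subgroup L) ≤ center L := by
    rw [← hp, _root_.commutator_def, commutator_le]
    intro a _ b _
    have h2 : (QuotientGroup.mk' (center L)) ⁅a, b⁆ = 1 := by
      rw [map_commutatorElement, commutatorElement_eq_one_iff_mul_comm]
      exact hc.1.1 _ _
    rw [← MonoidHom.mem_ker, QuotientGroup.ker_mk'] at h2
    exact h2
  have h3 : Subsingleton (L ⧸ center L) := ⟨fun a b => by
    have k : ∀ c : L ⧸ center L, c = 1 := fun c => by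
      obtain ⟨x, rfl⟩ := QuotientGroup.mk'_surjective _ c
      exact (QuotientGroup.eq_one_iff x).2 (h1 (mem_top x))
    rw [k a, k b]⟩
  exact not_subsingleton (L ⧸ center L) h3

variable {G : Type u} [Group G] [Finite G]

/-- **The theorem.** -/
theorem main (L : Subgroup G) (hL : Cfsg.IsStandardSubgroup L)
    {F : Type v} [Field F] [Fintype F] (n : ℕ) (hn : 2 ≤ n) (hF : Fintype.card F = 4 ^ n)
    (hLX : Nonempty ((↥L ⧸ Subgroup.center ↥L) ≃* Cfsg.PSU 4 F (2 ^ n)))
    (hR : ∀ R : Sylow 2 ↥(Subgroup.centralizer (L : Set G)), IsCyclic ↥(R : Subgroup ↥(Subgroup.centralizer (L : Set G)))) :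
    (L ⊔ Cfsg.oddCore G).Normal ∨
      (∃ (K : Type) (_ : Field K) (_ : Fintype K), Fintype.card K = 4 ^ n ∧
        Nonempty (↥(Subgroup.normalClosure (L : Set G)) ≃* Matrix.ProjectiveSpecialLinearGroup (Fin 4) K)) ∨
      Nonempty (↥(Subgroup.normalClosure (L : Set G)) ≃* Cfsg.PSU 4 F (2 ^ n) × Cfsg.PSU 4 F (2 ^ n)) := by
  by_cases hnorm : (L ⊔ Cfsg.oddCore G).Normal
  · exact Or.inl hnorm
  right
  have h : Hyp L := ⟨hL, hR⟩
  obtain ⟨eL⟩ := hLX
  obtain ⟨F₀, i1, i2, hF₀⟩ := exists_field n (by omega)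
  have φ : F ≃+* F₀ := FiniteField.ringEquivOfCardEq (by rw [hF, hF₀])
  have eφ : Cfsg.PSU 4 F (2 ^ n) ≃* Cfsg.PSU 4 F₀ (2 ^ n) := Cfsg.Agent.LieClassical.FieldTransfer.psuCongr 4 (2 ^ n) φ
  have e₀ := eL.trans eφ
  have hs : IsSimpleGroup (Cfsg.PSU 4 F₀ (2 ^ n)) := simple_congr e₀ hL.1.2
  have hnc : ¬ IsMulCommutative (Cfsg.PSU 4 F₀ (2 ^ n)) := nc_congr e₀ (not_comm_quot hL.1)
  have hsq : Fintype.card F₀ = (2 ^ n) ^ 2 := by rw [hF₀, ← pow_mul, mul_comm, pow_mul]; norm_num
  have hch : CharP F₀ 2 := Cfsg.Agent.StdRank2.UFourEnd.Chain.charTwo hF₀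
  have hND := Cfsg.Agent.KFacts.Mult.Unitary.u4 F₀ n hn hF₀
  have hZ : Odd (Nat.card (center ↥L)) := by
    have h1 := hND.odd_card (K := ↥L) hL.1.1.commutator_eq_top
      (f := e₀.toMonoidHom.comp (QuotientGroup.mk' (center ↥L)))
      (e₀.surjective.comp (QuotientGroup.mk'_surjective _)) (by
        intro x hx
        rw [MonoidHom.mem_ker, MonoidHom.comp_apply] at hx
        have h2 : QuotientGroup.mk' (center ↥L) x = 1 := e₀.injective (hx.trans (map_one e₀).symm)
        rw [← MonoidHom.mem_ker, QuotientGroup.ker_mk'] at h2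
        exact h2)
    have h3 : (e₀.toMonoidHom.comp (QuotientGroup.mk' (center ↥L))).ker = center ↥L := by
      ext x
      rw [MonoidHom.mem_ker, MonoidHom.comp_apply]
      constructor
      · intro hx
        have h2 : QuotientGroup.mk' (center ↥L) x = 1 := e₀.injective (hx.trans (map_one e₀).symm)
        rw [← MonoidHom.mem_ker, QuotientGroup.ker_mk'] at h2
        exact h2
      · intro hx
        have h2 : QuotientGroup.mk' (center ↥L) x = 1 := by
          rw [← MonoidHom.mem_ker, QuotientGroup.ker_mk']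
          exact hx
        rw [h2, map_one]
    rwa [h3] at h1
  have hcop : Nat.Coprime 4 (Nat.card F₀ - 1) := by
    rw [Nat.card_eq_fintype_card, hF₀]
    have h1 : Odd (4 ^ n - 1) := by
      have h2 : Even (4 ^ n) := (Nat.even_pow.2 ⟨by decide, by omega⟩)
      have h3 : 1 ≤ 4 ^ n := Nat.one_le_pow _ _ (by norm_num)
      exact Nat.Even.sub_odd h3 h2 odd_one
    exact Nat.Coprime.pow_left 2 ((Nat.coprime_two_left).2 h1)
  obtain ⟨-, hc⟩ := Gen.general h hnorm hs hnc (MulU4.noOddExt_U4 hsq hs hnc) hZ e₀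
    (MulSL.noOddExt_psl (n := 4) (by norm_num) hcop) (by
      intro H _ _ N A t C hZA e
      obtain ⟨-, ⟨z, hz, hz1, -, g, hg, -⟩, hN⟩ := CoreU4.u4_exact C hZA hn hF₀ e
      exact ⟨hN, g, z, hz, hz1, hg⟩)
  rcases hc with k | k
  · left
    exact ⟨F₀, i1, i2, hF₀, k⟩
  · right
    obtain ⟨k⟩ := k
    exact ⟨k.trans (eφ.symm.prodCongr eφ.symm)⟩

end Cfsg.Agent.H294.U4Std
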